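import Mathlib

/-!
# Idempotents of finite algebras over a local ring in which every monic polynomial splits

Lifting of idempotents, primitive idempotents, and the residue trace attached to an additive
function on idempotents: an idempotent `e = ∑ σ^i a` with `σ` of `p`-power period has value
divisible by `p`.
-/

set_option linter.style.haveILetI false
set_option linter.unusedSectionVars false

namespace Cfsg.Agent.Blocks.Star

open Polynomial

universe u v

/-- Every monic polynomial is a product of linear factors. -/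
def SplitsAll (O : Type u) [CommRing O] : Prop :=
  ∀ P : O[X], P.Monic → ∃ s : Multiset O, P = (s.map fun a => X - C a).prod

section Poly

variable {O : Type u} [CommRing O] [IsLocalRing O]

theorem isCoprime_prods (s t : Multiset O)
    (h : ∀ a ∈ s, ∀ b ∈ t, IsLocalRing.residue O a ≠ IsLocalRing.residue O b) :
    IsCoprime (s.map fun a => X - C a).prod (t.map fun a => X - C a).prod := by
  induction s using Multiset.induction_on with
  | empty => simpa using isCoprime_one_left
  | cons a s ih =>
    rw [Multiset.map_cons, Multiset.prod_cons]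
    refine IsCoprime.mul_left ?_ (ih fun x hx => h x (Multiset.mem_cons_of_mem hx))
    have ha := h a (Multiset.mem_cons_self a s)
    clear ih h
    induction t using Multiset.induction_on with
    | empty => simpa using isCoprime_one_right
    | cons b t ih =>
      rw [Multiset.map_cons, Multiset.prod_cons]
      refine IsCoprime.mul_right (isCoprime_X_sub_C_of_isUnit_sub ?_)
        (ih fun x hx => ha x (Multiset.mem_cons_of_mem hx))
      by_contra hu
      refine ha b (Multiset.mem_cons_self b t) ?_
      rw [← sub_eq_zero, ← map_sub, IsLocalRing.residue_eq_zero_iff, IsLocalRing.mem_maximalIdeal]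
      exact hu

end Poly

variable {O : Type u} [CommRing O] [IsLocalRing O] {R : Type v} [Ring R] [Algebra O R]

variable (O) (R) in
/-- The submodule `m R`. -/
def mR : Submodule O R := IsLocalRing.maximalIdeal O • (⊤ : Submodule O R)

theorem mR_mul_left {x : R} (hx : x ∈ mR O R) (y : R) : y * x ∈ mR O R := by
  induction hx using Submodule.smul_induction_on' with
  | smul a ha b _ =>
    rw [mul_smul_comm]
    exact Submodule.smul_mem_smul ha trivial
  | add a _ b _ iha ihb => rw [mul_add]; exact add_mem iha ihb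

theorem mR_mul_right {x : R} (hx : x ∈ mR O R) (y : R) : x * y ∈ mR O R := by
  induction hx using Submodule.smul_induction_on' with
  | smul a ha b _ =>
    rw [smul_mul_assoc]
    exact Submodule.smul_mem_smul ha trivial
  | add a _ b _ iha ihb => rw [add_mul]; exact add_mem iha ihb

theorem smul_mem_mR {a : O} (ha : a ∈ IsLocalRing.maximalIdeal O) (y : R) : a • y ∈ mR O R :=
  Submodule.smul_mem_smul ha trivial

theorem smul_sub_smul_mem {a b : O} (h : IsLocalRing.residue O a = IsLocalRing.residue O b)
    (y : R) : a • y - b • y ∈ mR O R := by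
  rw [← sub_smul]
  refine smul_mem_mR ?_ y
  rwa [← IsLocalRing.residue_eq_zero_iff, map_sub, sub_eq_zero]

/-- Evaluation at an element commutes with what commutes with it. -/
theorem commute_aeval {x y : R} (h : Commute y x) (q : O[X]) : Commute y (aeval x q) := by
  induction q using Polynomial.induction_on' with
  | add a b ha hb => rw [map_add]; exact ha.add_right hb
  | monomial n c =>
    rw [aeval_monomial]
    exact (show Commute y (algebraMap O R c) from (Algebra.commutes c y).symm).mul_right
      (h.pow_right n)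

section Finite

variable [Module.Finite O R]

/-- Nakayama: an idempotent in `m R` is zero. -/
theorem idem_eq_zero {e : R} (he : e * e = e) (h : e ∈ mR O R) : e = 0 := by
  set N : Submodule O R := LinearMap.range (LinearMap.mulLeft O e)
  have hfg : N.FG := by
    show (LinearMap.range (LinearMap.mulLeft O e)).FG
    rw [LinearMap.range_eq_map]
    exact Module.Finite.fg_top.map _
  have hle : N ≤ IsLocalRing.maximalIdeal O • N := by
    rintro _ ⟨y, rfl⟩
    have h1 : e * (e * y) ∈ IsLocalRing.maximalIdeal O • N := by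
      have h2 : e * (e * y) ∈ (mR O R).map (LinearMap.mulLeft O e) :=
        ⟨e * y, mR_mul_right h y, rfl⟩
      rwa [mR, Submodule.map_smul'', Submodule.map_top] at h2
    rwa [← mul_assoc, he] at h1
  have h0 := Submodule.eq_bot_of_le_smul_of_le_jacobson_bot (IsLocalRing.maximalIdeal O) N hfg hle
    (IsLocalRing.jacobson_eq_maximalIdeal ⊥ bot_ne_top).ge
  have : e * 1 ∈ (⊥ : Submodule O R) := h0 ▸ ⟨1, rfl⟩
  simpa using this

/-- What is congruent to one is a unit. -/
theorem isUnit_of_cong_one {w : R} (hw : w - 1 ∈ mR O R) : IsUnit w := by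
  have key : ∀ w : R, w - 1 ∈ mR O R → ∃ w', w * w' = 1 ∧ w' - 1 ∈ mR O R := by
    intro w hw
    have htop : LinearMap.range (LinearMap.mulLeft O w) = ⊤ := by
      refine top_le_iff.1 (Submodule.le_of_le_smul_of_le_jacobson_bot Module.Finite.fg_top
        (IsLocalRing.jacobson_eq_maximalIdeal ⊥ bot_ne_top).ge (I := IsLocalRing.maximalIdeal O)
        fun y _ => ?_)
      have : y = w * y + -((w - 1) * y) := by rw [sub_mul, one_mul]; abel
      rw [this]
      exact Submodule.add_mem_sup ⟨y, rfl⟩ (neg_mem (mR_mul_right hw y))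
    obtain ⟨w', hw'⟩ := (htop.ge (Submodule.mem_top (x := (1 : R))) :
      (1 : R) ∈ LinearMap.range (LinearMap.mulLeft O w))
    have hw'' : w * w' = 1 := hw'
    refine ⟨w', hw'', ?_⟩
    have : w' - 1 = -((w - 1) * w') := by rw [sub_mul, one_mul, hw'']; abel
    rw [this]
    exact neg_mem (mR_mul_right hw w')
  obtain ⟨w', h1, h2⟩ := key w hw
  obtain ⟨w'', h3, -⟩ := key w' h2
  have h4 : w'' = w := by
    calc w'' = w * w' * w'' := by rw [h1, one_mul]
      _ = w * (w' * w'') := mul_assoc _ _ _
      _ = w := by rw [h3, mul_one]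
  rw [h4] at h3
  exact ⟨⟨w, w', h1, h3⟩, rfl⟩

/-- Congruent idempotents are conjugate, by a unit commuting with what commutes with both. -/
theorem exists_conj_of_cong {e e' : R} (he : e * e = e) (he' : e' * e' = e')
    (h : e' - e ∈ mR O R) :
    ∃ w : Rˣ, (w : R) * e = e' * w ∧ ∀ y, Commute y e → Commute y e' → Commute y (w : R) := by
  set w := e' * e + (1 - e') * (1 - e) with hw
  have hc : w - 1 ∈ mR O R := by
    have : w - 1 = (e' - e) * e + -((e' - e) * (1 - e)) := by
      simp only [hw, sub_mul, mul_sub, mul_one, one_mul, he]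
      abel
    rw [this]
    exact add_mem (mR_mul_right h e) (neg_mem (mR_mul_right h _))
  refine ⟨(isUnit_of_cong_one hc).unit, ?_, fun y hy hy' => ?_⟩
  · show w * e = e' * w
    simp only [hw, add_mul, mul_add, mul_assoc, sub_mul, one_mul, he, sub_self, mul_zero,
      add_zero, mul_sub, ← mul_assoc e' e', he', zero_mul, mul_one]
  · show Commute y w
    exact (hy'.mul_right hy).add_right
      (((Commute.one_right y).sub_right hy').mul_right ((Commute.one_right y).sub_right hy))

/-- An element splits, by a polynomial in it, into an invertible and a nilpotent part. -/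
theorem exists_split (hO : SplitsAll O) (a : R) :
    ∃ q r : O[X], aeval a q * aeval a q = aeval a q ∧ aeval a r * a = aeval a q ∧
      ∃ n : ℕ, a ^ n * (1 - aeval a q) ∈ mR O R := by
  obtain ⟨P, hP, hPa⟩ := (IsIntegral.of_finite O a : IsIntegral O a)
  rw [← aeval_def] at hPa
  obtain ⟨s, rfl⟩ := hO P hP
  classical
  set s₀ := s.filter fun x => IsLocalRing.residue O x = 0
  set s₁ := s.filter fun x => ¬ IsLocalRing.residue O x = 0
  obtain ⟨c, d, hcd⟩ := isCoprime_prods (O := O) s₀ s₁ fun x hx y hy he =>
    (Multiset.mem_filter.1 hy).2 (he ▸ (Multiset.mem_filter.1 hx).2)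
  set g := (s₀.map fun x => X - C x).prod
  set h := (s₁.map fun x => X - C x).prod
  have hprod : (s.map fun x => X - C x).prod = g * h := by
    rw [← Multiset.prod_add, ← Multiset.map_add]
    exact congrArg (fun t => (t.map fun x => X - C x).prod)
      (Multiset.filter_add_not (fun x => IsLocalRing.residue O x = 0) s).symm
  rw [hprod] at hPa
  have hu : IsUnit (h.coeff 0) := by
    rw [← IsLocalRing.notMem_maximalIdeal, ← IsLocalRing.residue_eq_zero_iff, coeff_zero_eq_eval_zero,
      eval_multiset_prod, map_multiset_prod, Multiset.map_map, Multiset.map_map,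
      Multiset.prod_eq_zero_iff, Multiset.mem_map]
    rintro ⟨x, hx, hx0⟩
    exact (Multiset.mem_filter.1 hx).2 (by simpa using hx0)
  obtain ⟨v, hv⟩ := hu.exists_left_inv
  refine ⟨c * g, C (-v) * divX h * (c * g), ?_, ?_, s₀.card, ?_⟩
  · have h2 : aeval a (c * g) * aeval a (d * h) = 0 := by
      rw [← map_mul, show c * g * (d * h) = c * d * (g * h) by ring, map_mul, hPa, mul_zero]
    have h3 : aeval a (c * g) + aeval a (d * h) = 1 := by rw [← map_add, hcd, map_one]
    calc aeval a (c * g) * aeval a (c * g)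
        = aeval a (c * g) * (aeval a (c * g) + aeval a (d * h)) := by rw [mul_add, h2, add_zero]
      _ = aeval a (c * g) := by rw [h3, mul_one]
  · have h4 : C (-v) * divX h * (c * g) * X = c * g - C v * c * (g * h) := by
      conv_rhs => rw [← X_mul_divX_add h]
      have : C v * C (h.coeff 0) = (1 : O[X]) := by rw [← map_mul, hv, map_one]
      rw [map_neg]
      linear_combination (c * g) * this
    have := congrArg (aeval a) h4
    rw [map_mul, aeval_X, map_sub, map_mul (aeval a) (C v * c), hPa, mul_zero, sub_zero] at this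
    exact this
  · have hg0 : aeval a g * (1 - aeval a (c * g)) = 0 := by
      rw [← map_one (aeval (R := O) a), ← hcd, map_add (aeval a), add_sub_cancel_left, ← map_mul,
        show g * (d * h) = d * (g * h) by ring, map_mul, hPa, mul_zero]
    have hpow : ∀ t : Multiset O, (∀ x ∈ t, IsLocalRing.residue O x = 0) →
        a ^ t.card - aeval a (t.map fun x => X - C x).prod ∈ mR O R := by
      intro t ht
      induction t using Multiset.induction_on with
      | empty => simp
      | cons y t iht =>
        rw [Multiset.map_cons, Multiset.prod_cons, map_mul, Multiset.card_cons, pow_succ',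
          map_sub, aeval_X, aeval_C, sub_mul, ← Algebra.smul_def]
        rw [← sub_add, ← mul_sub]
        exact add_mem (mR_mul_left (iht fun x hx => ht x (Multiset.mem_cons_of_mem hx)) _)
          (smul_mem_mR ((IsLocalRing.residue_eq_zero_iff y).1 (ht y (Multiset.mem_cons_self y t))) _)
    have := mR_mul_right (hpow s₀ fun x hx => (Multiset.mem_filter.1 hx).2) (1 - aeval a (c * g))
    rwa [sub_mul, hg0, sub_zero] at this

/-- Lifting of idempotents, by a polynomial. -/
theorem exists_idem_lift (hO : SplitsAll O) {z : R} (hz : z * z - z ∈ mR O R) :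
    ∃ q : O[X], aeval z q * aeval z q = aeval z q ∧ aeval z q - z ∈ mR O R := by
  obtain ⟨q, r, hq, hr, n, hn⟩ := exists_split hO z
  refine ⟨q, hq, ?_⟩
  have h1 : aeval z q * z - aeval z q ∈ mR O R := by
    have := mR_mul_left hz (aeval z r)
    rwa [mul_sub, ← mul_assoc, hr] at this
  have h2 : (1 - aeval z q) * z ∈ mR O R := by
    have hc : Commute z (aeval z q) := commute_aeval (Commute.refl z) q
    have hstep : ∀ k : ℕ, z ^ (k + 1) - z ∈ mR O R := by
      intro k
      induction k with
      | zero => simp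
      | succ k ih =>
        have : z ^ (k + 1 + 1) - z = (z ^ (k + 1) - z) * z + (z * z - z) := by
          rw [pow_succ, sub_mul]; abel
        rw [this]
        exact add_mem (mR_mul_right ih z) hz
    have h3 := mR_mul_left hn z
    rw [← mul_assoc, ← pow_succ'] at h3
    have h4 := sub_mem h3 (mR_mul_right (hstep n) (1 - aeval z q))
    rw [← sub_mul, sub_sub_cancel] at h4
    rwa [((Commute.one_right z).sub_right hc).eq] at h4
  have := sub_mem (neg_mem h1) h2
  convert this using 1
  rw [sub_mul, one_mul]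
  abel

/-- Lifting inside a corner. -/
theorem exists_idem_lift_corner (hO : SplitsAll O) {π z : R} (hπ : π * π = π) (hl : π * z = z)
    (hr : z * π = z) (hz : z * z - z ∈ mR O R) :
    ∃ q : O[X], π * aeval z q * (π * aeval z q) = π * aeval z q ∧ π * aeval z q - z ∈ mR O R ∧
      π * aeval z q * π = π * aeval z q := by
  obtain ⟨q, he, hez⟩ := exists_idem_lift hO hz
  have hc : Commute π (aeval z q) := commute_aeval (hl.trans hr.symm) q
  refine ⟨q, ?_, ?_, by rw [mul_assoc, ← hc.eq, ← mul_assoc, hπ]⟩
  · rw [mul_assoc π, ← mul_assoc (aeval z q) π, ← hc.eq, mul_assoc π (aeval z q), he, ← mul_assoc,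
      hπ]
  · have := mR_mul_left hez π
    rwa [mul_sub, hl] at this

/-! ### Primitive idempotents -/

/-- A primitive idempotent. -/
structure IsPrim (j : R) : Prop where
  idem : j * j = j
  ne : j ≠ 0
  min : ∀ q : R, q * q = q → j * q = q → q * j = q → q = 0 ∨ q = j

/-- Nilpotent modulo `m R`. -/
def Nil (O : Type u) [CommRing O] [IsLocalRing O] {R : Type v} [Ring R] [Algebra O R] (x : R) : Prop :=
  ∃ n : ℕ, x ^ (n + 1) ∈ mR O R

/-- In a corner at a primitive idempotent every element has one eigenvalue. -/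
theorem exists_eig (hO : SplitsAll O) {j x : R} (hj : IsPrim j) (hl : j * x = x) (hr : x * j = x) :
    ∃ a : O, Nil O (x - a • j) := by
  classical
  obtain ⟨P, hP, hPz⟩ := (IsIntegral.of_finite O x : IsIntegral O x)
  rw [← aeval_def] at hPz
  obtain ⟨s, rfl⟩ := hO P hP
  have hjx : Commute j x := hl.trans hr.symm
  suffices ∀ (n : ℕ) (t : Multiset O), t.card = n →
      aeval x (t.map fun a => X - C a).prod * j = 0 → ∃ a : O, Nil O (x - a • j) from
    this _ s rfl (by rw [hPz, zero_mul])
  intro n
  induction n using Nat.strong_induction_on with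
  | _ n ih =>
    intro t hn hzero
    rcases t.empty_or_exists_mem with rfl | ⟨c, hc⟩
    · simp at hzero
      exact absurd hzero hj.ne
    set t₁ := t.filter fun a => IsLocalRing.residue O a = IsLocalRing.residue O c
    set t₀ := t.filter fun a => ¬ IsLocalRing.residue O a = IsLocalRing.residue O c
    obtain ⟨a, b, hab⟩ := isCoprime_prods (O := O) t₀ t₁ fun x hx y hy he =>
      (Multiset.mem_filter.1 hx).2 (he.trans (Multiset.mem_filter.1 hy).2)
    set g := (t₀.map fun x => X - C x).prod
    set h := (t₁.map fun x => X - C x).prod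
    have hprod : (t.map fun x => X - C x).prod = g * h := by
      rw [mul_comm, ← Multiset.prod_add, ← Multiset.map_add]
      exact congrArg (fun t => (t.map fun x => X - C x).prod)
        (Multiset.filter_add_not (fun a => IsLocalRing.residue O a = IsLocalRing.residue O c) t).symm
    rw [hprod] at hzero
    set e := j * aeval x (a * g) with he
    have hc1 : Commute j (aeval x (a * g)) := commute_aeval hjx _
    have hcalc : aeval x (a * g * (b * h)) * j = 0 := by
      rw [show a * g * (b * h) = a * b * (g * h) by ring, map_mul, mul_assoc, hzero, mul_zero]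
    have hee : e * e = e := by
      have h1 : a * g * (a * g) = a * g - a * g * (b * h) := by
        linear_combination (a * g) * hab
      have h2 : e * e = aeval x (a * g * (a * g)) * j := by
        rw [map_mul, he, hc1.eq, mul_assoc, ← mul_assoc j, hc1.eq, mul_assoc _ j j, hj.idem,
          ← mul_assoc]
      rw [h2, h1, map_sub, sub_mul, hcalc, sub_zero, he, hc1.eq]
    rcases hj.min e hee (by rw [he, ← mul_assoc, hj.idem])
        (by rw [he, hc1.eq, mul_assoc, hj.idem]) with h0 | h1
    · refine ih _ ?_ t₀ rfl ?_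
      · rw [← hn]
        refine Multiset.card_lt_card (lt_of_le_of_ne (Multiset.filter_le _ t) fun he' => ?_)
        exact (Multiset.filter_eq_self.1 he' c hc) rfl
      · have hbh : g = g * (a * g) + b * (g * h) := by linear_combination (-g) * hab
        have h3 : aeval x g * j =
            aeval x g * e + aeval x b * (aeval x (g * h) * j) := by
          conv_lhs => rw [hbh, map_add, add_mul, map_mul]
          rw [map_mul (aeval x) b, he, hc1.eq, mul_assoc, mul_assoc]
        rw [h3, h0, hzero, mul_zero, mul_zero, add_zero]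
    · refine ⟨c, t₁.card, ?_⟩
      have hjh : aeval x h * j = 0 := by
        calc aeval x h * j = aeval x h * e := by rw [h1]
          _ = aeval x h * (aeval x (a * g) * j) := by rw [he, hc1.eq]
          _ = aeval x a * (aeval x (g * h) * j) := by
            rw [← mul_assoc, ← mul_assoc, ← map_mul, ← map_mul,
              show h * (a * g) = a * (g * h) by ring]
          _ = 0 := by rw [hzero, mul_zero]
      have hpow : ∀ t : Multiset O,
          (∀ a ∈ t, IsLocalRing.residue O a = IsLocalRing.residue O c) →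
          aeval x (t.map fun a => X - C a).prod * j - (x - c • j) ^ t.card * j ∈ mR O R := by
        intro t ht
        induction t using Multiset.induction_on with
        | empty => simp
        | cons y t iht =>
          rw [Multiset.map_cons, Multiset.prod_cons, map_mul, Multiset.card_cons, pow_succ',
            mul_assoc, mul_assoc, map_sub, aeval_X, aeval_C, Algebra.algebraMap_eq_smul_one]
          have hju : Commute j ((x - c • j) ^ t.card) :=
            (hjx.sub_right ((Commute.refl j).smul_right c)).pow_right _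
          have e1 : (x - y • (1 : R)) * (aeval x (t.map fun a => X - C a).prod * j) -
              (x - c • j) * ((x - c • j) ^ t.card * j) =
              (x - y • (1 : R)) *
                (aeval x (t.map fun a => X - C a).prod * j - (x - c • j) ^ t.card * j) +
              (c • ((x - c • j) ^ t.card * j) - y • ((x - c • j) ^ t.card * j)) := by
            have e2 : c • j * ((x - c • j) ^ t.card * j) = c • ((x - c • j) ^ t.card * j) := by
              rw [smul_mul_assoc, ← mul_assoc, hju.eq, mul_assoc, hj.idem]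
            rw [mul_sub, sub_mul, sub_mul, sub_mul, e2, smul_mul_assoc, one_mul, smul_mul_assoc,
              one_mul]
            abel
          rw [e1]
          exact add_mem (mR_mul_left (iht fun a ha => ht a (Multiset.mem_cons_of_mem ha)) _)
            (smul_sub_smul_mem (ht y (Multiset.mem_cons_self y t)).symm _)
      have h2 := hpow t₁ fun a ha => (Multiset.mem_filter.1 ha).2
      rw [hjh, zero_sub, neg_mem_iff] at h2
      rw [pow_succ]
      have h4 : (x - c • j) ^ t₁.card * (x - c • j) = ((x - c • j) ^ t₁.card * j) * (x - c • j) := by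
        rw [mul_assoc, mul_sub j, hl, mul_smul_comm, hj.idem]
      rw [h4]
      exact mR_mul_right h2 _

theorem not_nil_of_left_inv {j x z : R} (hj : IsPrim j) (hl : j * x = x) (hz : z * x = j) :
    ¬ Nil O x := by
  rintro ⟨n, hn⟩
  have key : ∀ m : ℕ, z ^ (m + 1) * x ^ (m + 1) = j := by
    intro m
    induction m with
    | zero => simpa using hz
    | succ m ih =>
      rw [pow_succ z (m + 1), pow_succ' x (m + 1), mul_assoc, ← mul_assoc z, hz,
        pow_succ' x m, ← mul_assoc j, hl, ← pow_succ']
      exact ih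
  exact hj.ne (idem_eq_zero (O := O) hj.idem (key n ▸ mR_mul_left hn _))

theorem not_nil_of_right_inv {j x z : R} (hj : IsPrim j) (hr : x * j = x) (hz : x * z = j) :
    ¬ Nil O x := by
  rintro ⟨n, hn⟩
  have key : ∀ m : ℕ, x ^ (m + 1) * z ^ (m + 1) = j := by
    intro m
    induction m with
    | zero => simpa using hz
    | succ m ih =>
      rw [pow_succ x (m + 1), pow_succ' z (m + 1), mul_assoc, ← mul_assoc x z, hz,
        ← mul_assoc, pow_succ x m, mul_assoc (x ^ m), hr, ← pow_succ]
      exact ih
  exact hj.ne (idem_eq_zero (O := O) hj.idem (key n ▸ mR_mul_right hn _))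

theorem eig_unique {j x : R} (hj : IsPrim j) (hl : j * x = x) (hr : x * j = x) {a b : O}
    (ha : Nil O (x - a • j)) (hb : Nil O (x - b • j)) :
    IsLocalRing.residue O a = IsLocalRing.residue O b := by
  by_contra hne
  obtain ⟨n, hn⟩ := ha
  obtain ⟨m, hm⟩ := hb
  have hjx : Commute j x := hl.trans hr.symm
  have hab : ¬ a - b ∈ IsLocalRing.maximalIdeal O := fun h => hne (by
    rwa [← sub_eq_zero, ← map_sub, IsLocalRing.residue_eq_zero_iff])
  obtain ⟨d, hd⟩ := (IsLocalRing.notMem_maximalIdeal.1 hab).exists_left_inv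
  have hcomm : Commute (x - b • j) (x - a • j) := by
    refine ((Commute.refl x).sub_right (hjx.symm.smul_right a)).sub_left ?_
    exact ((hjx.sub_right ((Commute.refl j).smul_right a))).smul_left b
  have hsum : (x - b • j) - (x - a • j) = (a - b) • j := by rw [sub_smul]; abel
  have hpow : ((x - b • j) - (x - a • j)) ^ (n + m + 1) ∈ mR O R := by
    rw [sub_eq_add_neg, (hcomm.neg_right).add_pow]
    refine Submodule.sum_mem _ fun i hi => mR_mul_right ?_ _
    by_cases him : m + 1 ≤ i
    · obtain ⟨r, rfl⟩ := Nat.exists_eq_add_of_le him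
      rw [pow_add]
      exact mR_mul_right (mR_mul_right hm _) _
    · obtain ⟨r, hr'⟩ := Nat.exists_eq_add_of_le (show n + 1 ≤ n + m + 1 - i by omega)
      rw [hr', pow_add, neg_pow (x - a • j) (n + 1)]
      exact mR_mul_left (mR_mul_right (mR_mul_left hn _) _) _
  have hpj : ∀ k : ℕ, ((a - b) • j) ^ (k + 1) = (a - b) ^ (k + 1) • j := by
    intro k
    rw [_root_.smul_pow]
    congr 1
    exact IsIdempotentElem.pow_succ_eq k hj.idem
  rw [hsum, hpj] at hpow
  refine hj.ne (idem_eq_zero (O := O) hj.idem ?_)
  have := Submodule.smul_mem _ (d ^ (n + m + 1)) hpow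
  rwa [smul_smul, ← mul_pow, hd, one_pow, one_smul] at this

open Classical in
/-- The residue eigenvalue on a corner. -/
noncomputable def eig (O : Type u) [CommRing O] [IsLocalRing O] {R : Type v} [Ring R] [Algebra O R]
    (j x : R) : IsLocalRing.ResidueField O :=
  if h : ∃ a : O, Nil O (j * x * j - a • j) then IsLocalRing.residue O h.choose else 0

/-- `x` lies in the corner at `j`. -/
def InCorner (j x : R) : Prop := j * x = x ∧ x * j = x

theorem inCorner_mul_mul {j : R} (hj : j * j = j) (x : R) : InCorner j (j * x * j) :=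
  ⟨by rw [← mul_assoc, ← mul_assoc, hj], by rw [mul_assoc, hj]⟩

theorem InCorner.eq {j x : R} (h : InCorner j x) : j * x * j = x := by rw [h.1, h.2]

section Eig

variable (hO : SplitsAll O) {j : R} (hj : IsPrim j)
include hO hj

theorem eig_eq {x : R} (hx : InCorner j x) {a : O} (ha : Nil O (x - a • j)) :
    eig O j x = IsLocalRing.residue O a := by
  have h : ∃ a : O, Nil O (j * x * j - a • j) := ⟨a, by rwa [hx.eq]⟩
  rw [eig, dif_pos h]
  exact eig_unique hj hx.1 hx.2 (by simpa [hx.eq] using h.choose_spec) ha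

theorem exists_eig_eq {x : R} (hx : InCorner j x) :
    ∃ a : O, Nil O (x - a • j) ∧ eig O j x = IsLocalRing.residue O a := by
  obtain ⟨a, ha⟩ := exists_eig hO hj hx.1 hx.2
  exact ⟨a, ha, eig_eq hO hj hx ha⟩

theorem eig_smul_self (a : O) : eig O j (a • j) = IsLocalRing.residue O a :=
  eig_eq hO hj ⟨by rw [mul_smul_comm, hj.idem], by rw [smul_mul_assoc, hj.idem]⟩
    ⟨0, by simp⟩

theorem eig_self : eig O j j = 1 := by simpa using eig_smul_self hO hj (1 : O)

theorem nil_of_eig_zero {x : R} (hx : InCorner j x) (h : eig O j x = 0) : Nil O x := by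
  obtain ⟨a, ⟨n, hn⟩, ha⟩ := exists_eig_eq hO hj hx
  rw [h] at ha
  refine ⟨n, ?_⟩
  have ham : a ∈ IsLocalRing.maximalIdeal O := (IsLocalRing.residue_eq_zero_iff a).1 ha.symm
  have hpow : ∀ k : ℕ, x ^ k - (x - a • j) ^ k ∈ mR O R := by
    intro k
    induction k with
    | zero => simp
    | succ k ih =>
      have : x ^ (k + 1) - (x - a • j) ^ (k + 1) =
          (x ^ k - (x - a • j) ^ k) * x + a • ((x - a • j) ^ k * j) := by
        rw [pow_succ, pow_succ, sub_mul, ← mul_smul_comm]
        noncomm_ring
      rw [this]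
      exact add_mem (mR_mul_right ih x) (smul_mem_mR ham _)
  have := add_mem (hpow (n + 1)) hn
  simpa using this

theorem eig_zero_of_nil {x : R} (hx : InCorner j x) (h : Nil O x) : eig O j x = 0 := by
  rw [eig_eq hO hj hx (a := 0) (by simpa using h), map_zero]

theorem exists_inv {x : R} (hx : InCorner j x) (h : eig O j x ≠ 0) :
    ∃ z, InCorner j z ∧ z * x = j ∧ x * z = j := by
  obtain ⟨a, ⟨n, hn⟩, ha⟩ := exists_eig_eq hO hj hx
  obtain ⟨d, hd⟩ := (IsLocalRing.notMem_maximalIdeal.1 fun h' => h (by
    rw [ha, IsLocalRing.residue_eq_zero_iff]; exact h')).exists_left_inv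
  set y := j - d • x with hy
  have hyj : InCorner j y := ⟨by rw [hy, mul_sub, hj.idem, mul_smul_comm, hx.1],
    by rw [hy, sub_mul, hj.idem, smul_mul_assoc, hx.2]⟩
  have hy' : y = (-d) • (x - a • j) := by
    rw [hy, smul_sub, smul_smul, neg_mul, hd, neg_smul, neg_smul, one_smul]; abel
  have hyn : y ^ (n + 1) ∈ mR O R := by
    rw [hy', _root_.smul_pow]; exact Submodule.smul_mem _ _ hn
  set S := ∑ i ∈ Finset.range (n + 1), y ^ i with hS
  have hw : IsUnit (1 - y ^ (n + 1)) :=
    isUnit_of_cong_one (O := O) (by simpa using neg_mem hyn)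
  obtain ⟨w, hw'⟩ := hw
  have h1 : (1 - y) * (S * ↑w⁻¹) = 1 := by
    rw [← mul_assoc, hS, mul_neg_geom_sum, ← hw', Units.mul_inv]
  have h2 : (↑w⁻¹ * S) * (1 - y) = 1 := by
    rw [mul_assoc, hS, geom_sum_mul_neg, ← hw', Units.inv_mul]
  have h3 : S * ↑w⁻¹ = ↑w⁻¹ * S := (left_inv_eq_right_inv h2 h1).symm
  have hxe : d • x = j * (1 - y) := by rw [mul_sub, mul_one, hyj.1, hy]; abel
  have hjy : Commute j (1 - y) := (Commute.one_right j).sub_right (hyj.1.trans hyj.2.symm)
  refine ⟨d • (j * (S * ↑w⁻¹) * j), ⟨?_, ?_⟩, ?_, ?_⟩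
  · rw [mul_smul_comm, ← mul_assoc, ← mul_assoc, hj.idem]
  · rw [smul_mul_assoc, mul_assoc _ j j, hj.idem]
  · rw [smul_mul_assoc, ← mul_smul_comm, hxe, mul_assoc (j * (S * ↑w⁻¹)) j, ← mul_assoc j j,
      hj.idem, hjy.eq, mul_assoc j, ← mul_assoc (S * ↑w⁻¹), h3, h2, one_mul]
    exact hj.idem
  · rw [mul_smul_comm, ← smul_mul_assoc, hxe, ← mul_assoc, ← mul_assoc, mul_assoc j (1 - y) j,
      ← hjy.eq, ← mul_assoc j j, hj.idem, mul_assoc j (1 - y), h1, mul_one, hj.idem]

theorem eig_ne_zero_of_inv {x z : R} (hx : InCorner j x) (hz : z * x = j) : eig O j x ≠ 0 :=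
  fun h => not_nil_of_left_inv hj hx.1 hz (nil_of_eig_zero hO hj hx h)

theorem eig_nil_mul {x y : R} (hx : InCorner j x) (h : eig O j x = 0) (hy : InCorner j y) :
    eig O j (x * y) = 0 ∧ eig O j (y * x) = 0 := by
  have hn := nil_of_eig_zero hO hj hx h
  constructor
  · by_contra hne
    obtain ⟨z, -, -, hz⟩ := exists_inv hO hj
      (show InCorner j (x * y) from ⟨by rw [← mul_assoc, hx.1], by rw [mul_assoc, hy.2]⟩) hne
    exact not_nil_of_right_inv hj hx.2 (z := y * z) (by rw [← mul_assoc]; exact hz) hn
  · by_contra hne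
    obtain ⟨z, -, hz, -⟩ := exists_inv hO hj
      (show InCorner j (y * x) from ⟨by rw [← mul_assoc, hy.1], by rw [mul_assoc, hx.2]⟩) hne
    exact not_nil_of_left_inv hj hx.1 (z := z * y) (by rw [mul_assoc]; exact hz) hn

theorem eig_nil_add {x y : R} (hx : InCorner j x) (h : eig O j x = 0) (hy : InCorner j y)
    (h' : eig O j y = 0) : eig O j (x + y) = 0 := by
  by_contra hne
  obtain ⟨z, hzc, hz, -⟩ := exists_inv hO hj
    (show InCorner j (x + y) from ⟨by rw [mul_add, hx.1, hy.1], by rw [add_mul, hx.2, hy.2]⟩) hne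
  have hzx : InCorner j (z * x) := ⟨by rw [← mul_assoc, hzc.1], by rw [mul_assoc, hx.2]⟩
  have hzy : InCorner j (z * y) := ⟨by rw [← mul_assoc, hzc.1], by rw [mul_assoc, hy.2]⟩
  have e1 := (eig_nil_mul hO hj hx h hzc).2
  have e2 := (eig_nil_mul hO hj hy h' hzc).2
  obtain ⟨n, hn⟩ := nil_of_eig_zero hO hj hzx e1
  have e3 : eig O j (z * y) = 1 := by
    refine (eig_eq hO hj hzy (a := 1) ⟨n, ?_⟩).trans (map_one _)
    rw [one_smul, show z * y - j = -(z * x) by rw [← hz, mul_add]; abel, neg_pow]
    exact mR_mul_left hn _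
  exact one_ne_zero (e3.symm.trans e2)

/-- The residue eigenvalue is additive. -/
theorem eig_add {x y : R} (hx : InCorner j x) (hy : InCorner j y) :
    eig O j (x + y) = eig O j x + eig O j y := by
  obtain ⟨a, ha, ha'⟩ := exists_eig_eq hO hj hx
  obtain ⟨b, hb, hb'⟩ := exists_eig_eq hO hj hy
  have hc : ∀ {w : R} {c : O}, InCorner j w → InCorner j (w - c • j) := fun {w c} hw =>
    ⟨by rw [mul_sub, hw.1, mul_smul_comm, hj.idem],
      by rw [sub_mul, hw.2, smul_mul_assoc, hj.idem]⟩
  have hxy : InCorner j (x + y) := ⟨by rw [mul_add, hx.1, hy.1], by rw [add_mul, hx.2, hy.2]⟩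
  have h0 := eig_nil_add hO hj (hc hx) (eig_zero_of_nil hO hj (hc hx) ha) (hc hy)
    (eig_zero_of_nil hO hj (hc hy) hb)
  rw [show x - a • j + (y - b • j) = x + y - (a + b) • j by rw [add_smul]; abel] at h0
  rw [eig_eq hO hj hxy (nil_of_eig_zero hO hj (hc hxy) h0), ha', hb', map_add]

end Eig

/-- Two primitive idempotents linked by a product with nonzero eigenvalue are equivalent. -/
theorem exists_equiv (hO : SplitsAll O) {j q : R} (hj : IsPrim j) (hq : IsPrim q) {x y : R}
    (hx : j * x * q = x) (hy : q * y * j = y) (h : eig O j (x * y) ≠ 0) :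
    ∃ r r' : R, j * r * q = r ∧ q * r' * j = r' ∧ r * r' = j ∧ r' * r = q := by
  have hjx : j * x = x := by
    conv_lhs => rw [← hx, ← mul_assoc, ← mul_assoc, hj.idem]
    exact hx
  have hxq : x * q = x := by
    conv_lhs => rw [← hx, mul_assoc, hq.idem]
    exact hx
  have hqy : q * y = y := by
    conv_lhs => rw [← hy, ← mul_assoc, ← mul_assoc, hq.idem]
    exact hy
  have hyj : y * j = y := by
    conv_lhs => rw [← hy, mul_assoc, hj.idem]
    exact hy
  have hxy : InCorner j (x * y) := ⟨by rw [← mul_assoc, hjx], by rw [mul_assoc, hyj]⟩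
  obtain ⟨z, hz, hz1, hz2⟩ := exists_inv hO hj hxy h
  have h1 : z * x * y = j := by rw [mul_assoc]; exact hz1
  refine ⟨z * x, y, by rw [← mul_assoc, hz.1, mul_assoc, hxq],
    by rw [hqy, hyj], h1, ?_⟩
  have hidem : y * (z * x) * (y * (z * x)) = y * (z * x) := by
    rw [mul_assoc, ← mul_assoc (z * x), h1, ← mul_assoc j, hz.1]
  rcases hq.min _ hidem (by rw [← mul_assoc, hqy])
      (by rw [mul_assoc, mul_assoc, hxq]) with h0 | h0
  · exfalso
    refine hj.ne ?_
    calc j = z * x * y * (z * x * y) := by rw [h1, hj.idem]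
      _ = z * x * (y * (z * x)) * y := by simp only [mul_assoc]
      _ = 0 := by rw [h0, mul_zero, zero_mul]
  · exact h0

/-- Eigenvalues do not see the order of a product between corners. -/
theorem eig_mul_comm (hO : SplitsAll O) {j q : R} (hj : IsPrim j) (hq : IsPrim q) {x y : R}
    (hx : j * x * q = x) (hy : q * y * j = y) : eig O j (x * y) = eig O q (y * x) := by
  suffices ∀ {j q : R}, IsPrim j → IsPrim q → ∀ {x y : R}, j * x * q = x → q * y * j = y →
      eig O j (x * y) ≠ 0 → eig O j (x * y) = eig O q (y * x) by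
    by_cases h : eig O j (x * y) = 0
    · by_cases h' : eig O q (y * x) = 0
      · rw [h, h']
      · exact (this hq hj hy hx h').symm
    · exact this hj hq hx hy h
  intro j q hj hq x y hx hy h
  have hjx : j * x = x := by
    conv_lhs => rw [← hx, ← mul_assoc, ← mul_assoc, hj.idem]
    exact hx
  have hxq : x * q = x := by
    conv_lhs => rw [← hx, mul_assoc, hq.idem]
    exact hx
  have hqy : q * y = y := by
    conv_lhs => rw [← hy, ← mul_assoc, ← mul_assoc, hq.idem]
    exact hy
  have hyj : y * j = y := by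
    conv_lhs => rw [← hy, mul_assoc, hj.idem]
    exact hy
  have hxy : InCorner j (x * y) := ⟨by rw [← mul_assoc, hjx], by rw [mul_assoc, hyj]⟩
  have hyx : InCorner q (y * x) := ⟨by rw [← mul_assoc, hqy], by rw [mul_assoc, hxq]⟩
  obtain ⟨a, ⟨n, hn⟩, ha⟩ := exists_eig_eq hO hj hxy
  obtain ⟨b, ⟨m, hm⟩, hb⟩ := exists_eig_eq hO hq hyx
  rw [ha, hb]
  -- `y (xy - a j) = (yx - a q) y`
  have hswap : ∀ k : ℕ, (y * x - a • q) ^ k * y = y * (x * y - a • j) ^ k := by
    intro k
    induction k with
    | zero => simp
    | succ k ih =>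
      rw [pow_succ, pow_succ, mul_assoc, sub_mul, smul_mul_assoc, hqy,
        show y * x * y - a • y = y * (x * y - a • j) by rw [mul_sub, mul_smul_comm, hyj, mul_assoc],
        ← mul_assoc, ih, mul_assoc]
  have h1 : (y * x - a • q) ^ (n + 1) * (y * x) ∈ mR O R := by
    rw [← mul_assoc, hswap]
    exact mR_mul_right (mR_mul_left hn y) x
  by_cases hbz : eig O q (y * x) = 0
  · exfalso
    obtain ⟨k, hk⟩ := nil_of_eig_zero hO hq hyx hbz
    refine h (eig_zero_of_nil hO hj hxy ⟨k + 1, ?_⟩)
    have : ∀ i : ℕ, (x * y) ^ (i + 1) = x * (y * x) ^ i * y := by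
      intro i
      induction i with
      | zero => simp
      | succ i ih => rw [pow_succ, ih, pow_succ]; simp only [mul_assoc]
    rw [this]
    exact mR_mul_right (mR_mul_left hk x) y
  · obtain ⟨z, -, -, hz2⟩ := exists_inv hO hq hyx hbz
    have h2 := mR_mul_right h1 z
    rw [mul_assoc, hz2, pow_succ, mul_assoc, sub_mul, smul_mul_assoc, hq.idem, hyx.2,
      ← pow_succ] at h2
    exact eig_unique hq hyx.1 hyx.2 ⟨n, h2⟩ ⟨m, hm⟩

/-! ### Decompositions -/

/-- A decomposition of an idempotent into orthogonal primitive ones. -/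
structure IsDecomp (e : R) (J : Finset R) : Prop where
  prim : ∀ j ∈ J, IsPrim j
  orth : ∀ j ∈ J, ∀ k ∈ J, j ≠ k → j * k = 0
  sum : ∑ j ∈ J, j = e

theorem IsDecomp.mul_left_self {e : R} {J : Finset R} (h : IsDecomp e J) {j : R} (hj : j ∈ J) :
    e * j = j := by
  classical
  rw [← h.sum, Finset.sum_mul, Finset.sum_eq_single j (fun k hk hne => h.orth k hk j hj hne)
    (fun hn => absurd hj hn), (h.prim j hj).idem]

theorem IsDecomp.mul_right_self {e : R} {J : Finset R} (h : IsDecomp e J) {j : R} (hj : j ∈ J) :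
    j * e = j := by
  classical
  rw [← h.sum, Finset.mul_sum,
    Finset.sum_eq_single j (fun k hk hne => h.orth j hj k hk (Ne.symm hne))
    (fun hn => absurd hj hn), (h.prim j hj).idem]

theorem exists_card_bound (O : Type u) [CommRing O] [IsLocalRing O] [Algebra O R]
    [Module.Finite O R] : ∃ N : ℕ, ∀ J : Finset R, (∀ j ∈ J, j * j = j ∧ j ≠ 0) →
    (∀ j ∈ J, ∀ k ∈ J, j ≠ k → j * k = 0) → J.card ≤ N := by
  classical
  obtain ⟨n, v, hv⟩ := Module.Finite.exists_fin (R := O) (M := R)
  refine ⟨n, fun J hJ horth => ?_⟩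
  have hc : ∀ j : R, ∃ c : Fin n → O, ∑ i, c i • v i = j := fun j =>
    (Submodule.mem_span_range_iff_exists_fun O).1 (hv ▸ Submodule.mem_top)
  choose c hc using hc
  let w : J → Fin n → IsLocalRing.ResidueField O := fun j i => IsLocalRing.residue O (c j i)
  have hli : LinearIndependent (IsLocalRing.ResidueField O) w := by
    rw [Fintype.linearIndependent_iff]
    intro g hg j
    have hlift : ∀ k : J, ∃ a : O, IsLocalRing.residue O a = g k := fun k =>
      IsLocalRing.residue_surjective (g k)
    choose a ha using hlift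
    have hm : ∑ k : J, a k • (k : R) ∈ mR O R := by
      have : ∑ k : J, a k • (k : R) = ∑ i, (∑ k : J, a k * c k i) • v i := by
        simp_rw [Finset.sum_smul]
        rw [Finset.sum_comm]
        refine Finset.sum_congr rfl fun k _ => ?_
        conv_lhs => rw [← hc (k : R)]
        rw [Finset.smul_sum]
        exact Finset.sum_congr rfl fun i _ => smul_smul _ _ _
      rw [this]
      refine sum_mem fun i _ => smul_mem_mR ((IsLocalRing.residue_eq_zero_iff _).1 ?_) _
      rw [map_sum]
      have := congrFun hg i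
      simp only [Finset.sum_apply, Pi.smul_apply, smul_eq_mul, Pi.zero_apply, w] at this
      rw [← this]
      exact Finset.sum_congr rfl fun k _ => by rw [map_mul, ha]
    have h1 := mR_mul_right hm (j : R)
    rw [Finset.sum_mul, Finset.sum_eq_single j (fun k _ hne => by
      rw [smul_mul_assoc, horth k k.2 j j.2 fun e => hne (Subtype.ext e), smul_zero])
      (fun h => absurd (Finset.mem_univ j) h), smul_mul_assoc, (hJ j j.2).1] at h1
    by_contra hne
    obtain ⟨d, hd⟩ := (IsLocalRing.notMem_maximalIdeal.1 (fun h => hne (by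
      rw [← ha j, IsLocalRing.residue_eq_zero_iff]; exact h))).exists_left_inv
    have h2 := Submodule.smul_mem _ d h1
    rw [smul_smul, hd, one_smul] at h2
    exact (hJ j j.2).2 (idem_eq_zero (O := O) (hJ j j.2).1 h2)
  simpa using hli.fintype_card_le_finrank

theorem exists_decomp (O : Type u) [CommRing O] [IsLocalRing O] [Algebra O R]
    [Module.Finite O R] {e : R} (he : e * e = e) : ∃ J : Finset R, IsDecomp e J := by
  classical
  let S : Set (Finset R) := {J | (∀ j ∈ J, j * j = j ∧ j ≠ 0) ∧
    (∀ j ∈ J, ∀ k ∈ J, j ≠ k → j * k = 0) ∧ ∑ j ∈ J, j = e}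
  obtain ⟨N, hN⟩ := exists_card_bound O (R := R)
  have hne : S.Nonempty := by
    rcases eq_or_ne e 0 with rfl | h
    · exact ⟨∅, by simp [S]⟩
    · exact ⟨{e}, by simp [S, he, h]⟩
  have hfin : BddAbove (Finset.card '' S) := ⟨N, by
    rintro _ ⟨J, hJ, rfl⟩; exact hN J hJ.1 hJ.2.1⟩
  obtain ⟨J, hJ, hcard⟩ := Nat.sSup_mem (hne.image _) hfin
  refine ⟨J, fun j hj => ⟨(hJ.1 j hj).1, (hJ.1 j hj).2, fun q hq hl hr => ?_⟩, hJ.2.1, hJ.2.2⟩
  by_contra hcon
  push Not at hcon
  obtain ⟨hq0, hqj⟩ := hcon
  set q' := j - q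
  have hjj := (hJ.1 j hj).1
  have hq' : q' * q' = q' := by simp only [q', mul_sub, sub_mul, hjj, hl, hr, hq]; abel
  have hqq' : q * q' = 0 := by simp only [q', mul_sub, hr, hq, sub_self]
  have hq'q : q' * q = 0 := by simp only [q', sub_mul, hl, hq, sub_self]
  have hq'0 : q' ≠ 0 := fun h => hqj (sub_eq_zero.1 h).symm
  have hne' : q ≠ q' := fun h => hq0 (by rw [← hq]; conv_lhs => arg 2; rw [h]
                                         exact hqq')
  have hk : ∀ k ∈ J.erase j, q * k = 0 ∧ k * q = 0 ∧ q' * k = 0 ∧ k * q' = 0 := fun k hk => by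
    obtain ⟨hkj, hkJ⟩ := Finset.mem_erase.1 hk
    have e1 := hJ.2.1 j hj k hkJ (Ne.symm hkj)
    have e2 := hJ.2.1 k hkJ j hj hkj
    have h1 : q * k = 0 := by rw [← hr, mul_assoc, e1, mul_zero]
    have h2 : k * q = 0 := by rw [← hl, ← mul_assoc, e2, zero_mul]
    exact ⟨h1, h2, by simp only [q', sub_mul, e1, h1, sub_zero],
      by simp only [q', mul_sub, e2, h2, sub_zero]⟩
  have hqn : q ∉ J.erase j := fun h => hq0 (by rw [← hq]; exact (hk q h).1)
  have hq'n : q' ∉ J.erase j := fun h => hq'0 (by rw [← hq']; exact (hk q' h).2.2.1)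
  set J' := insert q (insert q' (J.erase j))
  have hS : J' ∈ S := by
    refine ⟨fun x hx => ?_, fun x hx y hy hxy => ?_, ?_⟩
    · simp only [J', Finset.mem_insert] at hx
      rcases hx with rfl | rfl | hx
      · exact ⟨hq, hq0⟩
      · exact ⟨hq', hq'0⟩
      · exact hJ.1 x (Finset.mem_of_mem_erase hx)
    · simp only [J', Finset.mem_insert] at hx hy
      rcases hx with rfl | rfl | hx <;> rcases hy with rfl | rfl | hy
      · exact absurd rfl hxy
      · exact hqq'
      · exact (hk y hy).1
      · exact hq'q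
      · exact absurd rfl hxy
      · exact (hk y hy).2.2.1
      · exact (hk x hx).2.1
      · exact (hk x hx).2.2.2
      · exact hJ.2.1 x (Finset.mem_of_mem_erase hx) y (Finset.mem_of_mem_erase hy) hxy
    · rw [Finset.sum_insert (by simp [hne', hqn]), Finset.sum_insert hq'n, ← add_assoc,
        show q + q' = j by simp only [q']; abel, Finset.add_sum_erase J (fun x => x) hj, hJ.2.2]
  have h1 : J'.card ≤ J.card := hcard ▸ le_csSup hfin ⟨J', hS, rfl⟩
  rw [Finset.card_insert_of_notMem (by simp [hne', hqn]), Finset.card_insert_of_notMem hq'n,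
    Finset.card_erase_of_mem hj] at h1
  have := Finset.card_pos.2 ⟨j, hj⟩
  omega

/-! ### The residue trace -/

/-- Equivalence of idempotents. -/
def Equiv' (j q : R) : Prop :=
  ∃ r r' : R, j * r * q = r ∧ q * r' * j = r' ∧ r * r' = j ∧ r' * r = q

variable (O) in
/-- The trace of `x` weighted by `m` along a decomposition. -/
noncomputable def resTr (m : R → IsLocalRing.ResidueField O) (J : Finset R) (x : R) :
    IsLocalRing.ResidueField O := ∑ j ∈ J, m j * eig O j (j * x * j)

section ResTr

variable (hO : SplitsAll O)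
include hO

theorem eig_sum {ι : Type*} {j : R} (hj : IsPrim j) (s : Finset ι) {f : ι → R}
    (hf : ∀ i ∈ s, InCorner j (f i)) : eig O j (∑ i ∈ s, f i) = ∑ i ∈ s, eig O j (f i) := by
  classical
  induction s using Finset.induction_on with
  | empty =>
    have := eig_smul_self hO hj (0 : O)
    simpa using this
  | insert i s hi ih =>
    rw [Finset.sum_insert hi, Finset.sum_insert hi, eig_add hO hj (hf i (Finset.mem_insert_self i s))
      ⟨by rw [Finset.mul_sum]; exact Finset.sum_congr rfl fun k hk =>
          (hf k (Finset.mem_insert_of_mem hk)).1,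
        by rw [Finset.sum_mul]; exact Finset.sum_congr rfl fun k hk =>
          (hf k (Finset.mem_insert_of_mem hk)).2⟩,
      ih fun k hk => hf k (Finset.mem_insert_of_mem hk)]

variable {m : R → IsLocalRing.ResidueField O} (hm : ∀ {j q : R}, Equiv' j q → m j = m q)
include hm

theorem resTr_indep {e : R} {J J' : Finset R} (hJ : IsDecomp e J) (hJ' : IsDecomp e J') {x : R}
    (hl : e * x = x) (hr : x * e = x) : resTr O m J x = resTr O m J' x := by
  classical
  have key : ∀ j ∈ J, ∀ s ∈ J', ∀ s' ∈ J', m j * eig O j (j * (s * x * s') * j) =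
      m s' * eig O s' (s' * j * s * x * s') := by
    intro j hj s _ s' hs'
    have hpj := hJ.prim j hj
    have hps := hJ'.prim s' hs'
    have hX : j * (j * s * x * s') * s' = j * s * x * s' := by
      simp only [← mul_assoc, hpj.idem]
      simp only [mul_assoc, hps.idem]
    have hY : s' * (s' * j) * j = s' * j := by
      rw [← mul_assoc, hps.idem, mul_assoc, hpj.idem]
    have hXY : j * s * x * s' * (s' * j) = j * (s * x * s') * j := by
      simp only [mul_assoc]; rw [← mul_assoc s' s' j, hps.idem]
    have hYX : s' * j * (j * s * x * s') = s' * j * s * x * s' := by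
      simp only [← mul_assoc]; rw [mul_assoc s' j j, hpj.idem]
    have hc := eig_mul_comm hO hpj hps hX hY
    rw [hXY, hYX] at hc
    by_cases h0 : eig O j (j * (s * x * s') * j) = 0
    · rw [h0, ← hc, h0, mul_zero, mul_zero]
    · rw [hm (exists_equiv hO hpj hps hX hY (hXY ▸ h0)), hc]
  have e1 : ∀ j ∈ J, j * x * j = ∑ s ∈ J', ∑ s' ∈ J', j * (s * x * s') * j := fun j _ => by
    conv_lhs => rw [show x = ∑ s ∈ J', ∑ s' ∈ J', s * x * s' by
      conv_lhs => rw [← hr, ← hl, ← hJ'.sum]
      simp only [Finset.sum_mul, Finset.mul_sum]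
      rw [Finset.sum_comm]]
    simp only [Finset.mul_sum, Finset.sum_mul]
  calc resTr O m J x = ∑ j ∈ J, ∑ s ∈ J', ∑ s' ∈ J', m j * eig O j (j * (s * x * s') * j) := by
        refine Finset.sum_congr rfl fun j hj => ?_
        have hc : ∀ y : R, InCorner j (j * y * j) := inCorner_mul_mul (hJ.prim j hj).idem
        rw [e1 j hj, eig_sum hO (hJ.prim j hj) _ fun s _ => ⟨by
            rw [Finset.mul_sum]; exact Finset.sum_congr rfl fun s' _ => (hc _).1, by
            rw [Finset.sum_mul]; exact Finset.sum_congr rfl fun s' _ => (hc _).2⟩, Finset.mul_sum]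
        refine Finset.sum_congr rfl fun s _ => ?_
        rw [eig_sum hO (hJ.prim j hj) _ fun s' _ => hc _, Finset.mul_sum]
    _ = ∑ s' ∈ J', ∑ s ∈ J', m s' * ∑ j ∈ J, eig O s' (s' * j * s * x * s') := by
        rw [Finset.sum_comm]
        conv_rhs => rw [Finset.sum_comm]
        refine Finset.sum_congr rfl fun s hs => ?_
        rw [Finset.sum_comm]
        refine Finset.sum_congr rfl fun s' hs' => ?_
        rw [Finset.mul_sum]
        exact Finset.sum_congr rfl fun j hj => key j hj s hs s' hs'
    _ = resTr O m J' x := by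
        refine Finset.sum_congr rfl fun s' hs' => ?_
        rw [Finset.sum_eq_single_of_mem s' hs']
        · have hc : ∀ j ∈ J, InCorner s' (s' * j * s' * x * s') := fun j _ => by
            simpa [mul_assoc] using inCorner_mul_mul (hJ'.prim s' hs').idem (j * s' * x)
          rw [← eig_sum hO (hJ'.prim s' hs') _ hc]
          congr 2
          simp only [← Finset.sum_mul, ← Finset.mul_sum, hJ.sum]
          rw [← Finset.mul_sum, hJ.sum, hJ'.mul_right_self hs', (hJ'.prim s' hs').idem]
        · intro s hs hne
          rw [← eig_sum hO (hJ'.prim s' hs') _ fun j _ => by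
            simpa [mul_assoc] using inCorner_mul_mul (hJ'.prim s' hs').idem (j * s * x)]
          simp only [← Finset.sum_mul, ← Finset.mul_sum, hJ.sum]
          rw [← Finset.mul_sum, hJ.sum, hJ'.mul_right_self hs', hJ'.orth s' hs' s hs (Ne.symm hne), zero_mul, zero_mul]
          have := eig_smul_self hO (hJ'.prim s' hs') (0 : O)
          rw [zero_smul, map_zero] at this
          rw [this, mul_zero]

/-- The weight of an idempotent that is a relative trace vanishes. -/
theorem weight_eq_zero {e : R} (he : e * e = e) {p : ℕ}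
    (hp : (p : IsLocalRing.ResidueField O) = 0) (σ : R →ₐ[O] R) (hσ : Function.Bijective σ)
    (hσe : σ e = e) (hmσ : ∀ j : R, j * j = j → m (σ j) = m j)
    (hsum : ∀ J : Finset R, IsDecomp e J → m e = ∑ j ∈ J, m j)
    {a : R} (hl : e * a = a) (hr : a * e = a) (htr : e = ∑ i ∈ Finset.range p, (σ^[i]) a) :
    m e = 0 := by
  classical
  obtain ⟨J, hJ⟩ := exists_decomp O he
  have hσE : ∀ x, e * x = x → x * e = x → e * σ x = σ x ∧ σ x * e = σ x := fun x h1 h2 =>
    ⟨by conv_lhs => rw [← hσe, ← map_mul, h1], by conv_lhs => rw [← hσe, ← map_mul, h2]⟩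
  have hcorner : ∀ i, e * (σ^[i]) a = (σ^[i]) a ∧ (σ^[i]) a * e = (σ^[i]) a := by
    intro i
    induction i with
    | zero => exact ⟨hl, hr⟩
    | succ i ih => rw [Function.iterate_succ_apply']; exact hσE _ ih.1 ih.2
  have hstep : ∀ x, e * x = x → x * e = x → resTr O m J (σ x) = resTr O m J x := by
    intro x h1 h2
    set J₁ := J.image σ with hJ₁
    have hinj := hσ.injective
    have hd : IsDecomp e J₁ := by
      refine ⟨fun j hj => ?_, fun j hj k hk hne => ?_, ?_⟩
      · obtain ⟨i, hi, rfl⟩ := Finset.mem_image.1 hj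
        refine ⟨by rw [← map_mul, (hJ.prim i hi).idem],
          fun h => (hJ.prim i hi).ne (hinj (by rw [h, map_zero])), fun q hq hl' hr' => ?_⟩
        obtain ⟨y, rfl⟩ := hσ.surjective q
        rw [← map_mul] at hq hl' hr'
        rcases (hJ.prim i hi).min y (hinj hq) (hinj hl') (hinj hr') with rfl | rfl
        · exact Or.inl (map_zero σ)
        · exact Or.inr rfl
      · obtain ⟨i, hi, rfl⟩ := Finset.mem_image.1 hj
        obtain ⟨i', hi', rfl⟩ := Finset.mem_image.1 hk
        rw [← map_mul, hJ.orth i hi i' hi' fun h => hne (congrArg σ h), map_zero]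
      · rw [hJ₁, Finset.sum_image fun x _ y _ h => hinj h, ← map_sum, hJ.sum, hσe]
    rw [resTr_indep hO hm hJ hd (hσE x h1 h2).1 (hσE x h1 h2).2, resTr, hJ₁,
      Finset.sum_image fun x _ y _ h => hinj h]
    refine Finset.sum_congr rfl fun j hj => ?_
    rw [hmσ j (hJ.prim j hj).idem]
    congr 1
    have hpj := hJ.prim j hj
    have hpσ : IsPrim (σ j) := hd.prim _ (Finset.mem_image_of_mem _ hj)
    obtain ⟨c, ⟨n, hn⟩, hc⟩ := exists_eig_eq hO hpj (inCorner_mul_mul hpj.idem x)
    rw [hc, ← map_mul, ← map_mul]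
    refine eig_eq hO hpσ ⟨by rw [← map_mul, (inCorner_mul_mul hpj.idem x).1],
      by rw [← map_mul, (inCorner_mul_mul hpj.idem x).2]⟩ ⟨n, ?_⟩
    rw [← map_smul, ← map_sub, ← map_pow]
    have : (mR O R).map σ.toLinearMap ≤ mR O R := by
      rw [mR, Submodule.map_smul'']
      exact Submodule.smul_mono le_rfl le_top
    exact this ⟨_, hn, rfl⟩
  have hiter : ∀ i, resTr O m J ((σ^[i]) a) = resTr O m J a := by
    intro i
    induction i with
    | zero => rfl
    | succ i ih =>
      rw [Function.iterate_succ_apply', hstep _ (hcorner i).1 (hcorner i).2, ih]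
  have h1 : resTr O m J e = m e := by
    rw [hsum J hJ]
    refine Finset.sum_congr rfl fun j hj => ?_
    rw [hJ.mul_right_self hj, (hJ.prim j hj).idem, eig_self hO (hJ.prim j hj), mul_one]
  rw [← h1]
  conv_lhs => rw [htr]
  simp only [resTr, Finset.mul_sum, Finset.sum_mul]
  have : ∀ j ∈ J, m j * eig O j (∑ i ∈ Finset.range p, j * (σ^[i]) a * j) =
      ∑ i ∈ Finset.range p, m j * eig O j (j * (σ^[i]) a * j) := fun j hj => by
    rw [eig_sum hO (hJ.prim j hj) _ fun i _ => inCorner_mul_mul (hJ.prim j hj).idem _,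
      Finset.mul_sum]
  rw [Finset.sum_congr rfl this, Finset.sum_comm]
  show ∑ i ∈ Finset.range p, resTr O m J ((σ^[i]) a) = 0
  simp only [hiter, Finset.sum_const, Finset.card_range, nsmul_eq_mul, hp, zero_mul]

end ResTr


end Finite

end Cfsg.Agent.Blocks.Star
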