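import Mathlib
import Cfsg.Agent.Lib.Blocks.StableBound
import Cfsg.Agent.Lib.Blocks.Brauer
import Cfsg.Agent.Lib.Blocks.SecondMain
import Cfsg.Agent.Lib.Blocks.Idempotent
import Cfsg.Agent.BlockCharsA.BrauerPairs
import Cfsg.Agent.Lib.Blocks.Star.LocalAlgebra

/-!
# The fixed subalgebras of the integral group algebra

`fixAlg hM H K` consists of the elements with local integral coefficients that are invariant
under conjugation by `H` and supported on `K`; it is a finite algebra over the local ring.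
-/

set_option linter.style.haveILetI false
set_option linter.unusedSectionVars false

namespace Cfsg.Agent.Blocks.Star

open Cfsg.Agent.Blocks Cfsg.Agent.Characters
open Cfsg.Agent.BlockCharsA.BrauerPairs
open Polynomial MonoidAlgebra

universe u

variable {G : Type u} [Group G] [Finite G] {p : ℕ} {M : Ideal Cfsg.AlgInt}

/-- The local ring, as a type. -/
abbrev Loc (hM : Cfsg.IsPModular p M) : Subring ℂ := locSubring hM

theorem mem_loc (hM : Cfsg.IsPModular p M) {z : ℂ} : z ∈ Loc hM ↔ Cfsg.MemLocalRing M z :=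
  Iff.rfl

theorem loc_isUnit_iff (hM : Cfsg.IsPModular p M) (z : Loc hM) :
    IsUnit z ↔ ¬ Cfsg.MemLocalIdeal M (z : ℂ) := by
  constructor
  · rintro h hz
    obtain ⟨w, hw⟩ := h.exists_right_inv
    refine not_ideal_one hM ?_
    rw [← (show ((z : ℂ) * (w : ℂ)) = 1 from congrArg Subtype.val hw)]
    exact ideal_mul_right hM hz w.2
  · intro hz
    exact IsUnit.of_mul_eq_one (⟨(z : ℂ)⁻¹, ring_inv hM z.2 hz⟩ : Loc hM)
      (Subtype.ext (mul_inv_cancel₀ (ne_zero_of_not_ideal hM hz)))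

theorem isLocalRing_loc (hM : Cfsg.IsPModular p M) : IsLocalRing (Loc hM) := by
  refine IsLocalRing.of_nonunits_add fun a b ha hb h => ?_
  rw [mem_nonunits_iff, loc_isUnit_iff, not_not] at ha hb
  exact (loc_isUnit_iff hM _).1 h (ideal_add hM ha hb)

instance instIsLocalRingLoc (hM : Cfsg.IsPModular p M) : IsLocalRing (Loc hM) := isLocalRing_loc hM

theorem mem_maximal_iff (hM : Cfsg.IsPModular p M) (z : Loc hM) :
    z ∈ IsLocalRing.maximalIdeal (Loc hM) ↔ Cfsg.MemLocalIdeal M (z : ℂ) := by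
  rw [IsLocalRing.mem_maximalIdeal, mem_nonunits_iff, loc_isUnit_iff, not_not]

theorem residue_natCast_p (hM : Cfsg.IsPModular p M) :
    (p : IsLocalRing.ResidueField (Loc hM)) = 0 := by
  rw [← map_natCast (IsLocalRing.residue (Loc hM)), IsLocalRing.residue_eq_zero_iff, mem_maximal_iff]
  simpa using ideal_p hM

theorem residue_intCast_eq_zero (hM : Cfsg.IsPModular p M) (z : ℤ) :
    (z : IsLocalRing.ResidueField (Loc hM)) = 0 ↔ (p : ℤ) ∣ z := by
  rw [← map_intCast (IsLocalRing.residue (Loc hM)), IsLocalRing.residue_eq_zero_iff, mem_maximal_iff]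
  simpa using ideal_intCast_iff hM z

theorem splitsAll_loc (hM : Cfsg.IsPModular p M) : SplitsAll (Loc hM) := by
  intro P hP
  set ι := (Loc hM).subtype
  have hm := hP.map ι
  have hroot : ∀ r ∈ (P.map ι).roots, r ∈ Loc hM := fun r hr =>
    ring_of_root hM hm (fun i => by rw [Polynomial.coeff_map]; exact (P.coeff i).2)
      (isRoot_of_mem_roots hr)
  refine ⟨(P.map ι).roots.attach.map fun r => ⟨r.1, hroot r.1 r.2⟩, ?_⟩
  refine Polynomial.map_injective ι Subtype.val_injective ?_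
  rw [Polynomial.map_multiset_prod, Multiset.map_map, Multiset.map_map]
  conv_lhs => rw [(IsAlgClosed.splits (P.map ι)).eq_prod_roots_of_monic hm,
    ← Multiset.attach_map_val (P.map ι).roots, Multiset.map_map]
  congr 1
  refine Multiset.map_congr rfl fun r _ => ?_
  simp [ι]

theorem loc_smul_def (hM : Cfsg.IsPModular p M) (c : Loc hM) (x : MonoidAlgebra ℂ G) :
    c • x = (c : ℂ) • x := rfl

/-! ### The subalgebras -/

theorem invBy_one (S : Set G) : InvBy S (1 : MonoidAlgebra ℂ G) := fun u _ g => by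
  classical
  rw [MonoidAlgebra.one_def, MonoidAlgebra.coeff_single, Finsupp.single_apply, Finsupp.single_apply]
  refine if_congr ?_ rfl rfl
  constructor
  · intro h
    have := congrArg (fun t => u⁻¹ * t * u) h
    simpa [mul_assoc] using this
  · rintro rfl; simp

theorem invBy_iff_commute {S : Set G} {x : MonoidAlgebra ℂ G} :
    InvBy S x ↔ ∀ u ∈ S, Commute (single u (1 : ℂ)) x := by
  refine ⟨fun h u hu => ?_, fun h u hu g => coeff_conj_eq_of_single_commute (h u hu) g⟩
  refine el_ext fun g => ?_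
  rw [coeff_single_mul', coeff_mul_single', one_mul, mul_one]
  conv_rhs => rw [show g * u⁻¹ = u * (u⁻¹ * g) * u⁻¹ by group, h u hu]

/-- Integral, invariant under `H`, supported on `K`. -/
structure IsFix (M : Ideal Cfsg.AlgInt) (H K : Subgroup G) (x : MonoidAlgebra ℂ G) : Prop where
  int : IntEl M x
  inv : InvBy (H : Set G) x
  supp : ∀ g ∉ K, x.coeff g = 0

/-- The fixed subalgebra. -/
noncomputable def fixAlg (hM : Cfsg.IsPModular p M) (H K : Subgroup G) :
    Subalgebra (Loc hM) (MonoidAlgebra ℂ G) where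
  carrier := {x | IsFix M H K x}
  zero_mem' := ⟨intEl_zero hM, invBy_zero _, fun g _ => by simp⟩
  one_mem' := ⟨intEl_one hM, invBy_one _, fun g hg => by
    classical
    rw [MonoidAlgebra.one_def, MonoidAlgebra.coeff_single, Finsupp.single_apply,
      if_neg fun h : (1 : G) = g => hg (h ▸ K.one_mem)]⟩
  add_mem' {x y} hx hy := ⟨intEl_add hM hx.int hy.int, fun u hu g => by
      simp [hx.inv u hu g, hy.inv u hu g], fun g hg => by simp [hx.supp g hg, hy.supp g hg]⟩
  mul_mem' {x y} hx hy := ⟨intEl_mul hM hx.int hy.int,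
    invBy_iff_commute.2 fun u hu =>
      (invBy_iff_commute.1 hx.inv u hu).mul_right (invBy_iff_commute.1 hy.inv u hu),
    fun g hg => by
      haveI := Fintype.ofFinite G
      rw [coeff_mul']
      refine Finset.sum_eq_zero fun h _ => ?_
      by_cases hh : h ∈ K
      · rw [hy.supp _ (fun e => hg (by simpa using K.mul_mem hh e)), mul_zero]
      · rw [hx.supp h hh, zero_mul]⟩
  algebraMap_mem' c := by
    rw [Algebra.algebraMap_eq_smul_one, loc_smul_def]
    refine ⟨intEl_smul hM c.2 (intEl_one hM), fun u hu g => ?_, fun g hg => ?_⟩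
    · rw [MonoidAlgebra.coeff_smul_apply, MonoidAlgebra.coeff_smul_apply, invBy_one _ u hu g]
    · classical
      rw [MonoidAlgebra.coeff_smul_apply, MonoidAlgebra.one_def, MonoidAlgebra.coeff_single,
        Finsupp.single_apply, if_neg fun h : (1 : G) = g => hg (h ▸ K.one_mem), smul_zero]

variable {hM : Cfsg.IsPModular p M} {H K : Subgroup G}

theorem mem_fixAlg {x : MonoidAlgebra ℂ G} : x ∈ fixAlg hM H K ↔ IsFix M H K x := Iff.rfl

theorem IsFix.mul (hM : Cfsg.IsPModular p M) {x y : MonoidAlgebra ℂ G} (hx : IsFix M H K x)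
    (hy : IsFix M H K y) : IsFix M H K (x * y) := (fixAlg hM H K).mul_mem hx hy

theorem IsFix.add (hM : Cfsg.IsPModular p M) {x y : MonoidAlgebra ℂ G} (hx : IsFix M H K x)
    (hy : IsFix M H K y) : IsFix M H K (x + y) := (fixAlg hM H K).add_mem hx hy

theorem IsFix.sub (hM : Cfsg.IsPModular p M) {x y : MonoidAlgebra ℂ G} (hx : IsFix M H K x)
    (hy : IsFix M H K y) : IsFix M H K (x - y) := (fixAlg hM H K).sub_mem hx hy

theorem isFix_one (hM : Cfsg.IsPModular p M) : IsFix M H K (1 : MonoidAlgebra ℂ G) :=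
  (fixAlg hM H K).one_mem

theorem isFix_zero (hM : Cfsg.IsPModular p M) : IsFix M H K (0 : MonoidAlgebra ℂ G) :=
  (fixAlg hM H K).zero_mem

theorem IsFix.mono {H' K' : Subgroup G} {x : MonoidAlgebra ℂ G} (h : IsFix M H K x) (hH : H' ≤ H)
    (hK : K ≤ K') : IsFix M H' K' x :=
  ⟨h.int, invBy_mono hH h.inv, fun g hg => h.supp g fun h' => hg (hK h')⟩

theorem isFix_aeval (hM : Cfsg.IsPModular p M) {x : MonoidAlgebra ℂ G} (hx : IsFix M H K x)
    (q : (Loc hM)[X]) : IsFix M H K (aeval x q) := by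
  have := Polynomial.aeval_subalgebra_coe q (fixAlg hM H K) ⟨x, hx⟩
  exact mem_fixAlg.1 (this ▸ (aeval (⟨x, hx⟩ : fixAlg hM H K) q).2)

/-- The orbit sum of `g`. -/
noncomputable def orbSum (H : Subgroup G) (g : G) : MonoidAlgebra ℂ G := by
  classical exact ofFun fun h => if ∃ x ∈ H, x * g * x⁻¹ = h then 1 else 0

theorem coeff_orbSum (H : Subgroup G) (g h : G) [Decidable (∃ x ∈ H, x * g * x⁻¹ = h)] :
    (orbSum H g).coeff h = if ∃ x ∈ H, x * g * x⁻¹ = h then 1 else 0 := by
  rw [orbSum, coeff_ofFun]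
  congr

theorem orbit_iff_conj {H : Subgroup G} {g h u : G} (hu : u ∈ H) :
    (∃ x ∈ H, x * g * x⁻¹ = u * h * u⁻¹) ↔ ∃ x ∈ H, x * g * x⁻¹ = h := by
  constructor
  · rintro ⟨x, hx, e⟩
    refine ⟨u⁻¹ * x, H.mul_mem (H.inv_mem hu) hx, ?_⟩
    rw [show u⁻¹ * x * g * (u⁻¹ * x)⁻¹ = u⁻¹ * (x * g * x⁻¹) * u by group, e]
    group
  · rintro ⟨x, hx, rfl⟩
    exact ⟨u * x, H.mul_mem hu hx, by group⟩

theorem invBy_orbSum (H : Subgroup G) (g : G) : InvBy (H : Set G) (orbSum H g) := fun u hu h => by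
  classical
  rw [coeff_orbSum, coeff_orbSum]
  exact if_congr (orbit_iff_conj hu) rfl rfl

theorem intEl_orbSum (hM : Cfsg.IsPModular p M) (H : Subgroup G) (g : G) :
    IntEl M (orbSum H g) := fun h => by
  classical
  rw [coeff_orbSum]
  split
  · exact ring_one hM
  · exact ring_zero hM

theorem coeff_eq_of_orbit {x : MonoidAlgebra ℂ G} (hx : InvBy (H : Set G) x) {g h : G}
    (hgh : ∃ y ∈ H, y * g * y⁻¹ = h) : x.coeff h = x.coeff g := by
  obtain ⟨y, hy, rfl⟩ := hgh
  exact hx y hy g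

theorem exists_reps (H : Subgroup G) :
    ∃ r : G → G, ∀ g, (∃ x ∈ H, x * r g * x⁻¹ = g) ∧
      ∀ h, (∃ x ∈ H, x * g * x⁻¹ = h) → r h = r g := by
  let s : Setoid G :=
    { r := fun g h => ∃ x ∈ H, x * g * x⁻¹ = h
      iseqv := ⟨fun g => ⟨1, H.one_mem, by simp⟩,
        fun {g h} ⟨x, hx, e⟩ => ⟨x⁻¹, H.inv_mem hx, by rw [← e]; group⟩,
        fun {a b c} ⟨x, hx, e⟩ ⟨y, hy, e'⟩ => ⟨y * x, H.mul_mem hy hx, by
          rw [← e', ← e]; group⟩⟩ }
  exact ⟨fun g => (Quotient.mk s g).out, fun g => ⟨Quotient.exact (Quotient.out_eq (Quotient.mk s g)),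
    fun h hh => congrArg Quotient.out (Quotient.sound (s.symm hh))⟩⟩

/-- An invariant element is a combination of orbit sums. -/
theorem eq_sum_orbSum [Fintype G] {x : MonoidAlgebra ℂ G} (hx : InvBy (H : Set G) x)
    {r : G → G} (hr : ∀ g, (∃ y ∈ H, y * r g * y⁻¹ = g) ∧
      ∀ h, (∃ y ∈ H, y * g * y⁻¹ = h) → r h = r g) [DecidableEq G] :
    x = ∑ g ∈ Finset.univ.filter (fun g => r g = g), x.coeff g • orbSum H g := by
  classical
  refine el_ext fun h => ?_
  simp only [MonoidAlgebra.coeff_sum, Finsupp.finsetSum_apply, MonoidAlgebra.coeff_smul_apply,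
    coeff_orbSum]
  rw [Finset.sum_eq_single (r h)]
  · rw [if_pos (hr h).1, smul_eq_mul, mul_one, coeff_eq_of_orbit hx (hr h).1]
  · intro g hg hne
    rw [if_neg fun hgh => hne ?_, smul_zero]
    rw [(hr g).2 h hgh, (Finset.mem_filter.1 hg).2]
  · intro hn
    refine absurd ?_ hn
    simpa using ((hr (r h)).2 h (hr h).1).symm

instance finite_fixAlg (hM : Cfsg.IsPModular p M) (H K : Subgroup G) :
    Module.Finite (Loc hM) (fixAlg hM H K) := by
  classical
  haveI := Fintype.ofFinite G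
  obtain ⟨r, hr⟩ := exists_reps H
  have hmem : ∀ g : G, (∀ x ∈ H, x * g * x⁻¹ ∈ K) → IsFix M H K (orbSum H g) := fun g hg =>
    ⟨intEl_orbSum hM H g, invBy_orbSum H g, fun h hh => by
      rw [coeff_orbSum, if_neg]
      rintro ⟨x, hx, rfl⟩
      exact hh (hg x hx)⟩
  set w : G → fixAlg hM H K := fun g =>
    if h : ∀ x ∈ H, x * g * x⁻¹ ∈ K then ⟨orbSum H g, hmem g h⟩ else 0
  refine ⟨⟨Finset.univ.image w, eq_top_iff.2 fun x _ => ?_⟩⟩
  have hx : x = ∑ g ∈ Finset.univ.filter (fun g => r g = g),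
      (⟨x.1.coeff g, x.2.int g⟩ : Loc hM) • w g := by
    refine Subtype.ext ?_
    rw [AddSubmonoidClass.coe_finsetSum]
    conv_lhs => rw [eq_sum_orbSum x.2.inv hr]
    refine Finset.sum_congr rfl fun g _ => ?_
    rw [Subalgebra.coe_smul, loc_smul_def]
    simp only [w]
    split
    · rfl
    · next h =>
      push Not at h
      obtain ⟨y, hy, hyK⟩ := h
      have h0 := x.2.supp _ hyK
      rw [x.2.inv y hy g] at h0
      simp [h0]
  rw [hx]
  exact Submodule.sum_mem _ fun g _ => Submodule.smul_mem _ _ (Submodule.subset_span (by simp))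

/-- Congruences inside the subalgebra. -/
theorem mem_mR_iff {x : fixAlg hM H K} :
    x ∈ mR (Loc hM) (fixAlg hM H K) ↔ IdealEl M x.1 := by
  constructor
  · intro h
    induction h using Submodule.smul_induction_on' with
    | smul a ha b _ =>
      intro g
      rw [Subalgebra.coe_smul, loc_smul_def, MonoidAlgebra.coeff_smul_apply]
      exact ideal_mul_right hM ((mem_maximal_iff hM a).1 ha) (b.2.int g)
    | add a _ b _ iha ihb => exact idealEl_add hM iha ihb
  · intro h
    classical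
    haveI := Fintype.ofFinite G
    obtain ⟨r, hr⟩ := exists_reps H
    have hz : ∀ g, x.1.coeff g ≠ 0 → IsFix M H K (orbSum H g) := fun g hg =>
      ⟨intEl_orbSum hM H g, invBy_orbSum H g, fun h' hh' => by
        rw [coeff_orbSum, if_neg]
        rintro ⟨y, hy, rfl⟩
        exact hg (by rw [← x.2.inv y hy g]; exact x.2.supp _ hh')⟩
    set w : G → fixAlg hM H K := fun g =>
      if hg : x.1.coeff g ≠ 0 then ⟨orbSum H g, hz g hg⟩ else 0
    have hx : x = ∑ g ∈ Finset.univ.filter (fun g => r g = g),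
        (⟨x.1.coeff g, x.2.int g⟩ : Loc hM) • w g := by
      refine Subtype.ext ?_
      rw [AddSubmonoidClass.coe_finsetSum]
      conv_lhs => rw [eq_sum_orbSum x.2.inv hr]
      refine Finset.sum_congr rfl fun g _ => ?_
      rw [Subalgebra.coe_smul, loc_smul_def]
      simp only [w]
      split
      · rfl
      · next hg =>
        rw [not_not] at hg
        simp [hg]
    rw [hx]
    exact sum_mem fun g _ => smul_mem_mR ((mem_maximal_iff hM _).2 (h g)) _

theorem exists_lift (hM : Cfsg.IsPModular p M) {z : MonoidAlgebra ℂ G} (hz : IsFix M H K z)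
    (h : CongEl M (z * z) z) :
    ∃ q : (Loc hM)[X], aeval z q * aeval z q = aeval z q ∧ CongEl M (aeval z q) z := by
  obtain ⟨q, hq, hqz⟩ := exists_idem_lift (splitsAll_loc hM)
    (z := (⟨z, hz⟩ : fixAlg hM H K)) (mem_mR_iff.2 h)
  have he := Polynomial.aeval_subalgebra_coe q (fixAlg hM H K) ⟨z, hz⟩
  refine ⟨q, ?_, ?_⟩
  · have := congrArg Subtype.val hq
    rw [Subalgebra.coe_mul, he] at this
    exact this
  · have := mem_mR_iff.1 hqz
    rw [Subalgebra.coe_sub, he] at this
    exact this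

theorem exists_split_fix (hM : Cfsg.IsPModular p M) {a : MonoidAlgebra ℂ G} (ha : IsFix M H K a) :
    ∃ q r : (Loc hM)[X], aeval a q * aeval a q = aeval a q ∧ aeval a r * a = aeval a q ∧
      ∃ n : ℕ, IdealEl M (a ^ n * (1 - aeval a q)) := by
  obtain ⟨q, r, hq, hr, n, hn⟩ := exists_split (splitsAll_loc hM) (⟨a, ha⟩ : fixAlg hM H K)
  have he := fun q => Polynomial.aeval_subalgebra_coe q (fixAlg hM H K) ⟨a, ha⟩
  refine ⟨q, r, ?_, ?_, n, ?_⟩
  · have := congrArg Subtype.val hq
    rwa [Subalgebra.coe_mul, he] at this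
  · have := congrArg Subtype.val hr
    rwa [Subalgebra.coe_mul, he, he] at this
  · have := mem_mR_iff.1 hn
    rwa [Subalgebra.coe_mul, Subalgebra.coe_pow, Subalgebra.coe_sub, Subalgebra.coe_one, he] at this

theorem fix_idem_eq_zero (hM : Cfsg.IsPModular p M) {e : MonoidAlgebra ℂ G} (he : IsFix M H K e)
    (hid : e * e = e) (h : IdealEl M e) : e = 0 :=
  congrArg Subtype.val (idem_eq_zero (O := Loc hM) (e := (⟨e, he⟩ : fixAlg hM H K))
    (Subtype.ext hid) (mem_mR_iff.2 h))

/-- Congruent idempotents are conjugate. -/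
theorem exists_conj (hM : Cfsg.IsPModular p M) {e e' : MonoidAlgebra ℂ G} (he : IsFix M H K e)
    (he' : IsFix M H K e') (hid : e * e = e) (hid' : e' * e' = e') (h : CongEl M e' e) :
    ∃ w w' : MonoidAlgebra ℂ G, IsFix M H K w ∧ IsFix M H K w' ∧ w' * w = 1 ∧ w * w' = 1 ∧
      w * e = e' * w := by
  obtain ⟨w, hw, -⟩ := exists_conj_of_cong (O := Loc hM) (e := (⟨e, he⟩ : fixAlg hM H K))
    (e' := ⟨e', he'⟩) (Subtype.ext hid) (Subtype.ext hid') (mem_mR_iff.2 h)
  refine ⟨(w : fixAlg hM H K).1, (↑w⁻¹ : fixAlg hM H K).1, (w : fixAlg hM H K).2,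
    (↑w⁻¹ : fixAlg hM H K).2, ?_, ?_, ?_⟩
  · exact congrArg Subtype.val w.inv_mul
  · exact congrArg Subtype.val w.mul_inv
  · exact congrArg Subtype.val hw

/-! ### Traces and conjugation -/

theorem evalChar_mul_comm {χ : G → ℂ} (hχ : Cfsg.IsClassFunction G χ) (x y : MonoidAlgebra ℂ G) :
    evalChar χ (x * y) = evalChar χ (y * x) := by
  haveI := Fintype.ofFinite G
  conv_lhs => rw [eq_sum_single x, eq_sum_single y]
  conv_rhs => rw [eq_sum_single x, eq_sum_single y]
  simp only [Finset.sum_mul, Finset.mul_sum, evalChar_sum, smul_mul_smul_comm, evalChar_smul,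
    single_mul_single, mul_one, evalChar_single, one_mul]
  rw [Finset.sum_comm]
  refine Finset.sum_congr rfl fun a _ => Finset.sum_congr rfl fun b _ => ?_
  rw [← hχ (a * b) b]
  congr 1
  · ring
  · congr 1; group

/-- Conjugation in the group algebra. -/
noncomputable def cjE (x : G) (z : MonoidAlgebra ℂ G) : MonoidAlgebra ℂ G :=
  single x 1 * z * single x⁻¹ 1

theorem coeff_cjE (x g : G) (z : MonoidAlgebra ℂ G) :
    (cjE x z).coeff g = z.coeff (x⁻¹ * g * x) := by
  rw [cjE, coeff_mul_single', coeff_single_mul', inv_inv, one_mul, mul_one, mul_assoc]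

theorem single_inv_mul (x : G) :
    single x⁻¹ (1 : ℂ) * single x 1 = (1 : MonoidAlgebra ℂ G) := by
  rw [single_mul_single, inv_mul_cancel, one_mul, MonoidAlgebra.one_def]

theorem cjE_mul (x : G) (y z : MonoidAlgebra ℂ G) : cjE x (y * z) = cjE x y * cjE x z := by
  simp only [cjE, mul_assoc]
  rw [← mul_assoc (single x⁻¹ (1 : ℂ)) (single x (1 : ℂ)), single_inv_mul, one_mul]

theorem cjE_cjE (x y : G) (z : MonoidAlgebra ℂ G) : cjE x (cjE y z) = cjE (x * y) z :=
  el_ext fun g => by rw [coeff_cjE, coeff_cjE, coeff_cjE]; congr 1; group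

theorem cjE_one (z : MonoidAlgebra ℂ G) : cjE 1 z = z := el_ext fun g => by simp [coeff_cjE]

theorem cjE_sum {ι : Type*} (x : G) (s : Finset ι) (f : ι → MonoidAlgebra ℂ G) :
    cjE x (∑ i ∈ s, f i) = ∑ i ∈ s, cjE x (f i) := by
  simp only [cjE, Finset.mul_sum, Finset.sum_mul]

theorem cjE_smul (x : G) (c : ℂ) (z : MonoidAlgebra ℂ G) : cjE x (c • z) = c • cjE x z := by
  simp only [cjE, mul_smul_comm, smul_mul_assoc]

theorem cjE_eq_self {S : Set G} {z : MonoidAlgebra ℂ G} (hz : InvBy S z) {x : G} (hx : x ∈ S) :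
    cjE x z = z :=
  el_ext fun g => by rw [coeff_cjE, ← hz x hx]; congr 1; group

theorem intEl_cjE {z : MonoidAlgebra ℂ G} (hz : IntEl M z) (x : G) : IntEl M (cjE x z) :=
  fun g => by rw [coeff_cjE]; exact hz _

theorem congEl_cjE {y z : MonoidAlgebra ℂ G} (h : CongEl M y z) (x : G) :
    CongEl M (cjE x y) (cjE x z) := fun g => by
  have := h (x⁻¹ * g * x)
  simpa [MonoidAlgebra.coeff_sub, coeff_cjE] using this

theorem evalChar_cjE {χ : G → ℂ} (hχ : Cfsg.IsClassFunction G χ) (x : G) (z : MonoidAlgebra ℂ G) :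
    evalChar χ (cjE x z) = evalChar χ z := by
  rw [cjE, evalChar_mul_comm hχ, ← mul_assoc, single_inv_mul, one_mul]

end Cfsg.Agent.Blocks.Star
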