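import Mathlib
import Cfsg.Agent.Lib.Blocks.FirstMain
import Cfsg.Agent.Lib.Blocks.Orthogonality
import Cfsg.Agent.Lib.Blocks.Star.Ambient

/-!
# Values of characters at `u i` for an idempotent `i` fixed by `u`

The value depends only on the image of `i` under the Brauer map at `u`; this gives meaning to the
value at `u w i` for an element `w` central in the group algebra of the centraliser of `u`.
-/

set_option linter.style.haveILetI false
set_option linter.unusedSectionVars false

namespace Cfsg.Agent.Blocks.Star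

open Cfsg.Agent.Blocks Cfsg.Agent.Characters
open Cfsg.Agent.BlockCharsA.BrauerPairs
open Polynomial MonoidAlgebra

universe u

variable {G : Type u} [Group G] [Finite G] {p : ℕ} {M : Ideal Cfsg.AlgInt}

/-- The centraliser of `u`, through the subgroup it generates. -/
abbrev CU (u : G) : Subgroup G := Subgroup.centralizer ((Subgroup.zpowers u : Subgroup G) : Set G)

theorem commute_of_supp {K : Subgroup G} {w z : MonoidAlgebra ℂ G} (hw : InvBy (K : Set G) w)
    (hz : ∀ g ∉ K, z.coeff g = 0) : Commute w z := by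
  haveI := Fintype.ofFinite G
  rw [eq_sum_single z]
  refine Commute.sum_right _ _ _ fun g _ => ?_
  by_cases hg : g ∈ K
  · rw [show single g (z.coeff g) = z.coeff g • single g (1 : ℂ) by
      rw [MonoidAlgebra.smul_single, smul_eq_mul, mul_one]]
    exact (invBy_iff_commute.1 hw g hg).symm.smul_right _
  · simp [hz g hg]

theorem invBy_of_supp_cent {P : Subgroup G} {z : MonoidAlgebra ℂ G}
    (hz : ∀ g ∉ Subgroup.centralizer (P : Set G), z.coeff g = 0) : InvBy (P : Set G) z := by
  intro v hv g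
  have hn := normalizer_le_normalizer_centralizer P (Subgroup.le_normalizer hv)
  by_cases hg : g ∈ Subgroup.centralizer (P : Set G)
  · rw [hg v hv, mul_inv_cancel_right]
  · rw [hz g hg, hz _ fun h => hg ((Subgroup.mem_normalizer_iff.1 hn g).2 h)]

theorem commute_single_supp {u : G} {z : MonoidAlgebra ℂ G} (hz : ∀ g ∉ CU u, z.coeff g = 0) :
    Commute (single u (1 : ℂ)) z :=
  invBy_iff_commute.1 (invBy_of_supp_cent hz) u (Subgroup.mem_zpowers u)

theorem IsFix.commute_single {H K : Subgroup G} {x : MonoidAlgebra ℂ G} (hx : IsFix M H K x)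
    {u : G} (hu : u ∈ H) : Commute (single u (1 : ℂ)) x :=
  invBy_iff_commute.1 hx.inv u hu

/-! ### The Brauer map on fixed elements -/

theorem cutEl_sub (P : Subgroup G) (x y : MonoidAlgebra ℂ G) :
    cutEl P (x - y) = cutEl P x - cutEl P y := by
  refine el_ext fun g => ?_
  by_cases h : g ∈ Subgroup.centralizer (P : Set G)
  · simp [cutEl_coeff_mem _ h, MonoidAlgebra.coeff_sub]
  · simp [cutEl_coeff_notMem _ h, MonoidAlgebra.coeff_sub]

theorem cutEl_of_supp {P : Subgroup G} {z : MonoidAlgebra ℂ G}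
    (hz : ∀ g ∉ Subgroup.centralizer (P : Set G), z.coeff g = 0) : cutEl P z = z := by
  refine el_ext fun g => ?_
  by_cases h : g ∈ Subgroup.centralizer (P : Set G)
  · rw [cutEl_coeff_mem _ h]
  · rw [cutEl_coeff_notMem _ h, hz g h]

theorem cutEl_one (P : Subgroup G) : cutEl P (1 : MonoidAlgebra ℂ G) = 1 :=
  cutEl_of_supp fun g hg => by
    classical
    rw [MonoidAlgebra.one_def, MonoidAlgebra.coeff_single, Finsupp.single_apply,
      if_neg fun h : (1 : G) = g => hg (h ▸ Subgroup.one_mem _)]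

theorem cutEl_cutEl {P S : Subgroup G} (h : P ≤ S) (z : MonoidAlgebra ℂ G) :
    cutEl S (cutEl P z) = cutEl S z := by
  refine el_ext fun g => ?_
  by_cases hg : g ∈ Subgroup.centralizer (S : Set G)
  · rw [cutEl_coeff_mem _ hg, cutEl_coeff_mem _ hg,
      cutEl_coeff_mem _ (centralizer_le_centralizer h hg)]
  · rw [cutEl_coeff_notMem _ hg, cutEl_coeff_notMem _ hg]

theorem idealEl_cutEl (hM : Cfsg.IsPModular p M) (P : Subgroup G) {z : MonoidAlgebra ℂ G}
    (hz : IdealEl M z) : IdealEl M (cutEl P z) := fun g => by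
  by_cases h : g ∈ Subgroup.centralizer (P : Set G)
  · rw [cutEl_coeff_mem z h]; exact hz g
  · rw [cutEl_coeff_notMem z h]; exact ideal_zero hM

theorem congEl_cutEl (hM : Cfsg.IsPModular p M) (P : Subgroup G) {x y : MonoidAlgebra ℂ G}
    (h : CongEl M x y) : CongEl M (cutEl P x) (cutEl P y) := by
  unfold CongEl
  rw [← cutEl_sub]
  exact idealEl_cutEl hM P h

theorem isFix_cut (hM : Cfsg.IsPModular p M) (P : Subgroup G) {z : MonoidAlgebra ℂ G}
    (hz : IntEl M z) : IsFix M P (Subgroup.centralizer (P : Set G)) (cutEl P z) :=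
  ⟨intEl_cutEl hM P hz, invBy_of_supp_cent fun _ => cutEl_coeff_notMem z,
    fun _ => cutEl_coeff_notMem z⟩

theorem cut_mul (hM : Cfsg.IsPModular p M) {P H K K' : Subgroup G} (hP : IsPGroup p P)
    (hle : P ≤ H) {x y : MonoidAlgebra ℂ G} (hx : IsFix M H K x) (hy : IsFix M H K' y) :
    CongEl M (cutEl P (x * y)) (cutEl P x * cutEl P y) :=
  congEl_cutEl_mul hM hP hx.int hy.int (fun v hv => hx.inv v (hle hv))
    (fun v hv => hy.inv v (hle hv))

theorem congEl_sub' (hM : Cfsg.IsPModular p M) {x y x' y' : MonoidAlgebra ℂ G}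
    (hx : CongEl M x x') (hy : CongEl M y y') : CongEl M (x - y) (x' - y') := by
  unfold CongEl at *
  rw [sub_sub_sub_comm]
  exact idealEl_sub hM hx hy

theorem congEl_add' (hM : Cfsg.IsPModular p M) {x y x' y' : MonoidAlgebra ℂ G}
    (hx : CongEl M x x') (hy : CongEl M y y') : CongEl M (x + y) (x' + y') := by
  unfold CongEl at *
  rw [add_sub_add_comm]
  exact idealEl_add hM hx hy

theorem congEl_pow (hM : Cfsg.IsPModular p M) {x y : MonoidAlgebra ℂ G} (h : CongEl M x y)
    (hy : IntEl M y) (n : ℕ) : CongEl M (x ^ n) (y ^ n) := by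
  induction n with
  | zero => simpa using congEl_refl hM (1 : MonoidAlgebra ℂ G)
  | succ n ih =>
    rw [pow_succ, pow_succ]
    exact congEl_mul hM ih h (intEl_pow hM hy n) hy

theorem congEl_zero_iff {x : MonoidAlgebra ℂ G} : CongEl M x 0 ↔ IdealEl M x := by
  rw [CongEl, sub_zero]

theorem IsFix.pow (hM : Cfsg.IsPModular p M) {H K : Subgroup G} {x : MonoidAlgebra ℂ G}
    (hx : IsFix M H K x) (n : ℕ) : IsFix M H K (x ^ n) := (fixAlg hM H K).pow_mem hx n

theorem cut_pow (hM : Cfsg.IsPModular p M) {P H K : Subgroup G} (hP : IsPGroup p P)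
    (hle : P ≤ H) {x : MonoidAlgebra ℂ G} (hx : IsFix M H K x) (n : ℕ) :
    CongEl M (cutEl P (x ^ n)) (cutEl P x ^ n) := by
  induction n with
  | zero => simpa [cutEl_one] using congEl_refl hM (1 : MonoidAlgebra ℂ G)
  | succ n ih =>
    rw [pow_succ, pow_succ]
    exact congEl_trans hM (cut_mul hM hP hle (hx.pow hM n) hx) (congEl_mul hM ih (congEl_refl hM _)
      (intEl_pow hM (intEl_cutEl hM P hx.int) n) (intEl_cutEl hM P hx.int))

/-! ### Vanishing -/

/-- A class function vanishes at `u E` when the idempotent `E` is killed by the Brauer map at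
the `p`-element `u`. -/
theorem evalChar_shift_eq_zero (hM : Cfsg.IsPModular p M) {χ : G → ℂ}
    (hχ : Cfsg.IsClassFunction G χ) {u : G} (hu : ∃ k : ℕ, orderOf u = p ^ k)
    {E : MonoidAlgebra ℂ G} (hE : IsFix M (Subgroup.zpowers u) ⊤ E) (hid : E * E = E)
    (hcut : IdealEl M (cutEl (Subgroup.zpowers u) E)) :
    evalChar χ (single u 1 * E) = 0 := by
  haveI := Fintype.ofFinite G
  set F : MonoidAlgebra ℂ G := single u 1 * E
  have hF : ∀ g, F.coeff g = E.coeff (u⁻¹ * g) := fun g => by simp [F]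
  have ht : ∀ h : G, ∑ v : G, F.coeff (v * h * v⁻¹) = 0 := by
    intro h
    obtain ⟨z, w, hzw, hc, hzo, hwo⟩ := exists_ppart hM.1 h
    simp only [hF, ← hzw]
    have h0 := sum_conj_shift_eq_zero hM hE.int hid (Commute.one_right u) hc hu
      (by simp [hM.1.ne_one]) hzo hwo (hE.inv u (Subgroup.mem_zpowers u)) (fun g => by simp)
      fun _ c hc' => by
        have := hcut c
        rwa [cutEl_coeff_mem _ (mem_centralizer_zpowers.2 hc')] at this
    simpa using h0
  have hsum : ∑ h : G, χ h * ∑ v : G, F.coeff (v * h * v⁻¹) =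
      (Nat.card G : ℂ) * evalChar χ F := by
    simp only [Finset.mul_sum]
    rw [Finset.sum_comm]
    rw [Finset.sum_congr rfl (g := fun _ => evalChar χ F) fun v _ => ?_]
    · simp [Nat.card_eq_fintype_card]
    rw [evalChar_eq_sum]
    refine Fintype.sum_equiv (MulAut.conj v).toEquiv _ _ fun h => ?_
    rw [show (MulAut.conj v).toEquiv h = v * h * v⁻¹ from rfl, hχ h v, mul_comm]
  simp only [ht, mul_zero, Finset.sum_const_zero] at hsum
  exact (mul_eq_zero.1 hsum.symm).resolve_left natCard_ne_zero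

/-- A lift to the centraliser of `u` of the Brauer image of `i` at `u`. -/
structure IsLift (M : Ideal Cfsg.AlgInt) (u : G) (i j : MonoidAlgebra ℂ G) : Prop where
  fix : IsFix M (Subgroup.zpowers u) (CU u) j
  idem : j * j = j
  cong : CongEl M j (cutEl (Subgroup.zpowers u) i)

theorem exists_isLift (hM : Cfsg.IsPModular p M) {u : G} (hu : ∃ k : ℕ, orderOf u = p ^ k)
    {K : Subgroup G} {i : MonoidAlgebra ℂ G} (hi : IsFix M (Subgroup.zpowers u) K i)
    (hid : i * i = i) : ∃ j, IsLift M u i j := by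
  have hc := isFix_cut hM (Subgroup.zpowers u) hi.int
  have h := cut_mul hM (zpowers_isPGroup hu) le_rfl hi hi
  rw [hid] at h
  obtain ⟨q, hq, hqz⟩ := exists_lift hM hc (congEl_symm hM h)
  exact ⟨_, isFix_aeval hM hc q, hq, hqz⟩

/-- The value at `u i` only depends on the Brauer image of `i` at `u`. -/
theorem evalChar_shift_eq (hM : Cfsg.IsPModular p M) {χ : G → ℂ}
    (hχ : Cfsg.IsClassFunction G χ) {u : G} (hu : ∃ k : ℕ, orderOf u = p ^ k)
    {i j : MonoidAlgebra ℂ G} (hi : IsFix M (Subgroup.zpowers u) ⊤ i) (hid : i * i = i)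
    (hj : IsLift M u i j) : evalChar χ (single u 1 * i) = evalChar χ (single u 1 * j) := by
  set P := Subgroup.zpowers u
  have hP : IsPGroup p P := zpowers_isPGroup hu
  have hc : ∀ {x y : MonoidAlgebra ℂ G}, IsFix M P ⊤ x → IsFix M P ⊤ y →
      CongEl M (cutEl P (x * y)) (cutEl P x * cutEl P y) := fun hx hy => cut_mul hM hP le_rfl hx hy
  have hci : ∀ {x : MonoidAlgebra ℂ G}, IsFix M P ⊤ x → IntEl M (cutEl P x) := fun hx =>
    intEl_cutEl hM P hx.int
  have hj' : IsFix M P ⊤ j := hj.fix.mono le_rfl le_top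
  have hjj := hj.idem
  have hcj : cutEl P j = j := cutEl_of_supp hj.fix.supp
  have hij : CongEl M (cutEl P i) j := congEl_symm hM hj.cong
  set a := j * i * j with hadef
  have ha : IsFix M P ⊤ a := (hj'.mul hM hi).mul hM hj'
  have hji : CongEl M (cutEl P (j * i)) j := by
    refine congEl_trans hM (hc hj' hi) (congEl_trans hM
      (congEl_mul hM (congEl_of_eq hM hcj) hij hj'.int hj'.int) (congEl_of_eq hM hjj))
  have hca : CongEl M (cutEl P a) j := by
    refine congEl_trans hM (hc (hj'.mul hM hi) hj') (congEl_trans hM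
      (congEl_mul hM hji (congEl_of_eq hM hcj) hj'.int hj'.int) (congEl_of_eq hM hjj))
  have hja : j * a = a := by rw [hadef, ← mul_assoc, ← mul_assoc, hjj]
  have haj : a * j = a := by rw [hadef, mul_assoc, hjj]
  obtain ⟨q, r, hEE, hrE, n, hn⟩ := exists_split_fix hM ha
  set E := aeval a q
  set z := aeval a r
  have hE : IsFix M P ⊤ E := isFix_aeval hM ha q
  have hz : IsFix M P ⊤ z := isFix_aeval hM ha r
  have hjE : Commute j E := commute_aeval (hja.trans haj.symm) q
  have hjpow : ∀ k : ℕ, j ^ (k + 1) = j := fun k => IsIdempotentElem.pow_succ_eq k hjj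
  -- the Brauer image of `j E`
  have hce : CongEl M (j * cutEl P E) j := by
    have h1 : IdealEl M (a ^ (n + 1) * (1 - E)) := by
      rw [pow_succ', mul_assoc]
      exact idealEl_mul_left hM ha.int hn
    have h2 : CongEl M (cutEl P (a ^ (n + 1) * (1 - E))) (j * (1 - cutEl P E)) := by
      refine congEl_trans hM (hc (ha.pow hM (n + 1)) ((isFix_one hM).sub hM hE)) ?_
      refine congEl_mul hM ?_ (congEl_of_eq hM (by rw [cutEl_sub, cutEl_one])) hj'.int
        (intEl_sub hM (intEl_one hM) (hci hE))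
      refine congEl_trans hM (cut_pow hM hP le_rfl ha (n + 1)) ?_
      exact congEl_trans hM (congEl_pow hM hca hj'.int (n + 1)) (congEl_of_eq hM (hjpow n))
    have h3 := congEl_trans hM (congEl_symm hM h2) (congEl_zero_iff.2 (idealEl_cutEl hM P h1))
    rw [mul_sub, mul_one, congEl_zero_iff] at h3
    exact congEl_symm hM h3
  -- `cut z j ≡ cut E`
  have hcz : CongEl M (cutEl P z * j) (cutEl P E) := by
    refine congEl_trans hM (congEl_mul hM (congEl_refl hM _) (congEl_symm hM hca) (hci hz)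
      (hci ha)) ?_
    refine congEl_trans hM (congEl_symm hM (hc hz ha)) (congEl_of_eq hM (by rw [hrE]))
  set e1 := j * E with he1def
  have he1 : IsFix M P ⊤ e1 := hj'.mul hM hE
  have he1id : e1 * e1 = e1 := by
    rw [he1def, mul_assoc, ← mul_assoc E, ← hjE.eq, mul_assoc j E, hEE, ← mul_assoc, hjj]
  have hce1 : CongEl M (cutEl P e1) j := by
    refine congEl_trans hM (hc hj' hE) ?_
    rw [hcj]
    exact hce
  set r1 := e1 * z * (j * i) with hr1
  set r1' := i * e1 with hr1'
  have hr : IsFix M P ⊤ r1 := (he1.mul hM hz).mul hM (hj'.mul hM hi)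
  have hr' : IsFix M P ⊤ r1' := hi.mul hM he1
  have hrr : r1 * r1' = e1 := by
    calc r1 * r1' = e1 * z * (j * (i * i) * j) * E := by
          simp only [hr1, hr1', he1def, mul_assoc]
      _ = e1 * (z * a) * E := by rw [hid, hadef]; simp only [mul_assoc]
      _ = e1 * (E * E) := by rw [hrE, mul_assoc]
      _ = e1 := by rw [hEE, he1def, mul_assoc, hEE]
  set q1 := r1' * r1 with hq1
  have hre : e1 * r1 = r1 := by rw [hr1, ← mul_assoc e1 (e1 * z), ← mul_assoc e1 e1 z, he1id]
  have hq1id : q1 * q1 = q1 := by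
    rw [hq1, mul_assoc, ← mul_assoc r1, hrr, hre]
  have hiq : i * q1 = q1 := by rw [hq1, ← mul_assoc, hr1', ← mul_assoc i i e1, hid]
  have hqi : q1 * i = q1 := by
    rw [hq1, hr1, mul_assoc, mul_assoc (e1 * z), mul_assoc j i i, hid]
  have hcq : CongEl M (cutEl P q1) j := by
    have h1 : CongEl M (cutEl P r1') j := congEl_trans hM (hc hi he1) (congEl_trans hM
      (congEl_mul hM hij hce1 hj'.int hj'.int) (congEl_of_eq hM hjj))
    have h2 : CongEl M (cutEl P r1) j := by
      refine congEl_trans hM (hc (he1.mul hM hz) (hj'.mul hM hi)) ?_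
      refine congEl_trans hM (congEl_mul hM (congEl_trans hM (hc he1 hz)
        (congEl_mul hM hce1 (congEl_refl hM _) hj'.int (hci hz))) hji
        (intEl_mul hM hj'.int (hci hz)) hj'.int) ?_
      rw [mul_assoc]
      exact congEl_trans hM (congEl_mul hM (congEl_refl hM j) hcz hj'.int (hci hE)) hce
    exact congEl_trans hM (hc hr' hr) (congEl_trans hM (congEl_mul hM h1 h2 hj'.int hj'.int)
      (congEl_of_eq hM hjj))
  have hsw : evalChar χ (single u 1 * q1) = evalChar χ (single u 1 * e1) := by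
    rw [hq1, ← mul_assoc, evalChar_mul_comm hχ, ← mul_assoc,
      ← (hr.commute_single (Subgroup.mem_zpowers u)).eq, mul_assoc, hrr]
  have hv1 : evalChar χ (single u 1 * (i - q1)) = 0 := by
    refine evalChar_shift_eq_zero hM hχ hu (hi.sub hM (hr'.mul hM hr)) ?_ ?_
    · rw [mul_sub, sub_mul, sub_mul, hid, hiq, hqi, hq1id, sub_self, sub_zero]
    · rw [cutEl_sub, ← congEl_zero_iff, ← sub_self j]
      exact congEl_sub' hM hij hcq
  have hv2 : evalChar χ (single u 1 * (j - e1)) = 0 := by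
    refine evalChar_shift_eq_zero hM hχ hu (hj'.sub hM he1) ?_ ?_
    · have h1 : j * e1 = e1 := by rw [he1def, ← mul_assoc, hjj]
      have h2 : e1 * j = e1 := by rw [he1def, mul_assoc, ← hjE.eq, ← mul_assoc, hjj]
      rw [mul_sub, sub_mul, sub_mul, hjj, h1, h2, he1id, sub_self, sub_zero]
    · rw [cutEl_sub, ← congEl_zero_iff, hcj, ← sub_self j]
      exact congEl_sub' hM (congEl_refl hM j) hce1
  rw [mul_sub, evalChar_sub, sub_eq_zero] at hv1 hv2
  rw [hv1, hsw, hv2]

/-! ### The value at `u w i` -/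

open scoped Classical in
/-- The value at `u w` of the Brauer image of `i`. -/
noncomputable def valAt (M : Ideal Cfsg.AlgInt) (χ : G → ℂ) (w : MonoidAlgebra ℂ G) (u : G)
    (i : MonoidAlgebra ℂ G) : ℂ :=
  if h : ∃ j, IsLift M u i j then evalChar χ (single u 1 * w * h.choose) else 0

section valAt

variable (hM : Cfsg.IsPModular p M) {χ : G → ℂ} (hχ : Cfsg.IsClassFunction G χ) {u : G}
  {w : MonoidAlgebra ℂ G} (hw : InvBy ((CU u : Subgroup G) : Set G) w)
include hM hχ hw

theorem valAt_eq {i j : MonoidAlgebra ℂ G} (hj : IsLift M u i j) :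
    valAt M χ w u i = evalChar χ (single u 1 * w * j) := by
  rw [valAt, dif_pos ⟨j, hj⟩]
  set h : ∃ j, IsLift M u i j := ⟨j, hj⟩
  set j' := h.choose
  have hj' : IsLift M u i j' := h.choose_spec
  obtain ⟨v, v', hv, hv', hv'v, hvv', hve⟩ := exists_conj hM hj.fix hj'.fix hj.idem hj'.idem
    (congEl_trans hM hj'.cong (congEl_symm hM hj.cong))
  have e : j' = v * j * v' := by rw [hve, mul_assoc, hvv', mul_one]
  have hc : Commute (single u (1 : ℂ) * w) v' :=
    (commute_single_supp hv'.supp).mul_left (commute_of_supp hw hv'.supp)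
  rw [e, ← mul_assoc, evalChar_mul_comm hχ, ← mul_assoc, ← mul_assoc, ← hc.eq,
    mul_assoc _ v', hv'v, mul_one]

theorem valAt_zero {i : MonoidAlgebra ℂ G} (h : IdealEl M (cutEl (Subgroup.zpowers u) i)) :
    valAt M χ w u i = 0 := by
  rw [valAt_eq hM hχ hw (j := 0) ⟨isFix_zero hM, mul_zero _,
    congEl_symm hM (congEl_zero_iff.2 h)⟩, mul_zero, evalChar_zero]

theorem valAt_smul (hu : ∃ k : ℕ, orderOf u = p ^ k) {i j : MonoidAlgebra ℂ G}
    (hi : IsFix M (Subgroup.zpowers u) ⊤ i) (hid : i * i = i) (hj : IsLift M u i j) {c : ℂ}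
    (hwj : w * j = c • j) : valAt M χ w u i = c * evalChar χ (single u 1 * i) := by
  rw [valAt_eq hM hχ hw hj, mul_assoc, hwj, mul_smul_comm, evalChar_smul,
    evalChar_shift_eq hM hχ hu hi hid hj]

theorem valAt_equiv (hu : ∃ k : ℕ, orderOf u = p ^ k) {H : Subgroup G}
    (huH : u ∈ H) {e f r r' : MonoidAlgebra ℂ G} (he : IsFix M H ⊤ e) (hf : IsFix M H ⊤ f)
    (hr : IsFix M H ⊤ r) (hr' : IsFix M H ⊤ r') (hee : e * e = e) (hff : f * f = f)
    (herf : e * r * f = r) (hfre : f * r' * e = r') (hrr : r * r' = e) (hr'r : r' * r = f) :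
    valAt M χ w u e = valAt M χ w u f := by
  set P := Subgroup.zpowers u
  have hle : P ≤ H := Subgroup.zpowers_le.2 huH
  have hP : IsPGroup p P := zpowers_isPGroup hu
  obtain ⟨je, hje⟩ := exists_isLift hM hu (he.mono hle le_rfl) hee
  obtain ⟨jf, hjf⟩ := exists_isLift hM hu (hf.mono hle le_rfl) hff
  have hcr : IsFix M P (CU u) (cutEl P r) := isFix_cut hM P hr.int
  have hcr' : IsFix M P (CU u) (cutEl P r') := isFix_cut hM P hr'.int
  set r1 := je * cutEl P r * jf with hr1
  set r1' := jf * cutEl P r' * je with hr1'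
  have hF : IsFix M P (CU u) r1 := (hje.fix.mul hM hcr).mul hM hjf.fix
  have hF' : IsFix M P (CU u) r1' := (hjf.fix.mul hM hcr').mul hM hje.fix
  have hi1 := intEl_cutEl hM P he.int
  have hi2 := intEl_cutEl hM P hf.int
  have hR : CongEl M r1 (cutEl P r) := by
    conv_rhs => rw [← herf]
    refine congEl_symm hM ?_
    refine congEl_trans hM (cut_mul hM hP hle (he.mul hM hr) hf) ?_
    refine congEl_trans hM (congEl_mul hM (cut_mul hM hP hle he hr) (congEl_refl hM _)
      (intEl_mul hM hi1 hcr.int) hi2) ?_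
    exact congEl_mul hM (congEl_mul hM (congEl_symm hM hje.cong) (congEl_refl hM _) hje.fix.int
      hcr.int) (congEl_symm hM hjf.cong) (intEl_mul hM hje.fix.int hcr.int) hjf.fix.int
  have hR' : CongEl M r1' (cutEl P r') := by
    conv_rhs => rw [← hfre]
    refine congEl_symm hM ?_
    refine congEl_trans hM (cut_mul hM hP hle (hf.mul hM hr') he) ?_
    refine congEl_trans hM (congEl_mul hM (cut_mul hM hP hle hf hr') (congEl_refl hM _)
      (intEl_mul hM hi2 hcr'.int) hi1) ?_
    exact congEl_mul hM (congEl_mul hM (congEl_symm hM hjf.cong) (congEl_refl hM _) hjf.fix.int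
      hcr'.int) (congEl_symm hM hje.cong) (intEl_mul hM hjf.fix.int hcr'.int) hje.fix.int
  set b := r1 * r1' with hbdef
  have hb : IsFix M P (CU u) b := hF.mul hM hF'
  have hbe : CongEl M b je := by
    refine congEl_trans hM (congEl_mul hM hR hR' hcr.int hcr'.int) ?_
    refine congEl_trans hM (congEl_symm hM (cut_mul hM hP hle hr hr')) ?_
    rw [hrr]
    exact congEl_symm hM hje.cong
  have hl1 : je * r1 = r1 := by rw [hr1, ← mul_assoc, ← mul_assoc, hje.idem]
  have hrt1 : r1 * jf = r1 := by rw [hr1, mul_assoc, hjf.idem]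
  have hl1' : jf * r1' = r1' := by rw [hr1', ← mul_assoc, ← mul_assoc, hjf.idem]
  have hrt1' : r1' * je = r1' := by rw [hr1', mul_assoc, hje.idem]
  have hbl : je * b = b := by rw [hbdef, ← mul_assoc, hl1]
  obtain ⟨⟨c, d, hcd, hdc⟩, hc⟩ := isUnit_of_cong_one (O := Loc hM)
    (w := (⟨b, hb⟩ : fixAlg hM P (CU u)) + (1 - ⟨je, hje.fix⟩)) (mem_mR_iff.2 (by
      show IdealEl M (b + (1 - je) - 1)
      rw [show b + (1 - je) - 1 = b - je by abel]
      exact hbe))
  simp only at hc
  rw [hc] at hcd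
  set y := (d : fixAlg hM P (CU u)).1
  have hy : IsFix M P (CU u) y := d.2
  have hby : b * y = je := by
    have h := congrArg Subtype.val hcd
    have h' : (b + (1 - je)) * y = 1 := h
    have h2 := congrArg (je * ·) h'
    simp only [mul_one, ← mul_assoc, mul_add, mul_sub, hje.idem, sub_self, add_zero, hbl] at h2
    exact h2
  set r2 := r1' * (je * y * je) with hr2
  have hF2 : IsFix M P (CU u) r2 := hF'.mul hM ((hje.fix.mul hM hy).mul hM hje.fix)
  have h12 : r1 * r2 = je := by
    rw [hr2, ← mul_assoc r1', ← mul_assoc r1', hrt1', ← mul_assoc, ← mul_assoc, ← hbdef, hby,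
      hje.idem]
  have hyy : CongEl M (je * y * je) je := by
    refine congEl_trans hM (congEl_mul hM (congEl_mul hM (congEl_symm hM hbe) (congEl_refl hM y)
      hb.int hy.int) (congEl_refl hM je) (intEl_mul hM hb.int hy.int) hje.fix.int) ?_
    rw [hby, hje.idem]
    exact congEl_refl hM je
  have hR2 : CongEl M r2 r1' := by
    refine congEl_trans hM (congEl_mul hM (congEl_refl hM r1') hyy hF'.int hje.fix.int) ?_
    rw [hrt1']
    exact congEl_refl hM _
  have h21 : CongEl M (r2 * r1) jf := by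
    refine congEl_trans hM (congEl_mul hM hR2 (congEl_refl hM r1) hF'.int hF.int) ?_
    refine congEl_trans hM (congEl_mul hM hR' hR hcr'.int hcr.int) ?_
    refine congEl_trans hM (congEl_symm hM (cut_mul hM hP hle hr' hr)) ?_
    rw [hr'r]
    exact congEl_symm hM hjf.cong
  have hjr : jf * r2 = r2 := by rw [hr2, ← mul_assoc, hl1']
  have hrje : r2 * je = r2 := by
    rw [hr2, mul_assoc, mul_assoc (je * y), hje.idem]
  have hidm : r2 * r1 * (r2 * r1) = r2 * r1 := by
    rw [mul_assoc, ← mul_assoc r1, h12, hl1]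
  have hzero : jf - r2 * r1 = 0 := by
    refine fix_idem_eq_zero hM (hjf.fix.sub hM (hF2.mul hM hF)) ?_ (congEl_symm hM h21)
    rw [mul_sub, sub_mul, sub_mul, hjf.idem, ← mul_assoc jf, hjr, mul_assoc r2 r1 jf, hrt1, hidm,
      sub_self, sub_zero]
  have hcomm : Commute (single u (1 : ℂ) * w) r2 :=
    (commute_single_supp hF2.supp).mul_left (commute_of_supp hw hF2.supp)
  rw [valAt_eq hM hχ hw hje, valAt_eq hM hχ hw hjf, sub_eq_zero.1 hzero, ← h12]
  calc evalChar χ (single u (1 : ℂ) * w * (r1 * r2))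
      = evalChar χ (single u (1 : ℂ) * w * r1 * r2) := by rw [← mul_assoc]
    _ = evalChar χ (r2 * (single u (1 : ℂ) * w * r1)) := evalChar_mul_comm hχ _ _
    _ = evalChar χ (r2 * (single u (1 : ℂ) * w) * r1) := by simp only [mul_assoc]
    _ = evalChar χ (single u (1 : ℂ) * w * (r2 * r1)) := by
      rw [← hcomm.eq, mul_assoc (single u (1 : ℂ) * w)]

theorem valAt_add (hu : ∃ k : ℕ, orderOf u = p ^ k) {H : Subgroup G} (huH : u ∈ H)
    {e f : MonoidAlgebra ℂ G} (he : IsFix M H ⊤ e) (hf : IsFix M H ⊤ f) (hee : e * e = e)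
    (hff : f * f = f) (hef : e * f = 0) (hfe : f * e = 0) :
    valAt M χ w u (e + f) = valAt M χ w u e + valAt M χ w u f := by
  set P := Subgroup.zpowers u
  have hle : P ≤ H := Subgroup.zpowers_le.2 huH
  have hP : IsPGroup p P := zpowers_isPGroup hu
  obtain ⟨j1, hj1⟩ := exists_isLift hM hu (he.mono hle le_rfl) hee
  have hc2 : IsFix M P (CU u) (cutEl P f) := isFix_cut hM P hf.int
  set c2 := cutEl P f with hc2def
  have ha : IsFix M P (CU u) (1 - j1) := (isFix_one hM).sub hM hj1.fix
  have haa : (1 - j1) * (1 - j1) = 1 - j1 := by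
    rw [mul_sub, mul_one, sub_mul, one_mul, hj1.idem, sub_self, sub_zero]
  set z := (1 - j1) * c2 * (1 - j1) with hzdef
  have hz : IsFix M P (CU u) z := (ha.mul hM hc2).mul hM ha
  have hzero : cutEl P (0 : MonoidAlgebra ℂ G) = 0 := cutEl_of_supp fun g _ => by simp
  have h1 : CongEl M (j1 * c2) 0 := by
    refine congEl_trans hM (congEl_mul hM hj1.cong (congEl_refl hM c2) (intEl_cutEl hM P he.int)
      hc2.int) ?_
    refine congEl_trans hM (congEl_symm hM (cut_mul hM hP hle he hf)) ?_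
    rw [hef, hzero]
    exact congEl_refl hM 0
  have h2 : CongEl M (c2 * j1) 0 := by
    refine congEl_trans hM (congEl_mul hM (congEl_refl hM c2) hj1.cong hc2.int
      (intEl_cutEl hM P he.int)) ?_
    refine congEl_trans hM (congEl_symm hM (cut_mul hM hP hle hf he)) ?_
    rw [hfe, hzero]
    exact congEl_refl hM 0
  have hzc : CongEl M z c2 := by
    have e1 : CongEl M ((1 - j1) * c2) c2 := by
      rw [sub_mul, one_mul]
      simpa using congEl_sub' hM (congEl_refl hM c2) h1
    refine congEl_trans hM (congEl_mul hM e1 (congEl_refl hM _) hc2.int ha.int) ?_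
    rw [mul_sub, mul_one]
    simpa using congEl_sub' hM (congEl_refl hM c2) h2
  have hzid : CongEl M (z * z) z := by
    refine congEl_trans hM (congEl_mul hM hzc hzc hc2.int hc2.int) ?_
    refine congEl_trans hM ?_ (congEl_symm hM hzc)
    refine congEl_trans hM (congEl_symm hM (cut_mul hM hP hle hf hf)) ?_
    rw [hff]
    exact congEl_refl hM _
  obtain ⟨q, hq, hqz⟩ := exists_lift hM hz hzid
  have hlz : (1 - j1) * z = z := by rw [hzdef, ← mul_assoc, ← mul_assoc, haa]
  have hrz : z * (1 - j1) = z := by rw [hzdef, mul_assoc, haa]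
  have hcom : Commute (1 - j1) (aeval z q) := commute_aeval (hlz.trans hrz.symm) q
  set j2 := (1 - j1) * aeval z q with hj2def
  have hj2 : IsLift M u f j2 := by
    refine ⟨ha.mul hM (isFix_aeval hM hz q), ?_, ?_⟩
    · rw [hj2def, mul_assoc, ← mul_assoc (aeval z q), ← hcom.eq, mul_assoc (1 - j1) (aeval z q),
        hq, ← mul_assoc, haa]
    · refine congEl_trans hM (congEl_mul hM (congEl_refl hM _) hqz ha.int hz.int) ?_
      rw [hlz]
      exact hzc
  have h0 : j1 * (1 - j1) = 0 := by rw [mul_sub, mul_one, hj1.idem, sub_self]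
  have h0' : (1 - j1) * j1 = 0 := by rw [sub_mul, one_mul, hj1.idem, sub_self]
  have hsum : IsLift M u (e + f) (j1 + j2) := by
    refine ⟨hj1.fix.add hM hj2.fix, ?_, ?_⟩
    · rw [add_mul, mul_add, mul_add, hj1.idem, hj2.idem,
        show j1 * j2 = 0 by rw [hj2def, ← mul_assoc, h0, zero_mul],
        show j2 * j1 = 0 by rw [hj2def, hcom.eq, mul_assoc, h0', mul_zero], add_zero, zero_add]
    · rw [cutEl_add]
      exact congEl_add' hM hj1.cong hj2.cong
  rw [valAt_eq hM hχ hw hsum, valAt_eq hM hχ hw hj1, valAt_eq hM hχ hw hj2, mul_add, evalChar_add]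

theorem valAt_sum (hu : ∃ k : ℕ, orderOf u = p ^ k) {H : Subgroup G} (huH : u ∈ H)
    {ι : Type*} (J : Finset ι) {e : ι → MonoidAlgebra ℂ G} (he : ∀ k ∈ J, IsFix M H ⊤ (e k))
    (hid : ∀ k ∈ J, e k * e k = e k) (horth : ∀ k ∈ J, ∀ l ∈ J, k ≠ l → e k * e l = 0) :
    valAt M χ w u (∑ k ∈ J, e k) = ∑ k ∈ J, valAt M χ w u (e k) := by
  classical
  induction J using Finset.induction_on with
  | empty =>
    rw [Finset.sum_empty, Finset.sum_empty]
    refine valAt_zero hM hχ hw ?_
    rw [cutEl_of_supp fun g _ => by simp]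
    exact idealEl_zero hM
  | insert k J hk ih =>
    have hJ : ∀ l ∈ J, l ∈ insert k J := fun l hl => Finset.mem_insert_of_mem hl
    have hk' : k ∈ insert k J := Finset.mem_insert_self k J
    have hne : ∀ l ∈ J, k ≠ l := fun l hl h => hk (h ▸ hl)
    rw [Finset.sum_insert hk, Finset.sum_insert hk, valAt_add hM hχ hw hu huH (he k hk') ?_
      (hid k hk') ?_ ?_ ?_, ih (fun l hl => he l (hJ l hl)) (fun l hl => hid l (hJ l hl))
      fun l hl m hm => horth l (hJ l hl) m (hJ m hm)]
    · exact Finset.sum_induction e (fun x => IsFix M H ⊤ x) (fun _ _ => IsFix.add hM)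
        (isFix_zero hM) fun l hl => he l (hJ l hl)
    · rw [Finset.sum_mul]
      refine Finset.sum_congr rfl fun l hl => ?_
      rw [Finset.mul_sum, Finset.sum_eq_single_of_mem l hl fun m hm hml =>
        horth l (hJ l hl) m (hJ m hm) (Ne.symm hml), hid l (hJ l hl)]
    · rw [Finset.mul_sum]
      exact Finset.sum_eq_zero fun l hl => horth k hk' l (hJ l hl) (hne l hl)
    · rw [Finset.sum_mul]
      exact Finset.sum_eq_zero fun l hl => horth l (hJ l hl) k hk' (Ne.symm (hne l hl))

end valAt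

theorem mem_CU_conj {u g x : G} : x⁻¹ * g * x ∈ CU u ↔ g ∈ CU (x * u * x⁻¹) := by
  simp only [mem_centralizer_zpowers, Subgroup.mem_centralizer_singleton_iff]
  constructor <;> intro h
  · calc g * (x * u * x⁻¹) = x * ((x⁻¹ * g * x) * u) * x⁻¹ := by group
      _ = x * (u * (x⁻¹ * g * x)) * x⁻¹ := by rw [h]
      _ = x * u * x⁻¹ * g := by group
  · calc x⁻¹ * g * x * u = x⁻¹ * (g * (x * u * x⁻¹)) * x := by group
      _ = x⁻¹ * ((x * u * x⁻¹) * g) * x := by rw [h]
      _ = u * (x⁻¹ * g * x) := by group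

theorem cjE_cutEl (x u : G) (z : MonoidAlgebra ℂ G) :
    cjE x (cutEl (Subgroup.zpowers u) z) =
      cutEl (Subgroup.zpowers (x * u * x⁻¹)) (cjE x z) := by
  refine el_ext fun g => ?_
  rw [coeff_cjE]
  by_cases h : g ∈ CU (x * u * x⁻¹)
  · rw [cutEl_coeff_mem _ h, cutEl_coeff_mem _ (mem_CU_conj.2 h), coeff_cjE]
  · rw [cutEl_coeff_notMem _ h, cutEl_coeff_notMem _ fun h' => h (mem_CU_conj.1 h')]

theorem invBy_cjE {u x : G} {w : MonoidAlgebra ℂ G} (hw : InvBy ((CU u : Subgroup G) : Set G) w) :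
    InvBy ((CU (x * u * x⁻¹) : Subgroup G) : Set G) (cjE x w) := fun c hc g => by
  rw [coeff_cjE, coeff_cjE, ← hw (x⁻¹ * c * x) (mem_CU_conj.2 hc) (x⁻¹ * g * x)]
  congr 1
  group

theorem valAt_cjE (hM : Cfsg.IsPModular p M) {χ : G → ℂ} (hχ : Cfsg.IsClassFunction G χ) (x : G)
    {u : G} (hu : ∃ k : ℕ, orderOf u = p ^ k) {w : MonoidAlgebra ℂ G}
    (hw : InvBy ((CU u : Subgroup G) : Set G) w) {K : Subgroup G} {i : MonoidAlgebra ℂ G}
    (hi : IsFix M (Subgroup.zpowers u) K i) (hid : i * i = i) :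
    valAt M χ (cjE x w) (x * u * x⁻¹) (cjE x i) = valAt M χ w u i := by
  obtain ⟨j, hj⟩ := exists_isLift hM hu hi hid
  have hsupp : ∀ g ∉ CU (x * u * x⁻¹), (cjE x j).coeff g = 0 := fun g hg => by
    rw [coeff_cjE, hj.fix.supp _ fun h => hg (mem_CU_conj.1 h)]
  have hj' : IsLift M (x * u * x⁻¹) (cjE x i) (cjE x j) :=
    ⟨⟨intEl_cjE hj.fix.int x, invBy_of_supp_cent hsupp, hsupp⟩, by rw [← cjE_mul, hj.idem], by
      rw [← cjE_cutEl]; exact congEl_cjE hj.cong x⟩
  have hs : cjE x (single u (1 : ℂ)) = single (x * u * x⁻¹) 1 := by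
    simp [cjE, single_mul_single]
  rw [valAt_eq hM hχ (invBy_cjE hw) hj', valAt_eq hM hχ hw hj, ← hs, ← cjE_mul, ← cjE_mul,
    evalChar_cjE hχ]

end Cfsg.Agent.Blocks.Star
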