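import Mathlib
import Cfsg.Agent.Lib.Characters.Induction
import Cfsg.Agent.Lib.Blocks.Star.Cut

/-!
# Integrality of twisted sums over `p`-subgroups

For a weight system `W` on the `p`-elements and an idempotent `π` fixed by a `p`-group `P'`, the
sum over `u ∈ P'` of `conj ν(u) χ(u W(u) π)`, read through the Brauer map, is a multiple of the
order of `P'`.
-/

set_option linter.style.haveILetI false
set_option linter.unusedSectionVars false

namespace Cfsg.Agent.Blocks.Star

open Cfsg.Agent.Blocks Cfsg.Agent.Characters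
open Cfsg.Agent.BlockCharsA.BrauerPairs
open Polynomial MonoidAlgebra
open scoped ComplexConjugate

universe u

variable {G : Type u} [Group G] [Finite G] {p : ℕ} {M : Ideal Cfsg.AlgInt}

/-- A system of weights on the `p`-elements: central in the centraliser, equivariant, and given by
a generalized character along every Brauer pair. -/
structure WeightSys (p : ℕ) (M : Ideal Cfsg.AlgInt) (W : G → MonoidAlgebra ℂ G) : Prop where
  inv : ∀ u, InvBy ((CU u : Subgroup G) : Set G) (W u)
  equiv : ∀ x u : G, (∃ k : ℕ, orderOf u = p ^ k) → W (x * u * x⁻¹) = cjE x (W u)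
  pair : ∀ (P' : Subgroup G) (f : Set (Cfsg.IrrCharacter (Subgroup.centralizer (P' : Set G)))),
    Cfsg.IsBrauerPair p M P' f → ∃ θ : P' → ℂ, Cfsg.IsGeneralizedCharacter P' θ ∧
      ∀ (u : P') (g : Set (Cfsg.IrrCharacter (CU (u : G)))),
        Cfsg.SubpairLE p M (Subgroup.zpowers (u : G)) g P' f →
          W (u : G) * elF (CU (u : G)) g = θ u • elF (CU (u : G)) g

theorem exists_orderOf_coe (hM : Cfsg.IsPModular p M) {P : Subgroup G} (hP : IsPGroup p P)
    (u : P) : ∃ k : ℕ, orderOf (u : G) = p ^ k := by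
  haveI := fact_prime_of_pm hM
  rw [Subgroup.orderOf_coe]
  exact IsPGroup.iff_orderOf.1 hP u

theorem idealEl_inclEl (hM : Cfsg.IsPModular p M) (H : Subgroup G) {x : MonoidAlgebra ℂ H}
    (hx : IdealEl M x) : IdealEl M (inclEl H x) := fun g => by
  by_cases hg : g ∈ H
  · rw [coeff_inclEl_of_mem _ _ hg]; exact hx _
  · rw [coeff_inclEl_notMem _ _ hg]; exact ideal_zero hM

theorem isFix_elF_self (hM : Cfsg.IsPModular p M) {Q : Subgroup G}
    {g : Set (Cfsg.IrrCharacter (Subgroup.centralizer (Q : Set G)))} (hg : Cfsg.IsPBlock M g) :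
    IsFix M Q (Subgroup.centralizer (Q : Set G)) (elF (Subgroup.centralizer (Q : Set G)) g) :=
  ⟨intEl_elF hM hg, invBy_of_supp_cent fun _ h => coeff_inclEl_notMem _ _ h,
    fun _ h => coeff_inclEl_notMem _ _ h⟩

/-- A normal subpair absorbs the Brauer image of the lower idempotent. -/
theorem subpair_cut_absorb (hM : Cfsg.IsPModular p M) {Q S : Subgroup G}
    {g : Set (Cfsg.IrrCharacter (Subgroup.centralizer (Q : Set G)))}
    {h : Set (Cfsg.IrrCharacter (Subgroup.centralizer (S : Set G)))}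
    (hn : Cfsg.IsNormalSubpair p M Q g S h) :
    CongEl M (cutEl S (elF (Subgroup.centralizer (Q : Set G)) g) *
      elF (Subgroup.centralizer (S : Set G)) h) (elF (Subgroup.centralizer (S : Set G)) h) := by
  obtain ⟨⟨-, hg⟩, ⟨hS, hh⟩, hQS, -, hst, hω⟩ := hn
  set ε := elF (Subgroup.centralizer (Q : Set G)) g
  have hεS : InvBy (S : Set G) ε := invBy_elF hst
  have hεC : InvBy (Subgroup.centralizer (S : Set G) : Set G) ε :=
    invBy_mono (centralizer_le_centralizer hQS) (invBy_elF_self g)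
  set c := br S ε
  have hcc : IsCentralEl c := central_br hεC
  have hci : IntEl M c := intEl_restrEl _ (intEl_elF hM hg)
  have hc2 : CongEl M (c * c) c := by
    have h1 := br_mul hM hS (intEl_elF hM hg) (intEl_elF hM hg) hεS hεS
    rw [elF_mul_self] at h1
    exact congEl_symm hM h1
  set eh := blockIdem h
  have hei : IntEl M eh := intEl_blockIdem hM hh
  set w := eh * (1 - c) with hw
  have h1c : IntEl M (1 - c) := intEl_sub hM (intEl_one hM) hci
  have hwc : IsCentralEl w := central_mul (central_blockIdem h) (central_sub central_one hcc)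
  have hw2 : CongEl M (w * w) w := by
    have e : w * w = (eh * eh) * ((1 - c) * (1 - c)) := by
      rw [hw, mul_assoc, ← mul_assoc (1 - c) eh,
        ← (central_commute (central_blockIdem h) (1 - c)).eq]
      noncomm_ring
    rw [e, blockIdem_mul_self]
    refine congEl_mul hM (congEl_refl hM eh) ?_ hei h1c
    rw [show (1 - c) * (1 - c) = 1 - c - (c - c * c) by noncomm_ring]
    simpa using congEl_sub' hM (congEl_refl hM (1 - c)) (congEl_zero_iff.2 (congEl_symm hM hc2))
  have hwI : IdealEl M w := idealEl_of_omega hM hwc (intEl_mul hM hei h1c) hw2 fun ξ => by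
    rw [omega_mul ξ (central_blockIdem h)]
    by_cases hξ : ξ ∈ h
    · refine ideal_mul_left hM (omega_ring hM ξ (central_blockIdem h) hei) ?_
      have h1 := hω ξ hξ
      rw [brauerOmega_elF] at h1
      rw [omega_sub, omega_one (irr_one_ne_zero ξ.2)]
      simpa using ideal_neg hM h1
    · rw [omega_blockIdem_notMem hξ, zero_mul]; exact ideal_zero hM
  have hcomm : Commute (cutEl S ε) (elF (Subgroup.centralizer (S : Set G)) h) :=
    (commute_of_supp (invBy_elF_self h) fun _ => cutEl_coeff_notMem ε).symm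
  have e : inclEl (Subgroup.centralizer (S : Set G)) w =
      elF (Subgroup.centralizer (S : Set G)) h -
        cutEl S ε * elF (Subgroup.centralizer (S : Set G)) h := by
    rw [hw, map_mul, map_sub, map_one, inclEl_br, hcomm.eq, mul_sub, mul_one]
    rfl
  exact congEl_symm hM (by unfold CongEl; rw [← e]; exact idealEl_inclEl hM _ hwI)

/-- In a corner at a primitive idempotent: invertible or nilpotent modulo the ideal. -/
theorem corner_cases {hM : Cfsg.IsPModular p M} {H K : Subgroup G} {π : fixAlg hM H K}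
    (hπ : IsPrim π) (T : fixAlg hM H K) :
    (∃ y, InCorner π y ∧ y * (π * T * π) = π) ∨
      ∃ n : ℕ, IdealEl M ((π.1 * T.1 * π.1) ^ (n + 1)) := by
  have hc := inCorner_mul_mul hπ.idem T
  by_cases h : eig (Loc hM) π (π * T * π) = 0
  · obtain ⟨n, hn⟩ := nil_of_eig_zero (splitsAll_loc hM) hπ hc h
    exact Or.inr ⟨n, by simpa using mem_mR_iff.1 hn⟩
  · obtain ⟨y, hy, hyx, -⟩ := exists_inv (splitsAll_loc hM) hπ hc h
    exact Or.inl ⟨y, hy, hyx⟩

/-- An idempotent killed by the block part at the top is killed. -/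
theorem idem_killed {hM : Cfsg.IsPModular p M} {P' Q : Subgroup G} (hP' : IsPGroup p P')
    (hQP : Q ≤ P') {π : fixAlg hM P' ⊤} (hπ : IsPrim π) {ε : MonoidAlgebra ℂ G} (hε : IntEl M ε)
    (hεC : InvBy (Subgroup.centralizer (P' : Set G) : Set G) ε)
    (hne : ¬ IdealEl M (ε * cutEl P' π.1)) {T : MonoidAlgebra ℂ G} (hT : IsFix M P' ⊤ T)
    (hTε : IdealEl M (ε * cutEl P' T)) {z : MonoidAlgebra ℂ G} (hz : IntEl M z)
    (hzz : CongEl M (z * z) z) (hTz : CongEl M (cutEl Q T) z)
    (hcz : CongEl M (cutEl Q π.1 * z * cutEl Q π.1) z) : IdealEl M z := by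
  haveI := fact_prime_of_pm hM
  have hQ : IsPGroup p Q := hP'.to_le hQP
  have hπf : IsFix M P' ⊤ π.1 := π.2
  have hi : ∀ (S : Subgroup G) {x : MonoidAlgebra ℂ G}, IsFix M P' ⊤ x → IntEl M (cutEl S x) :=
    fun S x hx => intEl_cutEl hM S hx.int
  rcases corner_cases hπ (⟨T, hT⟩ : fixAlg hM P' ⊤) with ⟨y, -, hyx⟩ | ⟨n, hn⟩
  · exfalso
    refine hne ?_
    have hyx' : y.1 * (π.1 * T * π.1) = π.1 := congrArg Subtype.val hyx
    set c := cutEl P' π.1
    set cT := cutEl P' T
    set cy := cutEl P' y.1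
    have h1 : CongEl M c (cy * (c * cT * c)) := by
      show CongEl M (cutEl P' π.1) _
      conv_lhs => rw [← hyx']
      refine congEl_trans hM (cut_mul hM hP' le_rfl y.2 ((hπf.mul hM hT).mul hM hπf)) ?_
      refine congEl_mul hM (congEl_refl hM cy) ?_ (hi P' y.2)
        (intEl_mul hM (intEl_mul hM (hi P' hπf) (hi P' hT)) (hi P' hπf))
      refine congEl_trans hM (cut_mul hM hP' le_rfl (hπf.mul hM hT) hπf) ?_
      exact congEl_mul hM (cut_mul hM hP' le_rfl hπf hT) (congEl_refl hM c)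
        (intEl_mul hM (hi P' hπf) (hi P' hT)) (hi P' hπf)
    have hcm : ∀ x, Commute ε (cutEl P' x) := fun x =>
      commute_of_supp hεC fun _ => cutEl_coeff_notMem x
    have e : ε * (cy * (c * cT * c)) = cy * c * (ε * cT) * c := by
      calc ε * (cy * (c * cT * c)) = (ε * (cy * c)) * cT * c := by simp only [mul_assoc]
        _ = ((cy * c) * ε) * cT * c := by rw [((hcm y.1).mul_right (hcm π.1)).eq]
        _ = cy * c * (ε * cT) * c := by simp only [mul_assoc]
    have h2 := congEl_mul hM (congEl_refl hM ε) h1 hε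
      (intEl_mul hM (hi P' y.2) (intEl_mul hM (intEl_mul hM (hi P' hπf) (hi P' hT)) (hi P' hπf)))
    rw [e] at h2
    exact congEl_zero_iff.1 (congEl_trans hM h2 (congEl_zero_iff.2 (idealEl_mul_right hM
      (idealEl_mul_left hM (intEl_mul hM (hi P' y.2) (hi P' hπf)) hTε) (hi P' hπf))))
  · have hc : CongEl M (cutEl Q (π.1 * T * π.1)) z := by
      refine congEl_trans hM (cut_mul hM hQ hQP (hπf.mul hM hT) hπf) (congEl_trans hM ?_ hcz)
      refine congEl_mul hM (congEl_trans hM (cut_mul hM hQ hQP hπf hT)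
        (congEl_mul hM (congEl_refl hM _) hTz (hi Q hπf) hz)) (congEl_refl hM _)
        (intEl_mul hM (hi Q hπf) hz) (hi Q hπf)
    have h1 : CongEl M (cutEl Q ((π.1 * T * π.1) ^ (n + 1))) (z ^ (n + 1)) :=
      congEl_trans hM (cut_pow hM hQ hQP ((hπf.mul hM hT).mul hM hπf) (n + 1))
        (congEl_pow hM hc hz (n + 1))
    exact idealEl_of_idem_nilp hM hz hzz (congEl_zero_iff.1 (congEl_trans hM (congEl_symm hM h1)
      (congEl_zero_iff.2 (idealEl_cutEl hM Q hn))))

/-- Below a block meeting the Brauer image at the top, the Brauer images are absorbed. -/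
theorem cut_absorb {hM : Cfsg.IsPModular p M} {P' : Subgroup G} (hP' : IsPGroup p P')
    {π : fixAlg hM P' ⊤} (hπ : IsPrim π)
    {f : Set (Cfsg.IrrCharacter (Subgroup.centralizer (P' : Set G)))} (hf : Cfsg.IsPBlock M f)
    (hne : ¬ IdealEl M (elF (Subgroup.centralizer (P' : Set G)) f * cutEl P' π.1)) :
    ∀ (n : ℕ) (Q : Subgroup G) (g : Set (Cfsg.IrrCharacter (Subgroup.centralizer (Q : Set G)))),
      Nat.card P' - Nat.card Q = n → Cfsg.SubpairLE p M Q g P' f →
      CongEl M (elF (Subgroup.centralizer (Q : Set G)) g * cutEl Q π.1) (cutEl Q π.1) := by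
  classical
  haveI := fact_prime_of_pm hM
  have hPf : Cfsg.IsBrauerPair p M P' f := ⟨hP', hf⟩
  have hπf : IsFix M P' ⊤ π.1 := π.2
  have hππ : π.1 * π.1 = π.1 := congrArg Subtype.val hπ.idem
  intro n
  induction n using Nat.strong_induction_on with
  | _ n ih =>
    intro Q g hn hQg
    have hQP : Q ≤ P' := (subpairLE_facts hM hQg).1
    have hgB : Cfsg.IsBrauerPair p M Q g := (subpairLE_facts hM hQg).2 hPf
    set ε := elF (Subgroup.centralizer (Q : Set G)) g with hεdef
    set c := cutEl Q π.1 with hcdef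
    have hεi : IntEl M ε := intEl_elF hM hgB.2
    have hεε : ε * ε = ε := elF_mul_self _ g
    have hci : IntEl M c := intEl_cutEl hM Q hπf.int
    have hεc : Commute ε c := commute_of_supp (invBy_elF_self g) fun _ => cutEl_coeff_notMem π.1
    have hcc : CongEl M (c * c) c := by
      have h := cut_mul hM (hP'.to_le hQP) hQP hπf hπf
      rw [hππ] at h
      exact congEl_symm hM h
    set z := c - ε * c with hzdef
    have hzi : IntEl M z := intEl_sub hM hci (intEl_mul hM hεi hci)
    have he2 : (1 - ε) * (1 - ε) = 1 - ε := by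
      rw [mul_sub, mul_one, sub_mul, one_mul, hεε, sub_self, sub_zero]
    have hzeq : z = (1 - ε) * c := by rw [hzdef, sub_mul, one_mul]
    have hce : Commute c (1 - ε) := (Commute.one_right c).sub_right hεc.symm
    have h1ε : IntEl M (1 - ε) := intEl_sub hM (intEl_one hM) hεi
    have hzz : CongEl M (z * z) z := by
      rw [hzeq, show (1 - ε) * c * ((1 - ε) * c) = (1 - ε) * (1 - ε) * (c * c) by
        rw [mul_assoc, ← mul_assoc c, hce.eq]; simp only [mul_assoc], he2]
      exact congEl_mul hM (congEl_refl hM _) hcc h1ε hci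
    have hcz : CongEl M (c * z * c) z := by
      rw [hzeq, show c * ((1 - ε) * c) * c = (1 - ε) * (c * (c * c)) by
        rw [← mul_assoc, hce.eq]; simp only [mul_assoc]]
      exact congEl_mul hM (congEl_refl hM _) (congEl_trans hM
        (congEl_mul hM (congEl_refl hM c) hcc hci hci) hcc) h1ε hci
    suffices hz0 : IdealEl M z by exact congEl_symm hM hz0
    by_cases hQ : Q = P'
    · subst hQ
      have hgf : g = f := subpair_unique hM _ Q Q f rfl hPf g f hQg Relation.ReflTransGen.refl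
      subst hgf
      have hzfix : IsFix M Q (Subgroup.centralizer (Q : Set G)) z :=
        (isFix_cut hM Q hπf.int).sub hM ((isFix_elF_self hM hgB.2).mul hM (isFix_cut hM Q hπf.int))
      refine idem_killed hP' le_rfl hπ hεi (invBy_elF_self g) hne (hzfix.mono le_rfl le_top) ?_ hzi
        hzz (congEl_of_eq hM (cutEl_of_supp hzfix.supp)) hcz
      rw [cutEl_of_supp hzfix.supp, hzdef, mul_sub, ← mul_assoc, hεε, sub_self]
      exact idealEl_zero hM
    · have hlt := lt_inf_normalizer hM hP' hQP hQ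
      set R := P' ⊓ Subgroup.normalizer (Q : Set G) with hRdef
      have hRP : R ≤ P' := inf_le_left
      have hRN : R ≤ Subgroup.normalizer (Q : Set G) := inf_le_right
      -- the pairs at the intermediate subgroups
      have hstep : ∀ S : Subgroup G, Q ≤ S → S ≤ R →
          ∃ h : Set (Cfsg.IrrCharacter (Subgroup.centralizer (S : Set G))),
            Cfsg.SubpairLE p M S h P' f ∧ Cfsg.IsNormalSubpair p M Q g S h := by
        intro S hQS hSR
        obtain ⟨h, -, hh⟩ := exists_subpair hM _ S P' f rfl hPf (hSR.trans hRP)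
        have hSh := (subpairLE_facts hM hh).2 hPf
        obtain ⟨g', -, hg'⟩ := exists_subpair hM _ Q S h rfl hSh hQS
        have : g' = g := subpair_unique hM _ Q P' f rfl hPf g' g (hg'.trans hh) hQg
        subst this
        exact ⟨h, hh, normal_of_subpairLE hM hg' hSh (hSR.trans hRN)⟩
      obtain ⟨hR, -, hRn⟩ := hstep R hlt.le le_rfl
      have hεfix : IsFix M R (Subgroup.centralizer (Q : Set G)) ε :=
        ⟨hεi, invBy_elF hRn.2.2.2.2.1, fun _ h => coeff_inclEl_notMem _ _ h⟩
      have hcfix : IsFix M R (Subgroup.centralizer (Q : Set G)) c :=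
        ⟨hci, fun v hv x => cutEl_invariant (hRN hv) (hπf.inv v (hRP hv)) x,
          fun _ => cutEl_coeff_notMem π.1⟩
      have hzfix : IsFix M R (Subgroup.centralizer (Q : Set G)) z :=
        hcfix.sub hM (hεfix.mul hM hcfix)
      have hSz : ∀ S : Subgroup G, Q < S → S ≤ R → IdealEl M (cutEl S z) := by
        intro S hQS hSR
        obtain ⟨h, hh, hn'⟩ := hstep S hQS.le hSR
        have hSP := hSR.trans hRP
        have hS : IsPGroup p S := hP'.to_le hSP
        have hlt' : Nat.card P' - Nat.card S < n := by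
          have h1 : Nat.card Q < Nat.card S := lt_of_not_ge fun hle =>
            hQS.ne (Subgroup.eq_of_le_of_card_ge hQS.le hle)
          have h2 := Subgroup.card_le_of_le hSP
          omega
        have hIH := ih _ hlt' S h rfl hh
        have hab := subpair_cut_absorb hM hn'
        have hεS : IntEl M (elF (Subgroup.centralizer (S : Set G)) h) := intEl_elF hM hn'.2.1.2
        have hcS : cutEl S c = cutEl S π.1 := cutEl_cutEl hQS.le π.1
        have hcSi : IntEl M (cutEl S π.1) := intEl_cutEl hM S hπf.int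
        have key : CongEl M (cutEl S (ε * c)) (cutEl S π.1) := by
          refine congEl_trans hM (cut_mul hM hS hSR hεfix hcfix) ?_
          rw [hcS]
          refine congEl_trans hM (congEl_mul hM (congEl_refl hM _) (congEl_symm hM hIH)
            (intEl_cutEl hM S hεi) (intEl_mul hM hεS hcSi)) ?_
          rw [← mul_assoc]
          exact congEl_trans hM (congEl_mul hM hab (congEl_refl hM _) hεS hcSi) hIH
        rw [hzdef, cutEl_sub, hcS]
        exact congEl_symm hM key
      -- discard the coefficients in the ideal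
      set z' : MonoidAlgebra ℂ G :=
        ofFun fun x => if Cfsg.MemLocalIdeal M (z.coeff x) then 0 else z.coeff x with hz'def
      have hz' : ∀ x, z'.coeff x = if Cfsg.MemLocalIdeal M (z.coeff x) then 0 else z.coeff x :=
        fun x => by rw [hz'def, coeff_ofFun]
      have hz'z : CongEl M z' z := congEl_iff.2 fun x => by
        rw [hz']
        split_ifs with h
        · exact cong_symm hM ((cong_zero_iff).2 h)
        · exact cong_refl hM _
      have hz'inv : ∀ v ∈ R, ∀ x, z'.coeff (v * x * v⁻¹) = z'.coeff x := fun v hv x => by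
        rw [hz', hz', hzfix.inv v hv x]
      have hsupp : ∀ x, z'.coeff x ≠ 0 → ∀ q ∈ P', (q * x = x * q ↔ q ∈ Q) := by
        intro x hx q hq
        rw [hz'] at hx
        have hni : ¬ Cfsg.MemLocalIdeal M (z.coeff x) := fun h => hx (if_pos h)
        have hxC : x ∈ Subgroup.centralizer (Q : Set G) := by
          by_contra hxC
          exact hni (by rw [hzfix.supp x hxC]; exact ideal_zero hM)
        refine ⟨fun hqx => ?_, fun hqQ => hxC q hqQ⟩
        set S₀ := P' ⊓ Subgroup.centralizer ({x} : Set G)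
        have hQS₀ : Q ≤ S₀ := le_inf hQP fun v hv =>
          Subgroup.mem_centralizer_singleton_iff.2 (hxC v hv)
        have hqS : q ∈ S₀ := ⟨hq, Subgroup.mem_centralizer_singleton_iff.2 hqx⟩
        by_cases hQS : Q = S₀
        · rwa [hQS]
        exfalso
        have hlt₁ := lt_inf_normalizer hM (hP'.to_le inf_le_left) hQS₀ hQS
        have h1 := hSz _ hlt₁ (le_inf (inf_le_left.trans inf_le_left) inf_le_right) x
        have hmem : x ∈ Subgroup.centralizer
            ((S₀ ⊓ Subgroup.normalizer (Q : Set G) : Subgroup G) : Set G) := fun v hv =>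
          Subgroup.mem_centralizer_singleton_iff.1 hv.1.2
        rw [cutEl_coeff_mem _ hmem] at h1
        exact hni h1
      have hnorm : ∀ t ∈ P', (∀ q ∈ Q, t * q * t⁻¹ ∈ Q) → t ∈ R := fun t ht h =>
        ⟨ht, Subgroup.mem_normalizer_fintype fun q hq => h q hq⟩
      have hwd : ∀ x₁ x₂ t, z'.coeff x₁ ≠ 0 → z'.coeff x₂ ≠ 0 → t ∈ P' →
          t * x₁ * t⁻¹ = x₂ → z'.coeff x₁ = z'.coeff x₂ := by
        intro x₁ x₂ t h1 h2 ht e
        have htR : t ∈ R := hnorm t ht fun q hq => by
          have hc := (hsupp x₁ h1 q (hQP hq)).2 hq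
          refine (hsupp x₂ h2 _ (P'.mul_mem (P'.mul_mem ht (hQP hq)) (P'.inv_mem ht))).1 ?_
          rw [← e]
          calc t * q * t⁻¹ * (t * x₁ * t⁻¹) = t * (q * x₁) * t⁻¹ := by group
            _ = t * (x₁ * q) * t⁻¹ := by rw [hc]
            _ = t * x₁ * t⁻¹ * (t * q * t⁻¹) := by group
        rw [← e, hz'inv t htR]
      set T : MonoidAlgebra ℂ G := ofFun fun x =>
        if h : ∃ t ∈ P', z'.coeff (t * x * t⁻¹) ≠ 0 then z'.coeff (h.choose * x * h.choose⁻¹)
        else 0 with hTdef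
      have hT0 : ∀ x, (¬ ∃ t ∈ P', z'.coeff (t * x * t⁻¹) ≠ 0) → T.coeff x = 0 := fun x h => by
        rw [hTdef, coeff_ofFun, dif_neg h]
      have hT1 : ∀ x, ∀ t ∈ P', z'.coeff (t * x * t⁻¹) ≠ 0 →
          T.coeff x = z'.coeff (t * x * t⁻¹) := by
        intro x t ht hne'
        have h : ∃ t ∈ P', z'.coeff (t * x * t⁻¹) ≠ 0 := ⟨t, ht, hne'⟩
        rw [hTdef, coeff_ofFun, dif_pos h]
        obtain ⟨hs1, hs2⟩ := h.choose_spec
        exact hwd _ _ (t * h.choose⁻¹) hs2 hne' (P'.mul_mem ht (P'.inv_mem hs1)) (by group)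
      have hTfix : IsFix M P' ⊤ T := by
        refine ⟨fun x => ?_, fun v hv x => ?_, fun x hx => absurd (Subgroup.mem_top x) hx⟩
        · by_cases h : ∃ t ∈ P', z'.coeff (t * x * t⁻¹) ≠ 0
          · obtain ⟨t, ht, h'⟩ := h
            rw [hT1 x t ht h']
            exact intEl_of_congEl hM hz'z hzi _
          · rw [hT0 x h]; exact ring_zero hM
        · by_cases h : ∃ t ∈ P', z'.coeff (t * x * t⁻¹) ≠ 0
          · obtain ⟨t, ht, h'⟩ := h
            have e : t * v⁻¹ * (v * x * v⁻¹) * (t * v⁻¹)⁻¹ = t * x * t⁻¹ := by group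
            rw [hT1 x t ht h', hT1 (v * x * v⁻¹) (t * v⁻¹) (P'.mul_mem ht (P'.inv_mem hv))
              (by rw [e]; exact h'), e]
          · rw [hT0 x h, hT0]
            rintro ⟨t, ht, h'⟩
            exact h ⟨t * v, P'.mul_mem ht hv, by
              rwa [show t * v * x * (t * v)⁻¹ = t * (v * x * v⁻¹) * t⁻¹ by group]⟩
      have hTQ : cutEl Q T = z' := by
        refine el_ext fun x => ?_
        by_cases hxC : x ∈ Subgroup.centralizer (Q : Set G)
        · rw [cutEl_coeff_mem _ hxC]
          by_cases h0 : z'.coeff x = 0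
          · rw [h0]
            refine hT0 x ?_
            rintro ⟨t, ht, h'⟩
            have htR : t ∈ R := hnorm t ht fun q hq => by
              refine (hsupp _ h' _ (P'.mul_mem (P'.mul_mem ht (hQP hq)) (P'.inv_mem ht))).1 ?_
              calc t * q * t⁻¹ * (t * x * t⁻¹) = t * (q * x) * t⁻¹ := by group
                _ = t * (x * q) * t⁻¹ := by rw [hxC q hq]
                _ = t * x * t⁻¹ * (t * q * t⁻¹) := by group
            exact h' (by rw [hz'inv t htR, h0])
          · simpa using hT1 x 1 P'.one_mem (by simpa using h0)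
        · rw [cutEl_coeff_notMem _ hxC, hz', hzfix.supp x hxC, if_pos (ideal_zero hM)]
      have hTP : cutEl P' T = 0 := by
        refine el_ext fun x => ?_
        by_cases hxC : x ∈ Subgroup.centralizer (P' : Set G)
        · rw [cutEl_coeff_mem _ hxC, hT0 x ?_]
          · simp
          rintro ⟨t, ht, h'⟩
          rw [show t * x * t⁻¹ = x by rw [hxC t ht, mul_inv_cancel_right]] at h'
          exact hQ (le_antisymm hQP fun v hv => (hsupp x h' v hv).1 (hxC v hv))
        · rw [cutEl_coeff_notMem _ hxC]; simp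
      exact idem_killed hP' hQP hπ (intEl_elF hM hf) (invBy_elF_self f) hne hTfix
        (by rw [hTP, mul_zero]; exact idealEl_zero hM) hzi hzz (by rw [hTQ]; exact hz'z) hcz

/-- `u ↦ χ(u π)` is a character, for an idempotent `π` commuting with the subgroup. -/
theorem isCharacter_shift {χ : G → ℂ} (hχ : Cfsg.IsCharacter G χ) {P' : Subgroup G}
    {π : MonoidAlgebra ℂ G} (hπ : InvBy (P' : Set G) π) (hid : π * π = π) :
    Cfsg.IsCharacter P' (fun u : P' => evalChar χ (single (u : G) 1 * π)) := by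
  obtain ⟨n, ρ, rfl⟩ := hχ
  set f := ρ.asAlgebraHom π with hf
  set W := LinearMap.range f
  have hff : ∀ v, f (f v) = f v := fun v => by
    rw [← Module.End.mul_apply, hf, ← map_mul, hid]
  have hfix : ∀ v ∈ W, f v = v := by rintro _ ⟨v, rfl⟩; exact hff v
  have hcomm : ∀ (u : P') (v), f (ρ (u : G) v) = ρ (u : G) (f v) := fun u v => by
    rw [← Module.End.mul_apply, ← Module.End.mul_apply, ← Representation.asAlgebraHom_single_one ρ,
      hf, ← map_mul, ← map_mul, (invBy_iff_commute.1 hπ (u : G) u.2).eq]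
  have hmem : ∀ (u : P'), ∀ v ∈ W, ρ (u : G) v ∈ W := fun u v hv =>
    ⟨ρ (u : G) v, by rw [hcomm, hfix v hv]⟩
  let σ : Representation ℂ P' W :=
    { toFun := fun u => (ρ (u : G)).restrict (hmem u)
      map_one' := by
        refine LinearMap.ext fun v => Subtype.ext ?_
        simp
      map_mul' := fun a b => by
        refine LinearMap.ext fun v => Subtype.ext ?_
        simp }
  have hσ : (fun u : P' => evalChar ρ.character (single (u : G) 1 * π)) = σ.character := by
    funext u
    have h1 : ∀ v, ρ.asAlgebraHom (single (u : G) 1 * π) v ∈ W := fun v => by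
      rw [map_mul, Module.End.mul_apply, Representation.asAlgebraHom_single_one]
      exact hmem u _ ⟨v, rfl⟩
    rw [evalChar_eq_trace, Representation.character,
      ← LinearMap.trace_restrict_eq_of_forall_mem W _ h1 (fun v _ => h1 v)]
    congr 1
    refine LinearMap.ext fun v => Subtype.ext ?_
    show ρ.asAlgebraHom (single (u : G) 1 * π) v = ρ (u : G) v
    rw [map_mul, Module.End.mul_apply, Representation.asAlgebraHom_single_one, ← hf, hfix v v.2]
  rw [hσ]
  exact isCharacter_character σ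

/-- The case where the Brauer image at the top is nonzero. -/
theorem exists_int_of_ne {hM : Cfsg.IsPModular p M} {W : G → MonoidAlgebra ℂ G}
    (hW : WeightSys p M W) {χ : G → ℂ} (hχ : Cfsg.IsCharacter G χ) {P' : Subgroup G} [Fintype P']
    (hP' : IsPGroup p P') {π : fixAlg hM P' ⊤} (hπ : IsPrim π)
    (hne : ¬ IdealEl M (cutEl P' π.1)) (ν : P' →* ℂ) :
    ∃ z : ℤ, ∑ u : P', conj (ν u) * valAt M χ (W (u : G)) (u : G) π.1 =
      (Nat.card P' : ℂ) * z := by
  classical
  have hπf : IsFix M P' ⊤ π.1 := π.2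
  have hππ : π.1 * π.1 = π.1 := congrArg Subtype.val hπ.idem
  have hcl := char_isClassFunction hχ
  set C := Subgroup.centralizer (P' : Set G)
  obtain ⟨f, hf, hfne⟩ : ∃ f : Set (Cfsg.IrrCharacter C), Cfsg.IsPBlock M f ∧
      ¬ IdealEl M (elF C f * cutEl P' π.1) := by
    by_contra hcon
    push Not at hcon
    refine hne ?_
    haveI := Fintype.ofFinite {B : Set (Cfsg.IrrCharacter C) // Cfsg.IsPBlock M B}
    have e : ∑ B : {B : Set (Cfsg.IrrCharacter C) // Cfsg.IsPBlock M B}, elF C B.1 = 1 := by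
      simp only [elF]
      rw [← map_sum, sum_blockIdem hM, map_one]
    rw [← one_mul (cutEl P' π.1), ← e, Finset.sum_mul]
    exact Finset.sum_induction _ (IdealEl M) (fun _ _ => idealEl_add hM) (idealEl_zero hM)
      fun B _ => hcon B.1 B.2
  obtain ⟨θ, hθ, hθW⟩ := hW.pair P' f ⟨hP', hf⟩
  have hval : ∀ u : P', valAt M χ (W (u : G)) (u : G) π.1 =
      θ u * evalChar χ (single (u : G) 1 * π.1) := by
    intro u
    have hu := exists_orderOf_coe hM hP' u
    have hle : Subgroup.zpowers (u : G) ≤ P' := Subgroup.zpowers_le.2 u.2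
    obtain ⟨g, hg, hgf⟩ := exists_subpair hM _ _ P' f rfl ⟨hP', hf⟩ hle
    have hi : IsFix M (Subgroup.zpowers (u : G)) ⊤ π.1 := hπf.mono hle le_rfl
    obtain ⟨j, hj⟩ := exists_isLift hM hu hi hππ
    have hεj : Commute (elF (CU (u : G)) g) j := commute_of_supp (invBy_elF_self g) hj.fix.supp
    have hεε := elF_mul_self (CU (u : G)) g
    have hj' : IsLift M (u : G) π.1 (elF (CU (u : G)) g * j) := by
      refine ⟨(isFix_elF_self hM hg).mul hM hj.fix, ?_, ?_⟩
      · calc elF (CU (u : G)) g * j * (elF (CU (u : G)) g * j)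
            = elF (CU (u : G)) g * (j * elF (CU (u : G)) g) * j := by simp only [mul_assoc]
          _ = (elF (CU (u : G)) g * elF (CU (u : G)) g) * (j * j) := by
            rw [← hεj.eq]; simp only [mul_assoc]
          _ = elF (CU (u : G)) g * j := by rw [hεε, hj.idem]
      · exact congEl_trans hM (congEl_mul hM (congEl_refl hM _) hj.cong (intEl_elF hM hg)
          (intEl_cutEl hM _ hπf.int)) (cut_absorb hP' hπ hf hfne _ _ g rfl hgf)
    refine valAt_smul hM hcl (hW.inv _) hu hi hππ hj' ?_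
    rw [← mul_assoc, hθW u g hgf, smul_mul_assoc]
  obtain ⟨z, hz⟩ := classInner_gen_int
    (isGen_mul hθ (isGen_of_isCharacter (isCharacter_shift hχ hπf.inv hππ)))
    (isGen_of_isCharacter (isCharacter_of_isIrr (isIrrCharacter_monoidHom ν)))
  refine ⟨z, ?_⟩
  rw [classInner_def, inv_mul_eq_iff_eq_mul₀ natCard_ne_zero] at hz
  rw [← hz]
  refine Finset.sum_congr rfl fun u _ => ?_
  rw [hval]
  simp only [Pi.mul_apply]
  ring

/-- A maximal subgroup of index `p` above a proper subgroup of a `p`-group. -/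
theorem exists_step (hM : Cfsg.IsPModular p M) {P' C : Subgroup G} (hP' : IsPGroup p P')
    (hC : C < P') :
    ∃ (S : Subgroup G) (x : G), C ≤ S ∧ S ≤ P' ∧ x ∈ P' ∧
      (∀ t ∈ P', ∀ s ∈ S, t * s * t⁻¹ ∈ S) ∧
      (∀ t ∈ P', ∃ i < p, (x ^ i)⁻¹ * t ∈ S) ∧
      (∀ i j, i < p → j < p → (x ^ i)⁻¹ * x ^ j ∈ S → i = j) ∧
      Nat.card P' = p * Nat.card S ∧
      (∀ K : Subgroup G, S ≤ K → K ≤ P' → ∀ v ∈ K, v ∉ S → K = P') := by
  classical
  haveI := fact_prime_of_pm hM
  haveI := hP'.isNilpotent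
  obtain h | ⟨S₀, hS₀, hCS⟩ := eq_top_or_exists_le_coatom (C.subgroupOf P')
  · exact absurd (Subgroup.subgroupOf_eq_top.1 h) hC.not_ge
  haveI : S₀.Normal :=
    Subgroup.NormalizerCondition.normal_of_coatom _ (Group.normalizerCondition_of_isNilpotent (G := P')) hS₀
  obtain ⟨m, hm⟩ := IsPGroup.iff_card.1 hP'
  obtain ⟨k, hk⟩ := IsPGroup.iff_card.1 (hP'.to_subgroup S₀)
  have hkm : k < m := by
    refine (Nat.pow_lt_pow_iff_right hM.1.one_lt).1 ?_
    rw [← hk, ← hm]
    exact lt_of_not_ge fun hle => hS₀.1 (Subgroup.eq_top_of_le_card _ hle)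
  obtain ⟨K, hK, hSK⟩ := Sylow.exists_subgroup_card_pow_succ
    (hm ▸ Nat.pow_dvd_pow p (Nat.succ_le_of_lt hkm)) hk
  have hKtop : K = ⊤ := hS₀.2 K (lt_of_le_of_ne hSK fun h => by
    rw [h, hK, pow_succ] at hk
    have := hM.1.one_lt
    have := pow_pos hM.1.pos k
    nlinarith)
  have hcard : Nat.card P' = p * Nat.card S₀ := by
    rw [← Subgroup.card_top, ← hKtop, hK, hk, pow_succ']
  have hindex : Nat.card (P' ⧸ S₀) = p := by
    have h := Subgroup.card_eq_card_quotient_mul_card_subgroup S₀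
    rw [hcard] at h
    exact (Nat.eq_of_mul_eq_mul_right Nat.card_pos h).symm
  obtain ⟨x, -, hx⟩ := SetLike.exists_of_lt (lt_top_iff_ne_top.2 hS₀.1)
  set q : P' ⧸ S₀ := QuotientGroup.mk x
  have hq : orderOf q = p := by
    refine orderOf_eq_prime (by rw [← hindex]; exact pow_card_eq_one') fun h => hx ?_
    exact (QuotientGroup.eq_one_iff x).1 h
  have hgen : ∀ t : P' ⧸ S₀, ∃ i < p, q ^ i = t := by
    intro t
    have hz : Subgroup.zpowers q = ⊤ := Subgroup.eq_top_of_card_eq _ (by
      rw [Nat.card_zpowers, hq, hindex])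
    have ht : t ∈ Subgroup.zpowers q := hz ▸ Subgroup.mem_top t
    rw [mem_zpowers_iff_mem_range_orderOf, Finset.mem_image] at ht
    obtain ⟨i, hi, e⟩ := ht
    exact ⟨i, hq ▸ Finset.mem_range.1 hi, e⟩
  refine ⟨S₀.map P'.subtype, (x : G), fun c hc => ?_, Subgroup.map_subtype_le _, x.2, ?_, ?_, ?_,
    ?_, fun K hSK' hKP v hv hvS => ?_⟩
  · exact ⟨⟨c, hC.le hc⟩, hCS hc, rfl⟩
  · rintro t ht _ ⟨s, hs, rfl⟩
    exact ⟨⟨t, ht⟩ * s * ⟨t, ht⟩⁻¹, Subgroup.Normal.conj_mem inferInstance s hs _, rfl⟩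
  · intro t ht
    obtain ⟨i, hi, e⟩ := hgen (QuotientGroup.mk ⟨t, ht⟩)
    exact ⟨i, hi, ⟨(x ^ i)⁻¹ * ⟨t, ht⟩, QuotientGroup.eq.1 ((QuotientGroup.mk_pow (N := S₀) x i).trans e), rfl⟩⟩
  · intro i j hi hj h
    obtain ⟨s, hs, e⟩ := h
    have : s = (x ^ i)⁻¹ * x ^ j := Subtype.ext (by simpa using e)
    subst this
    exact pow_injOn_Iio_orderOf (show i < orderOf q from hq ▸ hi)
      (show j < orderOf q from hq ▸ hj) (QuotientGroup.eq.2 hs)
  · rw [hcard, Subgroup.card_map_of_injective P'.subtype_injective]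
  · refine le_antisymm hKP ?_
    have h : K.subgroupOf P' = ⊤ := by
      refine hS₀.2 _ (lt_of_le_of_ne (fun s hs => hSK' ⟨s, hs, rfl⟩) fun h => hvS ?_)
      exact ⟨⟨v, hKP hv⟩, by rw [h]; exact hv, rfl⟩
    exact Subgroup.subgroupOf_eq_top.1 h

theorem cjE_one_el (x : G) : cjE x (1 : MonoidAlgebra ℂ G) = 1 := by
  rw [cjE, mul_one, single_mul_single, mul_inv_cancel, one_mul, MonoidAlgebra.one_def]

theorem cjE_add (x : G) (y z : MonoidAlgebra ℂ G) : cjE x (y + z) = cjE x y + cjE x z := by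
  simp only [cjE, mul_add, add_mul]

/-- Conjugation on the algebra of fixed elements. -/
noncomputable def cjFix (hM : Cfsg.IsPModular p M) {S : Subgroup G} (x : G)
    (hx : ∀ s ∈ S, x⁻¹ * s * x ∈ S) : fixAlg hM S ⊤ →ₐ[Loc hM] fixAlg hM S ⊤ where
  toFun b := ⟨cjE x b.1, intEl_cjE b.2.int x, fun s hs g => by
      rw [coeff_cjE, coeff_cjE, ← b.2.inv _ (hx s hs) (x⁻¹ * g * x)]
      congr 1
      group, fun g hg => absurd (Subgroup.mem_top g) hg⟩
  map_one' := Subtype.ext (cjE_one_el x)
  map_mul' a b := Subtype.ext (cjE_mul x a.1 b.1)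
  map_zero' := Subtype.ext (show cjE x (0 : MonoidAlgebra ℂ G) = 0 by simp [cjE])
  map_add' a b := Subtype.ext (cjE_add x a.1 b.1)
  commutes' c := Subtype.ext (by
    show cjE x (algebraMap (Loc hM) (MonoidAlgebra ℂ G) c) = algebraMap (Loc hM) (MonoidAlgebra ℂ G) c
    rw [Algebra.algebraMap_eq_smul_one, loc_smul_def, cjE_smul, cjE_one_el])

theorem coe_cjFix_iterate (hM : Cfsg.IsPModular p M) {S : Subgroup G} (x : G)
    (hx : ∀ s ∈ S, x⁻¹ * s * x ∈ S) (i : ℕ) (b : fixAlg hM S ⊤) :
    (((cjFix hM x hx)^[i]) b).1 = cjE (x ^ i) b.1 := by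
  induction i with
  | zero => simp [cjE_one]
  | succ i ih =>
    rw [Function.iterate_succ_apply', pow_succ', ← cjE_cjE, ← ih]
    rfl

theorem eq_of_natCard_mul {H : Type*} [Group H] [Fintype H] {a b : ℤ}
    (h : (Nat.card H : ℂ) * a = (Nat.card H : ℂ) * b) : a = b :=
  Int.cast_injective (mul_left_cancel₀ natCard_ne_zero h)

/-- The case where the Brauer image at the top vanishes. -/
theorem exists_int_of_cut {hM : Cfsg.IsPModular p M} {W : G → MonoidAlgebra ℂ G}
    (hW : WeightSys p M W) {χ : G → ℂ} (hcl : Cfsg.IsClassFunction G χ) {P' : Subgroup G}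
    [Fintype P'] (hP' : IsPGroup p P') {π : fixAlg hM P' ⊤} (hπ : IsPrim π)
    (hcut : IdealEl M (cutEl P' π.1)) (ν : P' →* ℂ)
    (IH : ∀ (S : Subgroup G) [Fintype S], Nat.card S < Nat.card P' → IsPGroup p S →
      ∀ e : MonoidAlgebra ℂ G, IsFix M S ⊤ e → e * e = e → ∀ ν' : S →* ℂ, ∃ z : ℤ,
        ∑ u : S, conj (ν' u) * valAt M χ (W (u : G)) (u : G) e = (Nat.card S : ℂ) * z) :
    ∃ z : ℤ, ∑ u : P', conj (ν u) * valAt M χ (W (u : G)) (u : G) π.1 =
      (Nat.card P' : ℂ) * z := by
  classical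
  haveI := fact_prime_of_pm hM
  haveI := Fintype.ofFinite G
  have hπf : IsFix M P' ⊤ π.1 := π.2
  have hππ : π.1 * π.1 = π.1 := congrArg Subtype.val hπ.idem
  have hO := splitsAll_loc hM
  -- an orbit sum that is invertible in the corner
  obtain ⟨r, hr⟩ := exists_reps P'
  obtain ⟨g, hgC, y, hy, hyπ⟩ : ∃ g, g ∉ Subgroup.centralizer (P' : Set G) ∧
      ∃ y : fixAlg hM P' ⊤, InCorner π y ∧ y.1 * orbSum P' g * π.1 = π.1 := by
    by_contra hcon
    push Not at hcon
    refine one_ne_zero (?_ : (1 : IsLocalRing.ResidueField (Loc hM)) = 0)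
    let ofix : G → fixAlg hM P' ⊤ := fun g => ⟨orbSum P' g, intEl_orbSum hM P' g,
      invBy_orbSum P' g, fun h hh => absurd (Subgroup.mem_top h) hh⟩
    let cc : G → Loc hM := fun g => ⟨π.1.coeff g, hπf.int g⟩
    have he : π = ∑ g ∈ Finset.univ.filter (fun g => r g = g), cc g • (π * ofix g * π) := by
      refine Subtype.ext ?_
      rw [AddSubmonoidClass.coe_finsetSum]
      simp only [Subalgebra.coe_smul, Subalgebra.coe_mul, loc_smul_def]
      calc π.1 = π.1 * π.1 * π.1 := by rw [hππ, hππ]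
        _ = π.1 * (∑ g ∈ Finset.univ.filter (fun g => r g = g), π.1.coeff g • orbSum P' g) *
            π.1 := by rw [← eq_sum_orbSum hπf.inv hr]
        _ = _ := by
          rw [Finset.mul_sum, Finset.sum_mul]
          simp only [mul_smul_comm, smul_mul_assoc, cc, ofix]
    have hcor : ∀ g, InCorner π (cc g • (π * ofix g * π)) := fun g =>
      ⟨by rw [mul_smul_comm, (inCorner_mul_mul hπ.idem _).1],
        by rw [smul_mul_assoc, (inCorner_mul_mul hπ.idem _).2]⟩
    calc (1 : IsLocalRing.ResidueField (Loc hM)) = eig (Loc hM) π π := (eig_self hO hπ).symm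
      _ = ∑ g ∈ Finset.univ.filter (fun g => r g = g),
          eig (Loc hM) π (cc g • (π * ofix g * π)) := by
        conv_lhs => arg 3; rw [he]
        exact eig_sum hO hπ _ fun g _ => hcor g
      _ = 0 := Finset.sum_eq_zero fun g _ => eig_zero_of_nil hO hπ (hcor g) ?_
    by_cases hg : g ∈ Subgroup.centralizer (P' : Set G)
    · refine ⟨0, ?_⟩
      rw [zero_add, pow_one]
      refine smul_mem_mR ((mem_maximal_iff hM _).2 ?_) _
      have h1 := hcut g
      rwa [cutEl_coeff_mem _ hg] at h1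
    · by_cases h0 : eig (Loc hM) π (π * ofix g * π) = 0
      · obtain ⟨n, hn⟩ := nil_of_eig_zero hO hπ (inCorner_mul_mul hπ.idem _) h0
        exact ⟨n, by rw [_root_.smul_pow]; exact Submodule.smul_mem _ _ hn⟩
      · obtain ⟨y, hy, hyx, -⟩ := exists_inv hO hπ (inCorner_mul_mul hπ.idem _) h0
        refine absurd ?_ (hcon g hg y hy)
        have h1 := congrArg Subtype.val hyx
        have h2 : y.1 * π.1 = y.1 := congrArg Subtype.val hy.2
        simp only [Subalgebra.coe_mul, ← mul_assoc, h2] at h1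
        exact h1
  have hyl : π.1 * y.1 = y.1 := congrArg Subtype.val hy.1
  have hC : P' ⊓ Subgroup.centralizer ({g} : Set G) < P' :=
    lt_of_le_of_ne inf_le_left fun h => hgC fun v hv =>
      Subgroup.mem_centralizer_singleton_iff.1 (inf_le_right (a := P') (h.ge hv))
  obtain ⟨S, x, hCS, hSP, hxP, hnorm, hdec, huniq, hcard, hmax⟩ := exists_step hM hP' hC
  have hxpow : ∀ i : ℕ, x ^ i ∈ P' := fun i => P'.pow_mem hxP i
  have hxS : ∀ s ∈ S, x⁻¹ * s * x ∈ S := fun s hs => by
    simpa using hnorm x⁻¹ (P'.inv_mem hxP) s hs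
  -- the orbit splits
  have horb : orbSum P' g = ∑ i ∈ Finset.range p, cjE (x ^ i) (orbSum S g) := by
    refine el_ext fun h => ?_
    simp only [MonoidAlgebra.coeff_sum, Finsupp.finsetSum_apply, coeff_cjE, coeff_orbSum]
    by_cases hh : ∃ t ∈ P', t * g * t⁻¹ = h
    · obtain ⟨t, ht, hth⟩ := hh
      obtain ⟨i, hi, his⟩ := hdec t ht
      rw [if_pos ⟨t, ht, hth⟩, Finset.sum_eq_single_of_mem i (Finset.mem_range.2 hi)]
      · rw [if_pos ⟨(x ^ i)⁻¹ * t, his, by rw [← hth]; group⟩]
      · intro j hj hne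
        rw [if_neg]
        rintro ⟨s, hs, hsh⟩
        refine hne (huniq j i (Finset.mem_range.1 hj) hi ?_)
        have hz : ((x ^ j) * s)⁻¹ * t ∈ P' ⊓ Subgroup.centralizer ({g} : Set G) := by
          refine ⟨P'.mul_mem (P'.inv_mem (P'.mul_mem (hxpow j) (hSP hs))) ht, ?_⟩
          refine Subgroup.mem_centralizer_singleton_iff.2 ?_
          calc (x ^ j * s)⁻¹ * t * g = (x ^ j * s)⁻¹ * (t * g * t⁻¹) * t := by group
            _ = (x ^ j * s)⁻¹ * h * t := by rw [hth]
            _ = s⁻¹ * ((x ^ j)⁻¹ * h * x ^ j) * ((x ^ j)⁻¹ * t) := by group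
            _ = s⁻¹ * (s * g * s⁻¹) * ((x ^ j)⁻¹ * t) := by rw [hsh]
            _ = g * ((x ^ j * s)⁻¹ * t) := by group
        have h1 := S.mul_mem (S.mul_mem hs (hCS hz)) (S.inv_mem his)
        rwa [show s * ((x ^ j * s)⁻¹ * t) * ((x ^ i)⁻¹ * t)⁻¹ = (x ^ j)⁻¹ * x ^ i by group] at h1
    · rw [if_neg hh, Finset.sum_eq_zero]
      intro i _
      rw [if_neg]
      rintro ⟨s, hs, hsh⟩
      refine hh ⟨x ^ i * s, P'.mul_mem (hxpow i) (hSP hs), ?_⟩
      calc x ^ i * s * g * (x ^ i * s)⁻¹ = x ^ i * (s * g * s⁻¹) * (x ^ i)⁻¹ := by group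
        _ = h := by rw [hsh]; group
  set a := y.1 * orbSum S g * π.1 with hadef
  have ha : IsFix M S ⊤ a := ((IsFix.mono y.2 hSP le_rfl).mul hM ⟨intEl_orbSum hM S g,
    invBy_orbSum S g, fun h hh => absurd (Subgroup.mem_top h) hh⟩).mul hM (hπf.mono hSP le_rfl)
  have hπa : π.1 * a = a := by rw [hadef, ← mul_assoc, ← mul_assoc, hyl]
  have haπ : a * π.1 = a := by rw [hadef, mul_assoc, hππ]
  have htr : π.1 = ∑ i ∈ Finset.range p, cjE (x ^ i) a := by
    conv_lhs => rw [← hyπ, horb, Finset.mul_sum, Finset.sum_mul]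
    refine Finset.sum_congr rfl fun i _ => ?_
    rw [hadef, cjE_mul, cjE_mul, cjE_eq_self y.2.inv (hxpow i), cjE_eq_self hπf.inv (hxpow i)]
  -- outside `S` the value vanishes
  have hvan : ∀ u : P', (u : G) ∉ S → valAt M χ (W (u : G)) (u : G) π.1 = 0 := by
    intro u huS
    refine valAt_zero hM hcl (hW.inv _) fun h => ?_
    by_cases hh : h ∈ CU (u : G)
    swap
    · rw [cutEl_coeff_notMem _ hh]; exact ideal_zero hM
    rw [cutEl_coeff_mem _ hh, htr]
    simp only [MonoidAlgebra.coeff_sum, Finsupp.finsetSum_apply, coeff_cjE]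
    let F : G → ℂ := fun t => a.coeff (t⁻¹ * h * t)
    let K : Subgroup G :=
      { carrier := {t | t ∈ P' ∧ ∀ t' ∈ P', F (t * t') = F t'}
        one_mem' := ⟨P'.one_mem, fun t' _ => by rw [one_mul]⟩
        mul_mem' := fun {v w} hv hw => ⟨P'.mul_mem hv.1 hw.1, fun t' ht' => by
          rw [mul_assoc, hv.2 _ (P'.mul_mem hw.1 ht'), hw.2 t' ht']⟩
        inv_mem' := fun {v} hv => ⟨P'.inv_mem hv.1, fun t' ht' => by
          rw [← hv.2 _ (P'.mul_mem (P'.inv_mem hv.1) ht'), mul_inv_cancel_left]⟩ }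
    have huK : (u : G) ∈ K := ⟨u.2, fun t' _ => by
      have hc : (u : G) * h = h * (u : G) := hh (u : G) (Subgroup.mem_zpowers _)
      show a.coeff _ = a.coeff _
      congr 1
      calc ((u : G) * t')⁻¹ * h * ((u : G) * t') = t'⁻¹ * ((u : G)⁻¹ * (h * (u : G))) * t' := by
            group
        _ = t'⁻¹ * h * t' := by rw [← hc, inv_mul_cancel_left]⟩
    have hSK : S ≤ K := fun s hs => ⟨hSP hs, fun t' ht' => by
      have hs' : t'⁻¹ * s * t' ∈ S := by simpa using hnorm t'⁻¹ (P'.inv_mem ht') s hs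
      show a.coeff _ = a.coeff _
      rw [← ha.inv _ hs' ((s * t')⁻¹ * h * (s * t'))]
      congr 1
      group⟩
    have hKP : K = P' := hmax K hSK (fun t ht => ht.1) _ huK huS
    have hconst : ∀ i ∈ Finset.range p,
        a.coeff ((x ^ i)⁻¹ * h * x ^ i) = F 1 := fun i _ => by
      have h1 : x ^ i ∈ K := hKP ▸ hxpow i
      simpa [F] using h1.2 1 P'.one_mem
    rw [Finset.sum_congr rfl hconst, Finset.sum_const, Finset.card_range, nsmul_eq_mul]
    exact ideal_mul_right hM (ideal_p hM) (ha.int _)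
  -- the weights on `S`
  haveI := Fintype.ofFinite S
  have hScard : Nat.card S < Nat.card P' := by
    rw [hcard]; exact (lt_mul_iff_one_lt_left Nat.card_pos).2 hM.1.one_lt
  set ν' := ν.comp (Subgroup.inclusion hSP) with hν'
  have hex : ∀ j : fixAlg hM S ⊤, ∃ z : ℤ, j * j = j →
      ∑ u : S, conj (ν' u) * valAt M χ (W (u : G)) (u : G) j.1 = (Nat.card S : ℂ) * z := fun j => by
    by_cases hj : j * j = j
    · obtain ⟨z, hz⟩ := IH S hScard (hP'.to_le hSP) j.1 j.2 (congrArg Subtype.val hj) ν'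
      exact ⟨z, fun _ => hz⟩
    · exact ⟨0, fun h => absurd h hj⟩
  choose Z hZ using hex
  have hSp : ∀ u : S, ∃ k : ℕ, orderOf (u : G) = p ^ k := exists_orderOf_coe hM (hP'.to_le hSP)
  let m : fixAlg hM S ⊤ → IsLocalRing.ResidueField (Loc hM) := fun j =>
    if j * j = j then (Z j : IsLocalRing.ResidueField (Loc hM)) else 0
  have hm : ∀ {j q : fixAlg hM S ⊤}, Equiv' j q → m j = m q := by
    rintro j q ⟨w, w', hw, hw', hww, hw'w⟩
    have hiff : j * j = j ↔ q * q = q := by
      constructor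
      · intro hj
        have h1 : j * w = w := by
          conv_lhs => rw [← hw, ← mul_assoc, ← mul_assoc, hj]
          exact hw
        rw [← hw'w, mul_assoc, ← mul_assoc w, hww, h1]
      · intro hq
        have h1 : q * w' = w' := by
          conv_lhs => rw [← hw', ← mul_assoc, ← mul_assoc, hq]
          exact hw'
        rw [← hww, mul_assoc, ← mul_assoc w', hw'w, h1]
    by_cases hj : j * j = j
    · have hq := hiff.1 hj
      simp only [m, if_pos hj, if_pos hq]
      congr 1
      refine eq_of_natCard_mul (H := S) ?_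
      rw [← hZ j hj, ← hZ q hq]
      refine Finset.sum_congr rfl fun u _ => ?_
      rw [valAt_equiv hM hcl (hW.inv _) (hSp u) u.2 j.2 q.2 w.2 w'.2 (congrArg Subtype.val hj)
        (congrArg Subtype.val hq) (congrArg Subtype.val hw) (congrArg Subtype.val hw')
        (congrArg Subtype.val hww) (congrArg Subtype.val hw'w)]
    · simp only [m, if_neg hj, if_neg fun h => hj (hiff.2 h)]
  set e : fixAlg hM S ⊤ := ⟨π.1, hπf.mono hSP le_rfl⟩
  have hee : e * e = e := Subtype.ext hππ
  set σ := cjFix hM x hxS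
  have hσ : Function.Bijective σ := by
    have hx' : ∀ s ∈ S, x⁻¹⁻¹ * s * x⁻¹ ∈ S := fun s hs => by simpa using hnorm x hxP s hs
    refine ⟨fun b c h => Subtype.ext ?_, fun b => ⟨cjFix hM x⁻¹ hx' b, Subtype.ext ?_⟩⟩
    · have h1 := congrArg (cjE x⁻¹) (congrArg Subtype.val h)
      simpa [σ, cjFix, cjE_cjE, cjE_one] using h1
    · simp [σ, cjFix, cjE_cjE, cjE_one]
  have hmσ : ∀ j : fixAlg hM S ⊤, j * j = j → m (σ j) = m j := by
    intro j hj
    have hσj : σ j * σ j = σ j := by rw [← map_mul, hj]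
    simp only [m, if_pos hj, if_pos hσj]
    congr 1
    refine eq_of_natCard_mul (H := S) ?_
    rw [← hZ (σ j) hσj, ← hZ j hj]
    let τ : S ≃ S :=
      { toFun := fun u => ⟨x * u * x⁻¹, hnorm x hxP u u.2⟩
        invFun := fun u => ⟨x⁻¹ * u * x, hxS u u.2⟩
        left_inv := fun u => Subtype.ext (by simp [mul_assoc])
        right_inv := fun u => Subtype.ext (by simp [mul_assoc]) }
    symm
    refine Fintype.sum_equiv τ _ _ fun u => ?_
    have hν : ν' (τ u) = ν' u := by
      have e1 : Subgroup.inclusion hSP (τ u) =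
          ⟨x, hxP⟩ * Subgroup.inclusion hSP u * (⟨x, hxP⟩ : P')⁻¹ := Subtype.ext rfl
      rw [hν', MonoidHom.comp_apply, MonoidHom.comp_apply, e1, map_mul, map_mul,
        mul_comm (ν ⟨x, hxP⟩), mul_assoc, ← map_mul, mul_inv_cancel, map_one, mul_one]
    rw [hν]
    congr 1
    show _ = valAt M χ (W (x * (u : G) * x⁻¹)) (x * (u : G) * x⁻¹) (cjE x j.1)
    rw [hW.equiv x _ (hSp u), valAt_cjE hM hcl x (hSp u) (hW.inv _)
      (IsFix.mono j.2 (Subgroup.zpowers_le.2 u.2) le_rfl) (congrArg Subtype.val hj)]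
  have hsum : ∀ J : Finset (fixAlg hM S ⊤), IsDecomp e J → m e = ∑ j ∈ J, m j := by
    intro J hJ
    have h1 : (Nat.card S : ℂ) * (Z e : ℂ) = (Nat.card S : ℂ) * ((∑ j ∈ J, Z j : ℤ) : ℂ) := by
      rw [← hZ e hee, Int.cast_sum, Finset.mul_sum,
        Finset.sum_congr rfl fun j hj => (hZ j (hJ.prim j hj).idem).symm, Finset.sum_comm]
      refine Finset.sum_congr rfl fun u _ => ?_
      rw [← Finset.mul_sum, ← valAt_sum hM hcl (hW.inv _) (hSp u) u.2 J (fun j _ => j.2)
        (fun j hj => congrArg Subtype.val (hJ.prim j hj).idem)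
        (fun j hj k hk hne => congrArg Subtype.val (hJ.orth j hj k hk hne)),
        show (∑ j ∈ J, j.1) = e.1 by rw [← AddSubmonoidClass.coe_finsetSum, hJ.sum]]
    simp only [m, if_pos hee, eq_of_natCard_mul h1, Int.cast_sum]
    exact Finset.sum_congr rfl fun j hj => (if_pos (hJ.prim j hj).idem).symm
  have hweight := weight_eq_zero hO hm hee (residue_natCast_p hM) σ hσ
    (Subtype.ext (cjE_eq_self hπf.inv hxP)) hmσ hsum (a := ⟨a, ha⟩) (Subtype.ext hπa)
    (Subtype.ext haπ) (Subtype.ext (by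
      rw [AddSubmonoidClass.coe_finsetSum]
      show π.1 = _
      rw [htr]
      exact Finset.sum_congr rfl fun i _ => (coe_cjFix_iterate hM x hxS i ⟨a, ha⟩).symm))
  simp only [m, if_pos hee, residue_intCast_eq_zero] at hweight
  obtain ⟨k, hk⟩ := hweight
  refine ⟨k, ?_⟩
  have htot : ∑ u : P', conj (ν u) * valAt M χ (W (u : G)) (u : G) π.1 =
      ∑ u : S, conj (ν' u) * valAt M χ (W (u : G)) (u : G) e.1 := by
    symm
    refine Fintype.sum_of_injective (Subgroup.inclusion hSP) (Subgroup.inclusion_injective hSP) _ _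
      (fun u hu => ?_) fun u => rfl
    rw [hvan u fun h => hu ⟨⟨u, h⟩, Subtype.ext rfl⟩, mul_zero]
  rw [htot, hZ e hee, hk, hcard, Int.cast_mul, Nat.cast_mul, Int.cast_natCast]
  ring

/-- Twisted sums over a `p`-subgroup are divisible by its order. -/
theorem exists_int (hM : Cfsg.IsPModular p M) {W : G → MonoidAlgebra ℂ G}
    (hW : WeightSys p M W) {χ : G → ℂ} (hχ : Cfsg.IsCharacter G χ) :
    ∀ (n : ℕ) (P' : Subgroup G) [Fintype P'], Nat.card P' = n → IsPGroup p P' →
      ∀ π : MonoidAlgebra ℂ G, IsFix M P' ⊤ π → π * π = π → ∀ ν : P' →* ℂ, ∃ z : ℤ,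
        ∑ u : P', conj (ν u) * valAt M χ (W (u : G)) (u : G) π = (Nat.card P' : ℂ) * z := by
  intro n
  induction n using Nat.strong_induction_on with
  | _ n ih =>
    intro P' _ hn hP' π hπ hid ν
    classical
    obtain ⟨J, hJ⟩ := exists_decomp (Loc hM) (e := (⟨π, hπ⟩ : fixAlg hM P' ⊤)) (Subtype.ext hid)
    have hone : ∀ j : fixAlg hM P' ⊤, ∃ z : ℤ, j ∈ J →
        ∑ u : P', conj (ν u) * valAt M χ (W (u : G)) (u : G) j.1 = (Nat.card P' : ℂ) * z := by
      intro j
      by_cases hj : j ∈ J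
      swap
      · exact ⟨0, fun h => absurd h hj⟩
      by_cases hc : IdealEl M (cutEl P' j.1)
      · obtain ⟨z, hz⟩ := exists_int_of_cut hW (char_isClassFunction hχ) hP' (hJ.prim j hj) hc ν
          fun S _ hS => ih _ (hn ▸ hS) S rfl
        exact ⟨z, fun _ => hz⟩
      · obtain ⟨z, hz⟩ := exists_int_of_ne hW hχ hP' (hJ.prim j hj) hc ν
        exact ⟨z, fun _ => hz⟩
    choose Z hZ using hone
    refine ⟨∑ j ∈ J, Z j, ?_⟩
    rw [Int.cast_sum, Finset.mul_sum, Finset.sum_congr rfl fun j hj => (hZ j hj).symm,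
      Finset.sum_comm]
    refine Finset.sum_congr rfl fun u _ => ?_
    rw [← Finset.mul_sum, ← valAt_sum hM (char_isClassFunction hχ) (hW.inv _)
      (exists_orderOf_coe hM hP' u) u.2 J (fun j _ => j.2)
      (fun j hj => congrArg Subtype.val (hJ.prim j hj).idem)
      (fun j hj k hk hne => congrArg Subtype.val (hJ.orth j hj k hk hne)),
      show (∑ j ∈ J, j.1) = π by rw [← AddSubmonoidClass.coe_finsetSum, hJ.sum]]

end Cfsg.Agent.Blocks.Star
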