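import Mathlib
import Cfsg.Prelude.Def_BlockFusion
import Cfsg.Agent.BlockCharsA.PairConj
import Cfsg.Agent.Lib.Blocks.Star.Main

/-!
# Weights of a fusion-stable generalized character

`hat` spreads a stable function on the defect group over the pairs `(u, ε)` of the block; the
element `wt u` collects the idempotents at `u` with these values.
-/

set_option linter.style.haveILetI false
set_option linter.unusedSectionVars false

namespace Cfsg.Agent.Blocks.Star

open Cfsg.Agent.Blocks Cfsg.Agent.Characters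
open Cfsg.Agent.BlockCharsA.BrauerPairs Cfsg.Agent.BlockCharsA.PairConj
open Cfsg.Agent.BlockCharsA.Transport
open MonoidAlgebra

universe u

variable {G : Type u} [Group G] [Finite G] {p : ℕ} {M : Ideal Cfsg.AlgInt}

/-! ### Idempotents of blocks of centralisers -/

/-- A conjugate pair, named on a given subgroup. -/
theorem exists_cj_pair (hM : Cfsg.IsPModular p M) {Q Q' : Subgroup G} {x : G} (hQ : cj Q x = Q')
    {g : Set (Cfsg.IrrCharacter (Subgroup.centralizer (Q : Set G)))} (hg : Cfsg.IsPBlock M g) :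
    ∃ g' : Set (Cfsg.IrrCharacter (Subgroup.centralizer (Q' : Set G))), Cfsg.IsPBlock M g' ∧
      elF (Subgroup.centralizer (Q' : Set G)) g' = cjE x (elF (Subgroup.centralizer (Q : Set G)) g) ∧
      cjPair x (⟨Q, g⟩ : Cfsg.BrauerPairIdx G) = ⟨Q', g'⟩ := by
  subst hQ
  exact ⟨_, isPBlock_conjBlock hM Q x hg, el_ext fun z => by rw [coeff_conjBlock', coeff_cjE], rfl⟩

theorem cj_zpowers (x u : G) :
    cj (Subgroup.zpowers u) x = Subgroup.zpowers (x * u * x⁻¹) :=
  MonoidHom.map_zpowers _ u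

theorem elF_injective {Q : Subgroup G}
    {g g' : Set (Cfsg.IrrCharacter (Subgroup.centralizer (Q : Set G)))}
    (h : elF (Subgroup.centralizer (Q : Set G)) g = elF (Subgroup.centralizer (Q : Set G)) g') :
    g = g' := by
  have h1 := idx_ext (a := (⟨Q, g⟩ : Cfsg.BrauerPairIdx G)) (b := ⟨Q, g'⟩) rfl
    fun z => congrArg (fun y : MonoidAlgebra ℂ G => y.coeff z) h
  exact eq_of_heq (Sigma.mk.inj_iff.1 h1).2

variable (M) in
/-- The block idempotents of the centraliser of `u`. -/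
noncomputable def BI (u : G) : Finset (MonoidAlgebra ℂ G) :=
  (Set.toFinite {g : Set (Cfsg.IrrCharacter (CU u)) | Cfsg.IsPBlock M g}).toFinset.map
    ⟨fun g => elF (CU u) g, fun _ _ h => elF_injective h⟩

theorem mem_BI {u : G} {ε : MonoidAlgebra ℂ G} :
    ε ∈ BI M u ↔ ∃ g : Set (Cfsg.IrrCharacter (CU u)), Cfsg.IsPBlock M g ∧ elF (CU u) g = ε := by
  simp only [BI, Finset.mem_map, Set.Finite.mem_toFinset]
  rfl

theorem invBy_BI {u : G} {ε : MonoidAlgebra ℂ G} (h : ε ∈ BI M u) :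
    InvBy ((CU u : Subgroup G) : Set G) ε := by
  obtain ⟨g, -, rfl⟩ := mem_BI.1 h
  exact invBy_elF_self g

theorem cjE_mem_BI (hM : Cfsg.IsPModular p M) {u : G} (x : G) {ε : MonoidAlgebra ℂ G}
    (h : ε ∈ BI M u) : cjE x ε ∈ BI M (x * u * x⁻¹) := by
  obtain ⟨g, hg, rfl⟩ := mem_BI.1 h
  obtain ⟨g', hg', he, -⟩ := exists_cj_pair hM (cj_zpowers x u) hg
  exact mem_BI.2 ⟨g', hg', he⟩

theorem cjE_injective (x : G) : Function.Injective (cjE (G := G) x) := fun a b h => by
  have := congrArg (cjE x⁻¹) h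
  simpa [cjE_cjE, cjE_one] using this

theorem BI_conj (hM : Cfsg.IsPModular p M) (x u : G) :
    BI M (x * u * x⁻¹) = (BI M u).map ⟨cjE x, cjE_injective x⟩ := by
  refine Finset.ext fun ε => ⟨fun h => ?_, fun h => ?_⟩
  · have h1 := cjE_mem_BI hM x⁻¹ h
    rw [show x⁻¹ * (x * u * x⁻¹) * x⁻¹⁻¹ = u by group] at h1
    exact Finset.mem_map.2 ⟨_, h1, by simp [cjE_cjE, cjE_one]⟩
  · obtain ⟨d, hd, rfl⟩ := Finset.mem_map.1 h
    exact cjE_mem_BI hM x hd

/-! ### Stable functions and their weights -/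

section Weights

variable (p M) {P : Subgroup G} (e : Set (Cfsg.IrrCharacter (Subgroup.centralizer (P : Set G))))

open scoped Classical in
/-- The block idempotent at `u` below the top pair. -/
noncomputable def eps (u : P) : MonoidAlgebra ℂ G :=
  if h : ∃ g : Set (Cfsg.IrrCharacter (CU (u : G))),
      Cfsg.SubpairLE p M (Subgroup.zpowers (u : G)) g P e then elF (CU (u : G)) h.choose else 0

/-- A function on the top constant on the conjugacy classes of the pairs below it. -/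
def Stable (η : P → ℂ) : Prop :=
  ∀ (u v : P) (x : G), (v : G) = x * (u : G) * x⁻¹ → cjE x (eps p M e u) = eps p M e v → η u = η v

open scoped Classical in
/-- The value of `η` at a pair. -/
noncomputable def hat (η : P → ℂ) (u : G) (ε : MonoidAlgebra ℂ G) : ℂ :=
  if h : ∃ (v : P) (x : G), (v : G) = x * u * x⁻¹ ∧ cjE x ε = eps p M e v then η h.choose else 0

/-- The weight of `η` at `u`. -/
noncomputable def wt (η : P → ℂ) (u : G) : MonoidAlgebra ℂ G :=
  ∑ ε ∈ BI M u, hat p M e η u ε • ε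

variable {p M e}

theorem hat_eq {η : P → ℂ} (hη : Stable p M e η) {u x : G} {ε : MonoidAlgebra ℂ G} {v : P}
    (hv : (v : G) = x * u * x⁻¹) (hε : cjE x ε = eps p M e v) : hat p M e η u ε = η v := by
  have h : ∃ (v : P) (x : G), (v : G) = x * u * x⁻¹ ∧ cjE x ε = eps p M e v := ⟨v, x, hv, hε⟩
  rw [hat, dif_pos h]
  obtain ⟨y, hy, hyε⟩ := h.choose_spec
  refine hη _ _ (x * y⁻¹) ?_ ?_
  · rw [hv, hy]; group
  · rw [← hyε, cjE_cjE, ← hε]
    congr 1
    group

theorem hat_of_not {η : P → ℂ} {u : G} {ε : MonoidAlgebra ℂ G}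
    (h : ¬ ∃ (v : P) (x : G), (v : G) = x * u * x⁻¹ ∧ cjE x ε = eps p M e v) :
    hat p M e η u ε = 0 := by rw [hat, dif_neg h]

theorem hat_conj {η : P → ℂ} (hη : Stable p M e η) (x u : G) (ε : MonoidAlgebra ℂ G) :
    hat p M e η (x * u * x⁻¹) (cjE x ε) = hat p M e η u ε := by
  by_cases h : ∃ (v : P) (y : G), (v : G) = y * u * y⁻¹ ∧ cjE y ε = eps p M e v
  · obtain ⟨v, y, hv, hε⟩ := h
    rw [hat_eq hη hv hε, hat_eq hη (x := y * x⁻¹) (v := v) (by rw [hv]; group)
      (by rw [cjE_cjE, ← hε]; congr 1; group)]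
  · rw [hat_of_not h, hat_of_not]
    rintro ⟨v, y, hv, hε⟩
    exact h ⟨v, y * x, by rw [hv]; group, by rwa [← cjE_cjE]⟩

theorem invBy_wt (η : P → ℂ) (u : G) :
    InvBy ((CU u : Subgroup G) : Set G) (wt p M e η u) := by
  intro c hc g
  simp only [wt, MonoidAlgebra.coeff_sum, Finsupp.finsetSum_apply,
    MonoidAlgebra.coeff_smul_apply]
  exact Finset.sum_congr rfl fun ε hε => by rw [invBy_BI hε c hc g]

theorem supp_wt (η : P → ℂ) (u : G) {g : G} (hg : g ∉ CU u) :
    (wt p M e η u).coeff g = 0 := by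
  simp only [wt, MonoidAlgebra.coeff_sum, Finsupp.finsetSum_apply,
    MonoidAlgebra.coeff_smul_apply]
  refine Finset.sum_eq_zero fun ε hε => ?_
  obtain ⟨f, -, rfl⟩ := mem_BI.1 hε
  rw [elF, coeff_inclEl_notMem _ _ hg, smul_zero]

theorem wt_conj (hM : Cfsg.IsPModular p M) {η : P → ℂ} (hη : Stable p M e η) (x u : G) :
    wt p M e η (x * u * x⁻¹) = cjE x (wt p M e η u) := by
  rw [wt, wt, BI_conj hM, Finset.sum_map, cjE_sum]
  refine Finset.sum_congr rfl fun ε _ => ?_
  rw [cjE_smul, Function.Embedding.coeFn_mk, hat_conj hη]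

theorem wt_mul (hM : Cfsg.IsPModular p M) (η : P → ℂ) (u : G)
    {g : Set (Cfsg.IrrCharacter (CU u))} (hg : Cfsg.IsPBlock M g) :
    wt p M e η u * elF (CU u) g = hat p M e η u (elF (CU u) g) • elF (CU u) g := by
  classical
  rw [wt, Finset.sum_mul, Finset.sum_eq_single_of_mem _ (mem_BI.2 ⟨g, hg, rfl⟩)]
  · rw [smul_mul_assoc, elF_mul_self]
  · intro ε hε hne
    obtain ⟨g', hg', rfl⟩ := mem_BI.1 hε
    rw [smul_mul_assoc, elF_mul_ne hM hg' hg fun h => hne (by rw [h]), smul_zero]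

theorem eps_spec (hM : Cfsg.IsPModular p M) {B : Set (Cfsg.IrrCharacter G)}
    (hmax : Cfsg.IsMaximalBrauerPair p M B P e) (u : P) :
    ∃ g : Set (Cfsg.IrrCharacter (CU (u : G))),
      Cfsg.SubpairLE p M (Subgroup.zpowers (u : G)) g P e ∧ Cfsg.IsPBlock M g ∧
        eps p M e u = elF (CU (u : G)) g := by
  obtain ⟨g, hg, hgP⟩ := exists_subpair hM _ (Subgroup.zpowers (u : G)) P e rfl hmax.1.1
    (Subgroup.zpowers_le.2 u.2)
  have h : ∃ g : Set (Cfsg.IrrCharacter (CU (u : G))),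
      Cfsg.SubpairLE p M (Subgroup.zpowers (u : G)) g P e := ⟨g, hgP⟩
  refine ⟨g, hgP, hg, ?_⟩
  rw [eps, dif_pos h, subpair_unique hM _ _ P e rfl hmax.1.1 _ g h.choose_spec hgP]

theorem eps_eq (hM : Cfsg.IsPModular p M) {B : Set (Cfsg.IrrCharacter G)}
    (hmax : Cfsg.IsMaximalBrauerPair p M B P e) (u : P) {g : Set (Cfsg.IrrCharacter (CU (u : G)))}
    (hg : Cfsg.SubpairLE p M (Subgroup.zpowers (u : G)) g P e) :
    eps p M e u = elF (CU (u : G)) g := by
  obtain ⟨g', hg', -, he⟩ := eps_spec hM hmax u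
  rw [he, subpair_unique hM _ _ P e rfl hmax.1.1 g g' hg hg']

theorem weightSys (hM : Cfsg.IsPModular p M) {B : Set (Cfsg.IrrCharacter G)}
    (hmax : Cfsg.IsMaximalBrauerPair p M B P e) {η : P → ℂ}
    (hgen : Cfsg.IsGeneralizedCharacter P η) (hη : Stable p M e η) :
    WeightSys p M (wt p M e η) := by
  refine ⟨fun u => invBy_wt η u, fun x u _ => wt_conj hM hη x u, fun P' f hPf => ?_⟩
  by_cases hB : Cfsg.IsBrauerPairOf p M B P' f
  · obtain ⟨x, hx⟩ := exists_conj_le hM hmax hB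
    have hle : cj P' x ≤ P := (subpairLE_facts hM hx).1
    let φ : P' →* P :=
      { toFun := fun u => ⟨x * u * x⁻¹, hle (conj_mem_cj.2 u.2)⟩
        map_one' := Subtype.ext (by simp)
        map_mul' := fun a b => Subtype.ext (by simp [mul_assoc]) }
    refine ⟨η ∘ φ, isGen_comp φ hgen, fun u g hg => ?_⟩
    have hgB : Cfsg.IsBrauerPair p M (Subgroup.zpowers (u : G)) g :=
      (subpairLE_facts hM hg).2 hPf
    obtain ⟨g', hg', he, hpair⟩ := exists_cj_pair hM (cj_zpowers x (u : G)) hgB.2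
    have h1 : Relation.ReflTransGen (Cfsg.NormalSubpairRel p M)
        (cjPair x ⟨Subgroup.zpowers (u : G), g⟩) ⟨P, e⟩ := (subpairLE_conj hM x hg).trans hx
    rw [hpair] at h1
    rw [wt_mul hM η _ hgB.2, hat_eq hη (x := x) (v := φ u) rfl]
    · rfl
    · rw [← he, eps_eq hM hmax (φ u) (g := g') h1]
      rfl
  · refine ⟨0, isGen_zero, fun u g hg => ?_⟩
    have hgB : Cfsg.IsBrauerPair p M (Subgroup.zpowers (u : G)) g :=
      (subpairLE_facts hM hg).2 hPf
    rw [wt_mul hM η _ hgB.2, hat_of_not]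
    · simp
    rintro ⟨v, x, hv, hε⟩
    refine hB ((block_of_subpairLE hM hg).1 ?_)
    obtain ⟨gv, hgv, -, hev⟩ := eps_spec hM hmax v
    have hgvB := (block_of_subpairLE hM (B := B) hgv).2 hmax.1
    have hpair : cjPair x (⟨Subgroup.zpowers (u : G), g⟩ : Cfsg.BrauerPairIdx G) =
        ⟨Subgroup.zpowers (v : G), gv⟩ := by
      refine idx_ext ((cj_zpowers x _).trans (congrArg Subgroup.zpowers hv.symm)) fun z => ?_
      simp only [cjPair]
      rw [coeff_conjBlock', ← coeff_cjE, hε, hev]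
    have key : ∀ a : Cfsg.BrauerPairIdx G, a = cjPair x⁻¹ (⟨Subgroup.zpowers (v : G), gv⟩) →
        Cfsg.IsBrauerPairOf p M B a.1 a.2 := by
      rintro a rfl
      exact isBrauerPairOf_conj hM x⁻¹ hgvB
    exact key ⟨_, g⟩ (by rw [← hpair, cjPair_mul, inv_mul_cancel, cjPair_one])

/-- A function trivial on the focal subgroup is stable. -/
theorem stable_of_focal (hM : Cfsg.IsPModular p M) {B : Set (Cfsg.IrrCharacter G)}
    {F : Cfsg.FusionSystem P} (hF : Cfsg.IsBlockFusionSystemOn p M B P e F) (lam : P →* ℂ)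
    (hlam : ∀ z : P, (z : G) ∈ F.focalSubgroup → lam z = 1) : Stable p M e fun u => lam u := by
  intro u v x hv hε
  obtain ⟨gu, hgu, -, heu⟩ := eps_spec hM hF.1 u
  obtain ⟨gv, hgv, -, hev⟩ := eps_spec hM hF.1 v
  have hpair : cjPair x (⟨Subgroup.zpowers (u : G), gu⟩ : Cfsg.BrauerPairIdx G) =
      ⟨Subgroup.zpowers (v : G), gv⟩ := by
    refine idx_ext ((cj_zpowers x _).trans (congrArg Subgroup.zpowers hv.symm)) fun z => ?_
    simp only [cjPair]
    rw [coeff_conjBlock', ← coeff_cjE, ← heu, hε, hev]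
  have hle : (Subgroup.zpowers (u : G)).map (MulAut.conj x).toMonoidHom ≤ P := by
    rw [show (Subgroup.zpowers (u : G)).map (MulAut.conj x).toMonoidHom = _ from
      cj_zpowers x (u : G), ← hv]
    exact Subgroup.zpowers_le.2 v.2
  have hφ : Cfsg.conjHom (Subgroup.zpowers (u : G)) x ∈ F.Hom (Subgroup.zpowers (u : G)) := by
    refine (hF.2 _ _).2 ⟨Subgroup.zpowers_le.2 u.2, x, fun w => rfl, hle, gu, hgu, ?_⟩
    show Relation.ReflTransGen (Cfsg.NormalSubpairRel p M)
      (cjPair x ⟨Subgroup.zpowers (u : G), gu⟩) ⟨P, e⟩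
    rw [hpair]
    exact hgv
  have hmem : ((u⁻¹ * v : P) : G) ∈ F.focalSubgroup := by
    refine Subgroup.subset_closure ⟨Subgroup.zpowers (u : G), Cfsg.conjHom _ x,
      ⟨(u : G), Subgroup.mem_zpowers _⟩, hφ, ?_⟩
    show _ = (u : G)⁻¹ * (x * (u : G) * x⁻¹)
    simp [hv]
  calc lam u = lam u * lam (u⁻¹ * v) := by rw [hlam _ hmem, mul_one]
    _ = lam v := by rw [← map_mul, mul_inv_cancel_left]

end Weights

end Cfsg.Agent.Blocks.Star
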