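import Mathlib
import Cfsg.Agent.Lib.Characters.Artin
import Cfsg.Agent.Lib.Characters.Monomial
import Cfsg.Agent.Lib.CN.Basic
import Cfsg.Agent.Lib.CharTheory.BrauerInduction
import Cfsg.Agent.Lib.Blocks.DefectCenter
import Cfsg.Agent.Lib.Blocks.Star.Weights

/-!
# The product of a character with a stable generalized character is a generalized character
-/

set_option linter.style.haveILetI false
set_option linter.unusedSectionVars false

namespace Cfsg.Agent.Blocks.Star

open Cfsg.Agent.Blocks Cfsg.Agent.Characters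
open Cfsg.Agent.BlockCharsA.BrauerPairs
open MonoidAlgebra
open scoped ComplexConjugate

universe u

variable {G : Type u} [Group G] [Finite G] {p : ℕ} {M : Ideal Cfsg.AlgInt}

/-- The `p`-part. -/
noncomputable def ppt (hM : Cfsg.IsPModular p M) (g : G) : G := (exists_ppart hM.1 g).choose

theorem ppt_eq (hM : Cfsg.IsPModular p M) {g x : G} (h : Cfsg.IsPPart p g x) : ppt hM g = x :=
  ppart_unique hM.1 (exists_ppart hM.1 g).choose_spec h

theorem isPPart_ppt (hM : Cfsg.IsPModular p M) (g : G) : Cfsg.IsPPart p g (ppt hM g) :=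
  (exists_ppart hM.1 g).choose_spec

/-- A system of weights applied to a function on the group. -/
noncomputable def star (hM : Cfsg.IsPModular p M) (W : G → MonoidAlgebra ℂ G) (χ : G → ℂ) :
    G → ℂ := fun g => evalChar χ (single g 1 * W (ppt hM g))

theorem star_eq (hM : Cfsg.IsPModular p M) (W : G → MonoidAlgebra ℂ G) (χ : G → ℂ) {g x : G}
    (h : Cfsg.IsPPart p g x) : star hM W χ g = evalChar χ (single g 1 * W x) := by
  rw [star, ppt_eq hM h]

theorem cjE_single (x g : G) (r : ℂ) : cjE x (single g r) = single (x * g * x⁻¹) r := by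
  simp [cjE, single_mul_single]

theorem isClassFunction_star (hM : Cfsg.IsPModular p M) {W : G → MonoidAlgebra ℂ G}
    (hW : WeightSys p M W) {χ : G → ℂ} (hχ : Cfsg.IsClassFunction G χ) :
    Cfsg.IsClassFunction G (star hM W χ) := by
  intro g a
  have h := isPPart_ppt hM g
  obtain ⟨-, -, -, hk, -⟩ := id h
  rw [star_eq hM W χ (isPPart_conj h a), hW.equiv a _ hk, ← cjE_single, ← cjE_mul,
    evalChar_cjE hχ, star]

/-- The inner product with a linear character of a nilpotent subgroup is an integer. -/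
theorem inner_linear_int (hM : Cfsg.IsPModular p M) {W : G → MonoidAlgebra ℂ G}
    (hW : WeightSys p M W) {χ : G → ℂ} (hχ : Cfsg.IsCharacter G χ) {L : Type u} [Group L]
    [Fintype L] [Group.IsNilpotent L] (ι : L →* G) (hι : Function.Injective ι) (lam : L →* ℂˣ) :
    ∃ z : ℤ, Cfsg.classInner (fun g : L => star hM W χ (ι g)) (fun g => (lam g : ℂ)) = (z : ℂ) := by
  classical
  haveI := fact_prime_of_pm hM
  obtain ⟨S₀⟩ : Nonempty (Sylow p L) := inferInstance
  haveI : (S₀ : Subgroup L).Normal :=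
    Sylow.normal_of_normalizerCondition (Group.normalizerCondition_of_isNilpotent (G := L)) S₀
  obtain ⟨K₀, hK⟩ := Subgroup.exists_right_complement'_of_coprime S₀.card_coprime_index
  have hKp : ∀ k ∈ K₀, ¬ p ∣ orderOf k := by
    intro k hk h
    have h1 : orderOf k ∣ Nat.card K₀ := Subgroup.orderOf_dvd_natCard K₀ hk
    rw [← hK.symm.index_eq_card] at h1
    exact S₀.not_dvd_index (h.trans h1)
  set P' := (S₀ : Subgroup L).map ι with hP'def
  have hP' : IsPGroup p P' := S₀.2.map ι
  haveI := Fintype.ofFinite P'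
  haveI := Fintype.ofFinite (S₀ : Subgroup L)
  haveI := Fintype.ofFinite K₀
  let eP : (S₀ : Subgroup L) ≃* P' := (S₀ : Subgroup L).equivMapOfInjective ι hι
  have hcomm : ∀ u ∈ (S₀ : Subgroup L), ∀ k ∈ K₀, Commute u k := by
    intro u hu k hk
    refine CN.commute_of_coprime_group u k ?_
    obtain ⟨a, ha⟩ := IsPGroup.iff_orderOf.1 S₀.2 ⟨u, hu⟩
    rw [Subgroup.orderOf_mk] at ha
    rw [ha]
    exact (hM.1.coprime_iff_not_dvd.2 (hKp k hk)).pow_left a
  set c : ℂ := (Nat.card K₀ : ℂ)⁻¹
  set el : MonoidAlgebra ℂ G := c • ∑ k : K₀, single (ι k) (lam (k : L)⁻¹ : ℂ) with hel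
  have hcK : ¬ p ∣ Nat.card K₀ := by
    rw [← hK.symm.index_eq_card]; exact S₀.not_dvd_index
  have hint : IntEl M el := by
    refine intEl_smul hM (ring_inv_natCast hM hcK) (intEl_sum hM fun k _ => intEl_single hM _ ?_)
    refine ring_of_pow_eq_one hM (Nat.card_pos (α := L)).ne' ?_
    rw [← Units.val_pow_eq_pow_val, ← map_pow, pow_card_eq_one', map_one, Units.val_one]
  have hsupp : ∀ g ∉ Subgroup.centralizer (P' : Set G), el.coeff g = 0 := by
    intro g hg
    simp only [hel, MonoidAlgebra.coeff_smul_apply, MonoidAlgebra.coeff_sum,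
      Finsupp.finsetSum_apply, MonoidAlgebra.coeff_single]
    rw [Finset.sum_eq_zero, smul_zero]
    intro k _
    refine Finsupp.single_eq_of_ne fun h => hg ?_
    rw [h]
    rintro _ ⟨u, hu, rfl⟩
    rw [← map_mul, ← map_mul, (hcomm u hu k k.2).eq]
  have hidem : el * el = el := by
    have h1 : (∑ k : K₀, single (ι k) (lam (k : L)⁻¹ : ℂ)) *
        (∑ k : K₀, single (ι k) (lam (k : L)⁻¹ : ℂ)) =
        (Nat.card K₀ : ℂ) • ∑ k : K₀, single (ι k) (lam (k : L)⁻¹ : ℂ) := by
      rw [Finset.sum_mul_sum, Nat.cast_smul_eq_nsmul ℂ, Nat.card_eq_fintype_card,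
        ← Finset.card_univ, ← Finset.sum_const]
      refine Finset.sum_congr rfl fun k _ => ?_
      refine Fintype.sum_equiv (Equiv.mulLeft k) _ _ fun l => ?_
      rw [single_mul_single, Equiv.coe_mulLeft, Subgroup.coe_mul, map_mul, mul_inv_rev, map_mul,
        Units.val_mul, mul_comm (lam (l : L)⁻¹ : ℂ)]
    rw [hel, smul_mul_smul_comm, h1, smul_smul, mul_assoc,
      inv_mul_cancel₀ natCard_ne_zero, mul_one]
  have hfix : IsFix M P' ⊤ el :=
    ⟨hint, invBy_of_supp_cent hsupp, fun g hg => absurd (Subgroup.mem_top g) hg⟩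
  let ν : P' →* ℂ :=
    (Units.coeHom ℂ).comp (lam.comp ((S₀ : Subgroup L).subtype.comp eP.symm.toMonoidHom))
  obtain ⟨z, hz⟩ := exists_int hM hW hχ (Nat.card P') P' rfl hP' el hfix hidem ν
  refine ⟨z, ?_⟩
  have hval : ∀ u : (S₀ : Subgroup L), valAt M χ (W (eP u : G)) (eP u : G) el =
      c * ∑ k : K₀, (lam (k : L)⁻¹ : ℂ) * star hM W χ (ι ((u : L) * (k : L))) := by
    intro u
    have hu := exists_orderOf_coe hM hP' (eP u)
    have hsupp' : ∀ g ∉ CU (eP u : G), el.coeff g = 0 := fun g hg => hsupp g fun h =>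
      hg (centralizer_le_centralizer (Subgroup.zpowers_le.2 (eP u).2) h)
    rw [valAt_eq hM (char_isClassFunction hχ) (hW.inv _) (j := el)
      ⟨⟨hint, invBy_of_supp_cent hsupp', hsupp'⟩, hidem,
        congEl_of_eq hM (cutEl_of_supp hsupp').symm⟩]
    rw [hel, mul_smul_comm, evalChar_smul, Finset.mul_sum, evalChar_sum]
    congr 1
    refine Finset.sum_congr rfl fun k _ => ?_
    have hpp : Cfsg.IsPPart p (ι ((u : L) * (k : L))) (eP u : G) := by
      refine ⟨ι k, (map_mul ι _ _).symm, (hcomm u u.2 k k.2).map ι, hu, ?_⟩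
      rw [orderOf_injective ι hι]
      exact hKp k k.2
    have hkC : ι k ∈ CU (eP u : G) := mem_centralizer_zpowers.2
      (Subgroup.mem_centralizer_singleton_iff.2 ((hcomm u u.2 k k.2).map ι).symm.eq)
    rw [star_eq hM W χ hpp, show single (ι k) (lam (k : L)⁻¹ : ℂ) =
      (lam (k : L)⁻¹ : ℂ) • single (ι k) (1 : ℂ) by
        rw [MonoidAlgebra.smul_single, smul_eq_mul, mul_one],
      mul_smul_comm, evalChar_smul, mul_assoc,
      ← (invBy_iff_commute.1 (hW.inv _) _ hkC).eq, ← mul_assoc, single_mul_single, one_mul,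
      map_mul]
    rfl
  have hconj : ∀ g : L, conj (lam g : ℂ) = (lam g⁻¹ : ℂ) := fun g =>
    (char_inv (isCharacter_linear lam) g).symm
  let bij : ↥(S₀ : Subgroup L) × K₀ ≃ L := Equiv.ofBijective (fun x => (x.1 : L) * (x.2 : L)) hK
  rw [classInner_def, ← Equiv.sum_comp bij, Fintype.sum_prod_type,
    inv_mul_eq_iff_eq_mul₀ natCard_ne_zero]
  have hcard : (Nat.card L : ℂ) = (Nat.card P' : ℂ) * (Nat.card K₀ : ℂ) := by
    rw [← Nat.card_congr bij, Nat.card_prod, ← Nat.card_congr eP.toEquiv, Nat.cast_mul]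
  rw [hcard, mul_right_comm, ← hz, Finset.sum_mul]
  refine Fintype.sum_equiv eP.toEquiv _ _ fun u => ?_
  show _ = conj (ν (eP u)) * valAt M χ (W (eP u : G)) (eP u : G) el * (Nat.card K₀ : ℂ)
  rw [hval, mul_comm c, ← mul_assoc, mul_assoc, inv_mul_cancel₀ natCard_ne_zero, mul_one,
    Finset.mul_sum]
  refine Finset.sum_congr rfl fun k _ => ?_
  have hν : ν (eP u) = (lam (u : L) : ℂ) := by simp [ν]
  show star hM W χ (ι ((u : L) * (k : L))) * conj (lam ((u : L) * (k : L)) : ℂ) = _
  rw [map_mul lam, Units.val_mul, map_mul (starRingEnd ℂ), hν, hconj, hconj]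
  ring

/-- The product is a generalized character. -/
theorem isGen_star [Fintype G] (hM : Cfsg.IsPModular p M) {W : G → MonoidAlgebra ℂ G}
    (hW : WeightSys p M W) {χ : G → ℂ} (hχ : Cfsg.IsCharacter G χ) :
    Cfsg.IsGeneralizedCharacter G (star hM W χ) := by
  have hcl := isClassFunction_star hM hW (char_isClassFunction hχ)
  refine CharTheory.BrauerInduction.isGen_of_elementary hcl fun E q hq hE => ?_
  haveI := Fintype.ofFinite E
  haveI : Group.IsNilpotent E := Artin.isNilpotent_of_isElementary hq hE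
  refine isGen_of_classInner_int (classFun_restrict E hcl) fun φ hφ => ?_
  obtain ⟨H, lam, rfl⟩ := Monomial.monomial_of_nilpotent hφ
  haveI := Fintype.ofFinite H
  rw [frobenius_reciprocity' H _ (classFun_restrict E hcl)]
  exact inner_linear_int hM hW hχ (E.subtype.comp H.subtype)
    (E.subtype_injective.comp H.subtype_injective) lam

end Cfsg.Agent.Blocks.Star
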