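import Mathlib
import Cfsg.Agent.Lib.Blocks.RegularSum
import Cfsg.Agent.Lib.Blocks.SectionNorm
import Cfsg.Agent.Lib.ZStar.Sections
import Cfsg.Agent.Lib.Blocks.Star.Gen

/-!
# The parts of a class function at a pair, and their inner products
-/

set_option linter.style.haveILetI false
set_option linter.unusedSectionVars false

namespace Cfsg.Agent.Blocks.Star

open Cfsg.Agent.Blocks Cfsg.Agent.Characters
open Cfsg.Agent.BlockCharsA.BrauerPairs Cfsg.Agent.BlockCharsA.PairConj
open MonoidAlgebra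
open scoped ComplexConjugate

universe u

variable {G : Type u} [Group G] [Finite G] {p : ℕ} {M : Ideal Cfsg.AlgInt}

/-! ### Block parts on a group -/

theorem blockPart_congr_reg (hM : Cfsg.IsPModular p M) {b : Set (Cfsg.IrrCharacter G)}
    (hb : Cfsg.IsPBlock M b) {F F' : G → ℂ} (h : ∀ c, ¬ p ∣ orderOf c → F c = F' c) {s : G}
    (hs : ¬ p ∣ orderOf s) : Cfsg.blockPart b F s = Cfsg.blockPart b F' s := by
  haveI := Fintype.ofFinite G
  rw [blockPart_eq_kernel, blockPart_eq_kernel]
  refine Finset.sum_congr rfl fun c _ => ?_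
  by_cases hc : p ∣ orderOf c
  · rw [blockKernelAt_singular hM hb hs hc, zero_mul, zero_mul]
  · rw [h c hc]

theorem blockPart_sum_smul (b : Set (Cfsg.IrrCharacter G)) {ι : Type*} (t : Finset ι) (a : ι → ℂ)
    (F : ι → G → ℂ) (s : G) :
    Cfsg.blockPart b (fun c => ∑ i ∈ t, a i * F i c) s = ∑ i ∈ t, a i * Cfsg.blockPart b (F i) s := by
  haveI := Fintype.ofFinite G
  simp only [blockPart_eq_kernel, Finset.mul_sum]
  rw [Finset.sum_comm]
  exact Finset.sum_congr rfl fun i _ => Finset.sum_congr rfl fun c _ => by ring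

open scoped Classical in
theorem blockPart_eq_expand [Fintype G] [Fintype (Cfsg.IrrCharacter G)]
    (b : Set (Cfsg.IrrCharacter G)) (F : G → ℂ) (s : G) :
    Cfsg.blockPart b F s = ∑ χ ∈ Finset.univ.filter (fun χ => χ ∈ b),
      Cfsg.classInner F (χ : G → ℂ) * (χ : G → ℂ) s := by
  rw [ZStar.Principal.blockPart_eq_sum_mul, finsum_mem_def, finsum_eq_sum_of_fintype,
    Finset.sum_filter]
  simp only [Set.indicator_apply]

theorem blockPart_blockPart (hM : Cfsg.IsPModular p M) {b b' : Set (Cfsg.IrrCharacter G)}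
    (hb : Cfsg.IsPBlock M b) (hb' : Cfsg.IsPBlock M b') [Decidable (b = b')] (F : G → ℂ) (s : G) :
    Cfsg.blockPart b (Cfsg.blockPart b' F) s = if b = b' then Cfsg.blockPart b F s else 0 := by
  classical
  haveI := Fintype.ofFinite G
  haveI := Fintype.ofFinite (Cfsg.IrrCharacter G)
  rw [show Cfsg.blockPart b' F = fun c => ∑ χ ∈ Finset.univ.filter (fun χ => χ ∈ b'),
      Cfsg.classInner F (χ : G → ℂ) * (χ : G → ℂ) c from funext (blockPart_eq_expand b' F),
    blockPart_sum_smul]
  simp only [blockPart_irr]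
  by_cases h : b = b'
  · subst h
    rw [if_pos rfl, blockPart_eq_expand]
    exact Finset.sum_congr rfl fun χ hχ => by rw [if_pos (Finset.mem_filter.1 hχ).2]
  · rw [if_neg h]
    refine Finset.sum_eq_zero fun χ hχ => ?_
    rw [if_neg, mul_zero]
    exact fun hχb => h (block_eq_of_mem hM hb hb' hχb (Finset.mem_filter.1 hχ).2)

theorem regSum_blockPart (hM : Cfsg.IsPModular p M) {b b' : Set (Cfsg.IrrCharacter G)}
    (hb : Cfsg.IsPBlock M b) (hb' : Cfsg.IsPBlock M b') (hne : b ≠ b') (F F' : G → ℂ) :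
    regSum p (Cfsg.blockPart b F) (Cfsg.blockPart b' F') = 0 := by
  classical
  haveI := Fintype.ofFinite G
  haveI := Fintype.ofFinite (Cfsg.IrrCharacter G)
  simp only [regSum_eq_sum, blockPart_eq_expand, map_sum, map_mul]
  simp only [← Finset.sum_filter, Finset.sum_mul, Finset.mul_sum]
  rw [Finset.sum_comm]
  refine Finset.sum_eq_zero fun ψ hψ => ?_
  rw [Finset.sum_comm]
  refine Finset.sum_eq_zero fun χ hχ => ?_
  have h0 := regSum_eq_zero hM (intEl_blockIdem hM hb') (Finset.mem_filter.1 hψ).2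
    (ψ := χ) fun h => hne (block_eq_of_mem hM hb hb' (Finset.mem_filter.1 hχ).2 h)
  rw [regSum_eq_sum, ← Finset.sum_filter] at h0
  rw [← mul_zero (Cfsg.classInner F (χ : G → ℂ) * conj (Cfsg.classInner F' (ψ : G → ℂ))), ← h0,
    Finset.mul_sum]
  exact Finset.sum_congr rfl fun c _ => by ring

/-! ### Parts at a pair -/

/-- The part of `f` at `(u, ε)`, as a function of `s`. -/
noncomputable def th (f : G → ℂ) (u : G) (ε : MonoidAlgebra ℂ G) (s : G) : ℂ :=
  evalChar f (single (u * s) 1 * ε)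

variable (p) in
/-- The `p`-regular elements commuting with `u`. -/
noncomputable def regAt (u : G) : Finset G :=
  (Set.toFinite {s : G | Commute u s ∧ ¬ p ∣ orderOf s}).toFinset

theorem mem_regAt {u s : G} : s ∈ regAt p u ↔ Commute u s ∧ ¬ p ∣ orderOf s := by
  simp [regAt]

theorem mem_CU_of_commute {u s : G} (h : Commute u s) : s ∈ CU u :=
  mem_centralizer_zpowers.2 (Subgroup.mem_centralizer_singleton_iff.2 h.symm.eq)

theorem commute_of_mem_CU {u s : G} (h : s ∈ CU u) : Commute u s :=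
  (Subgroup.mem_centralizer_singleton_iff.1 (mem_centralizer_zpowers.1 h)).symm

/-- The shifted function on the centraliser. -/
def shiftCU (f : G → ℂ) (u : G) : CU u → ℂ := fun c => f (u * (c : G))

theorem isClassFunction_shiftCU {f : G → ℂ} (hf : Cfsg.IsClassFunction G f) (u : G) :
    Cfsg.IsClassFunction (CU u) (shiftCU f u) := fun c a => by
  show f (u * (a * c * a⁻¹ : CU u)) = f (u * c)
  have h : Commute u (a : G) := commute_of_mem_CU a.2
  rw [← hf (u * (c : G)) (a : G)]
  congr 1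
  simp only [Subgroup.coe_mul, Subgroup.coe_inv]
  rw [← mul_assoc (a : G) u, ← h.eq]
  simp only [mul_assoc]

theorem th_eq {f : G → ℂ} (hf : Cfsg.IsClassFunction G f) (u : G)
    (g : Set (Cfsg.IrrCharacter (CU u))) (s : CU u) :
    th f u (elF (CU u) g) (s : G) = Cfsg.blockPart g (shiftCU f u) s := by
  haveI := Fintype.ofFinite (CU u)
  rw [th, elF, evalChar_mul_comm hf, evalChar_inclEl_mul_single,
    blockPart_eq_sum g (isClassFunction_shiftCU hf u)]
  refine finsum_congr fun k => ?_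
  rw [coeff_blockIdem]
  congr 1
  show f ((k : G) * (u * (s : G))) = f (u * ((k * s : CU u) : G))
  rw [Subgroup.coe_mul, ← mul_assoc, ← (commute_of_mem_CU k.2).eq, mul_assoc]

theorem sum_regAt (u : G) (φ ψ : G → ℂ) :
    ∑ s ∈ regAt p u, φ s * conj (ψ s) = regSum p (fun c : CU u => φ c) (fun c : CU u => ψ c) := by
  classical
  haveI := Fintype.ofFinite (CU u)
  rw [regSum_eq_sum, ← Finset.sum_filter]
  symm
  refine Finset.sum_bij (fun c _ => (c : G)) (fun c hc => ?_) (fun _ _ _ _ e => Subtype.ext e)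
    (fun s hs => ?_) fun c _ => rfl
  · refine mem_regAt.2 ⟨commute_of_mem_CU c.2, ?_⟩
    rw [Subgroup.orderOf_coe]
    exact (Finset.mem_filter.1 hc).2
  · obtain ⟨h1, h2⟩ := mem_regAt.1 hs
    refine ⟨⟨s, mem_CU_of_commute h1⟩, Finset.mem_filter.2 ⟨Finset.mem_univ _, ?_⟩, rfl⟩
    rw [Subgroup.orderOf_mk]
    exact h2

/-- Parts at different pairs on one element are orthogonal. -/
theorem sum_th_cross (hM : Cfsg.IsPModular p M) {f f' : G → ℂ} (hf : Cfsg.IsClassFunction G f)
    (hf' : Cfsg.IsClassFunction G f') {u : G} {ε ε' : MonoidAlgebra ℂ G} (hε : ε ∈ BI M u)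
    (hε' : ε' ∈ BI M u) (hne : ε ≠ ε') :
    ∑ s ∈ regAt p u, th f u ε s * conj (th f' u ε' s) = 0 := by
  obtain ⟨g, hg, rfl⟩ := mem_BI.1 hε
  obtain ⟨g', hg', rfl⟩ := mem_BI.1 hε'
  rw [sum_regAt,
    show (fun c : CU u => th f u (elF (CU u) g) (c : G)) = Cfsg.blockPart g (shiftCU f u) from
      funext fun c => th_eq hf u g c,
    show (fun c : CU u => th f' u (elF (CU u) g') (c : G)) = Cfsg.blockPart g' (shiftCU f' u) from
      funext fun c => th_eq hf' u g' c]
  exact regSum_blockPart hM hg hg' (fun h => hne (by rw [h])) _ _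

/-- The idempotents of the blocks of the centraliser sum to one. -/
theorem sum_BI_eq {α : Type*} [AddCommMonoid α] (u : G)
    [Fintype {g : Set (Cfsg.IrrCharacter (CU u)) // Cfsg.IsPBlock M g}]
    (F : MonoidAlgebra ℂ G → α) :
    ∑ ε ∈ BI M u, F ε =
      ∑ g : {g : Set (Cfsg.IrrCharacter (CU u)) // Cfsg.IsPBlock M g}, F (elF (CU u) g.1) := by
  symm
  refine Finset.sum_bij (fun g _ => elF (CU u) g.1) (fun g _ => mem_BI.2 ⟨g.1, g.2, rfl⟩)
    (fun _ _ _ _ h => Subtype.ext (elF_injective h)) (fun ε hε => ?_) fun _ _ => rfl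
  obtain ⟨g, hg, rfl⟩ := mem_BI.1 hε
  exact ⟨⟨g, hg⟩, Finset.mem_univ _, rfl⟩

/-- The idempotents of the blocks of the centraliser sum to one. -/
theorem sum_BI (hM : Cfsg.IsPModular p M) (u : G) : ∑ ε ∈ BI M u, ε = 1 := by
  classical
  haveI : Fintype {g : Set (Cfsg.IrrCharacter (CU u)) // Cfsg.IsPBlock M g} := Fintype.ofFinite _
  rw [sum_BI_eq u fun ε => ε]
  simp only [elF]
  rw [← map_sum, sum_blockIdem hM, map_one]

theorem eq_sum_th (hM : Cfsg.IsPModular p M) (f : G → ℂ) (u s : G) :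
    f (u * s) = ∑ ε ∈ BI M u, th f u ε s := by
  simp only [th]
  rw [← evalChar_sum, ← Finset.mul_sum, sum_BI hM, mul_one, evalChar_single, one_mul]

section StarParts

variable {P : Subgroup G} {e : Set (Cfsg.IrrCharacter (Subgroup.centralizer (P : Set G)))}

theorem star_mul_wt (hM : Cfsg.IsPModular p M) (η : P → ℂ) (f : G → ℂ) {u : G}
    (hu : ∃ k : ℕ, orderOf u = p ^ k) {s : G} (hs : s ∈ regAt p u) :
    star hM (wt p M e η) f (u * s) = ∑ ε ∈ BI M u, hat p M e η u ε * th f u ε s := by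
  obtain ⟨h1, h2⟩ := mem_regAt.1 hs
  rw [star_eq hM _ f (x := u) ⟨s, rfl, h1, hu, h2⟩, wt, Finset.mul_sum, evalChar_sum]
  exact Finset.sum_congr rfl fun ε _ => by rw [mul_smul_comm, evalChar_smul, th]

/-- The parts of a product. -/
theorem th_star (hM : Cfsg.IsPModular p M) {η : P → ℂ} {f : G → ℂ}
    (hf : Cfsg.IsClassFunction G f) (hsf : Cfsg.IsClassFunction G (star hM (wt p M e η) f))
    {u : G} (hu : ∃ k : ℕ, orderOf u = p ^ k) {ε : MonoidAlgebra ℂ G} (hε : ε ∈ BI M u) {s : G}
    (hs : s ∈ regAt p u) :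
    th (star hM (wt p M e η) f) u ε s = hat p M e η u ε * th f u ε s := by
  classical
  obtain ⟨h1, h2⟩ := mem_regAt.1 hs
  obtain ⟨g, hg, rfl⟩ := mem_BI.1 hε
  have hsC : s ∈ CU u := mem_CU_of_commute h1
  have hs' : ¬ p ∣ orderOf (⟨s, hsC⟩ : CU u) := by rwa [Subgroup.orderOf_mk]
  haveI : Fintype {g : Set (Cfsg.IrrCharacter (CU u)) // Cfsg.IsPBlock M g} := Fintype.ofFinite _
  set T := (Finset.univ : Finset {g : Set (Cfsg.IrrCharacter (CU u)) // Cfsg.IsPBlock M g})
  have hreg : ∀ c : CU u, ¬ p ∣ orderOf c → shiftCU (star hM (wt p M e η) f) u c =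
      ∑ g' ∈ T, hat p M e η u (elF (CU u) g'.1) * Cfsg.blockPart g'.1 (shiftCU f u) c := by
    intro c hc
    rw [shiftCU, star_mul_wt hM η f hu (mem_regAt.2 ⟨commute_of_mem_CU c.2, by
      rwa [Subgroup.orderOf_coe]⟩), sum_BI_eq u]
    exact Finset.sum_congr rfl fun g' _ => by rw [← th_eq hf]
  rw [show s = ((⟨s, hsC⟩ : CU u) : G) from rfl, th_eq hsf, th_eq hf,
    blockPart_congr_reg hM hg hreg hs', blockPart_sum_smul,
    Finset.sum_eq_single_of_mem (⟨g, hg⟩ : {g // Cfsg.IsPBlock M g}) (Finset.mem_univ _)]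
  · rw [blockPart_blockPart hM hg hg, if_pos rfl]
  · intro g' _ hne
    rw [blockPart_blockPart hM hg g'.2, if_neg fun h => hne (Subtype.ext h.symm), mul_zero]

/-- Characters of `B` have no part at a pair outside `B`. -/
theorem th_eq_zero (hM : Cfsg.IsPModular p M) {B : Set (Cfsg.IrrCharacter G)}
    (hB : Cfsg.IsPBlock M B) {χ : Cfsg.IrrCharacter G} (hχ : χ ∈ B) {u : G}
    (hu : ∃ k : ℕ, orderOf u = p ^ k) {g : Set (Cfsg.IrrCharacter (CU u))}
    (hg : Cfsg.IsPBlock M g) (hn : ¬ Cfsg.IsBrauerPairOf p M B (Subgroup.zpowers u) g) {s : G}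
    (hs : s ∈ regAt p u) : th (χ : G → ℂ) u (elF (CU u) g) s = 0 := by
  obtain ⟨h1, h2⟩ := mem_regAt.1 hs
  have he := central_blockIdem B
  have hei := intEl_blockIdem hM hB
  have hP : IsPGroup p (Subgroup.zpowers u) := zpowers_isPGroup hu
  set eB := blockIdem B
  set ε := elF (CU u) g with hεdef
  set E := eB * ε with hE
  have hεi : IntEl M ε := intEl_elF hM hg
  have hid : E * E = E := by
    rw [hE, mul_assoc, ← mul_assoc ε, ← (central_commute he ε).eq, mul_assoc eB ε ε,
      elF_mul_self, ← mul_assoc, blockIdem_mul_self]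
  have hinvC : InvBy ((CU u : Subgroup G) : Set G) E := invBy_iff_commute.2 fun c hc =>
    (central_commute he _).symm.mul_right (invBy_iff_commute.1 (invBy_elF_self g) c hc)
  have hcen : IsCentralEl (br (Subgroup.zpowers u) eB) := central_br (invBy_blockIdem B _)
  set w := blockIdem g * br (Subgroup.zpowers u) eB with hw
  have hwi : IntEl M w := intEl_mul hM (intEl_blockIdem hM hg) (intEl_restrEl _ hei)
  have hwid : CongEl M (w * w) w := by
    have e1 : w * w = (blockIdem g * blockIdem g) *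
        (br (Subgroup.zpowers u) eB * br (Subgroup.zpowers u) eB) := by
      rw [hw, mul_assoc, ← mul_assoc (br (Subgroup.zpowers u) eB) (blockIdem g),
        ← (central_commute (central_blockIdem g) (br (Subgroup.zpowers u) eB)).eq]
      noncomm_ring
    rw [e1, blockIdem_mul_self]
    refine congEl_mul hM (congEl_refl hM _) ?_ (intEl_blockIdem hM hg) (intEl_restrEl _ hei)
    have h := br_mul hM hP hei hei (invBy_blockIdem B _) (invBy_blockIdem B _)
    rw [blockIdem_mul_self] at h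
    exact congEl_symm hM h
  have hwI : IdealEl M w := idealEl_of_omega hM (central_mul (central_blockIdem g) hcen) hwi hwid
    fun ξ => by
      rw [omega_mul ξ (central_blockIdem g)]
      by_cases hξ : ξ ∈ g
      swap
      · rw [omega_blockIdem_notMem hξ, zero_mul]; exact ideal_zero hM
      rw [omega_blockIdem_mem hξ, one_mul]
      by_contra hne
      refine hn ⟨⟨hP, hg⟩, hB, fun η hη => ?_⟩
      rw [brauerOmega_block]
      have hm := omega_br_mul hM hP ξ hei hei (invBy_blockIdem B _) (invBy_blockIdem B _)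
        (invBy_blockIdem B _) (invBy_blockIdem B _)
        (by rw [blockIdem_mul_self]; exact invBy_blockIdem _ _)
      rw [blockIdem_mul_self] at hm
      exact cong_at_member hM hg hξ hη hei (invBy_blockIdem B _)
        (cong_one_of_idem hM (omega_br_ring hM ξ hei (invBy_blockIdem B _)) (cong_symm hM hm) hne)
  have hcut : IdealEl M (cutEl (Subgroup.zpowers u) E) := by
    have hfe : IsFix M (Subgroup.zpowers u) ⊤ eB :=
      ⟨hei, invBy_blockIdem B _, fun g hg => absurd (Subgroup.mem_top g) hg⟩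
    have h3 := congEl_trans hM (cut_mul hM hP le_rfl hfe
      ((isFix_elF_self hM hg).mono le_rfl le_top)) (congEl_of_eq hM (?_ : _ = inclEl (CU u) w))
    · exact congEl_zero_iff.1 (congEl_trans hM h3 (congEl_zero_iff.2 (idealEl_inclEl hM _ hwI)))
    · rw [cutEl_of_supp (isFix_elF_self hM hg).supp,
        ← (commute_of_supp (invBy_elF_self g) fun _ => cutEl_coeff_notMem eB).eq, hw, map_mul,
        inclEl_br]
      rfl
  have hzero := evalChar_single_mul_eq_zero hM (intEl_mul hM hei hεi) hid (g₀ := u * s) (x := u)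
    ⟨s, rfl, h1, hu, h2⟩ (fun v hv => by
      refine hinvC v (mem_CU_of_commute ?_)
      obtain ⟨y, hy, hcy, ⟨k, hk⟩, hyo⟩ := (⟨s, rfl, h1, hu, h2⟩ : Cfsg.IsPPart p (u * s) u)
      have := (isPPart_conj (⟨s, rfl, h1, hu, h2⟩ : Cfsg.IsPPart p (u * s) u) v)
      rw [hv.eq, mul_inv_cancel_right] at this
      exact ((mul_inv_eq_iff_eq_mul).1 (ppart_unique hM.1 this ⟨s, rfl, h1, hu, h2⟩)).symm)
    (fun c hc => by
      have := hcut c
      rwa [cutEl_coeff_mem _ (mem_centralizer_zpowers.2 hc)] at this) χ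
  calc th (χ : G → ℂ) u ε s
      = omega (χ : G → ℂ) eB * evalChar (χ : G → ℂ) (ε * single (u * s) 1) := by
        rw [omega_blockIdem_mem hχ, one_mul, th, evalChar_mul_comm (irr_isClassFunction χ)]
    _ = evalChar (χ : G → ℂ) (E * single (u * s) 1) := by
        rw [← evalChar_central_mul χ he, ← mul_assoc]
    _ = 0 := by rw [evalChar_mul_comm (irr_isClassFunction χ)]; exact hzero

end StarParts

/-! ### Sums over the group -/

variable (p) in
/-- The `p`-elements. -/
noncomputable def pEls (G : Type u) [Group G] [Finite G] : Finset G :=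
  (Set.toFinite {u : G | ∃ k : ℕ, orderOf u = p ^ k}).toFinset

theorem mem_pEls {u : G} : u ∈ pEls p G ↔ ∃ k : ℕ, orderOf u = p ^ k := by simp [pEls]

theorem sum_sections [Fintype G] (hp : p.Prime) (F : G → ℂ) :
    ∑ g : G, F g = ∑ u ∈ pEls p G, ∑ s ∈ regAt p u, F (u * s) := by
  classical
  have h := ZStar.Sections.sum_section hp (pEls p G) (fun x hx => mem_pEls.1 hx) F
  rw [Finset.filter_true_of_mem] at h
  · rw [h]
    refine Finset.sum_congr rfl fun u _ => Finset.sum_congr ?_ fun _ _ => rfl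
    ext s
    simp [mem_regAt]
  · intro g _
    obtain ⟨x, hx⟩ := exists_ppart hp g
    obtain ⟨-, -, -, hk, -⟩ := id hx
    exact ⟨x, mem_pEls.2 hk, hx⟩

variable (p) in
/-- The regular pairing of two class functions at a pair. -/
noncomputable def pairing (f f' : G → ℂ) (u : G) (ε : MonoidAlgebra ℂ G) : ℂ :=
  ∑ s ∈ regAt p u, th f u ε s * conj (th f' u ε s)

theorem sum_mul_sum_reg (hM : Cfsg.IsPModular p M) {f f' : G → ℂ}
    (hf : Cfsg.IsClassFunction G f) (hf' : Cfsg.IsClassFunction G f') (u : G)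
    (a a' : MonoidAlgebra ℂ G → ℂ) :
    ∑ s ∈ regAt p u, (∑ ε ∈ BI M u, a ε * th f u ε s) * conj (∑ ε ∈ BI M u, a' ε * th f' u ε s) =
      ∑ ε ∈ BI M u, a ε * conj (a' ε) * pairing p f f' u ε := by
  simp only [map_sum, map_mul, Finset.sum_mul, Finset.mul_sum]
  rw [Finset.sum_comm]
  refine Finset.sum_congr rfl fun ε hε => ?_
  rw [Finset.sum_comm, Finset.sum_eq_single_of_mem ε hε]
  · rw [pairing, Finset.mul_sum]
    exact Finset.sum_congr rfl fun s _ => by ring
  · intro ε' hε' hne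
    rw [← mul_zero (a ε' * conj (a' ε)), ← sum_th_cross hM hf hf' hε' hε hne,
      Finset.mul_sum]
    exact Finset.sum_congr rfl fun s _ => by ring

/-- The inner product of two products, over the pairs. -/
theorem classInner_star [Fintype G] (hM : Cfsg.IsPModular p M) {P : Subgroup G}
    {e : Set (Cfsg.IrrCharacter (Subgroup.centralizer (P : Set G)))} (η η' : P → ℂ) {f f' : G → ℂ}
    (hf : Cfsg.IsClassFunction G f) (hf' : Cfsg.IsClassFunction G f') :
    Cfsg.classInner (star hM (wt p M e η) f) (star hM (wt p M e η') f') = (Nat.card G : ℂ)⁻¹ *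
      ∑ u ∈ pEls p G, ∑ ε ∈ BI M u,
        hat p M e η u ε * conj (hat p M e η' u ε) * pairing p f f' u ε := by
  rw [classInner_def, sum_sections hM.1]
  congr 1
  refine Finset.sum_congr rfl fun u hu => ?_
  rw [← sum_mul_sum_reg hM hf hf']
  exact Finset.sum_congr rfl fun s hs => by
    rw [star_mul_wt hM η f (mem_pEls.1 hu) hs, star_mul_wt hM η' f' (mem_pEls.1 hu) hs]

end Cfsg.Agent.Blocks.Star
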