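import Mathlib
import Cfsg.Agent.Lib.Blocks.Star.Parts

/-!
# Products inside a block: twisting by stable linear characters
-/

set_option linter.style.haveILetI false
set_option linter.unusedSectionVars false

namespace Cfsg.Agent.Blocks.Star

open Cfsg.Agent.Blocks Cfsg.Agent.Characters
open Cfsg.Agent.BlockCharsA.BrauerPairs Cfsg.Agent.BlockCharsA.PairConj
open MonoidAlgebra
open scoped ComplexConjugate

universe u

variable {G : Type u} [Group G] [Finite G] {p : ℕ} {M : Ideal Cfsg.AlgInt}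
  {B : Set (Cfsg.IrrCharacter G)} {P : Subgroup G}
  {e : Set (Cfsg.IrrCharacter (Subgroup.centralizer (P : Set G)))}

theorem isPGroup_top (hmax : Cfsg.IsMaximalBrauerPair p M B P e) : IsPGroup p P := hmax.1.1.1

theorem orderOf_top (hM : Cfsg.IsPModular p M) (hmax : Cfsg.IsMaximalBrauerPair p M B P e)
    (v : P) : ∃ k : ℕ, orderOf (v : G) = p ^ k :=
  exists_orderOf_coe hM (isPGroup_top hmax) v

/-- A pair is named by a witness exactly when it belongs to the block. -/
theorem witness_iff (hM : Cfsg.IsPModular p M) (hmax : Cfsg.IsMaximalBrauerPair p M B P e) {u : G}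
    (hu : ∃ k : ℕ, orderOf u = p ^ k) {g : Set (Cfsg.IrrCharacter (CU u))}
    (hg : Cfsg.IsPBlock M g) :
    (∃ (v : P) (x : G), (v : G) = x * u * x⁻¹ ∧ cjE x (elF (CU u) g) = eps p M e v) ↔
      Cfsg.IsBrauerPairOf p M B (Subgroup.zpowers u) g := by
  constructor
  · rintro ⟨v, x, hv, hε⟩
    obtain ⟨gv, hgv, -, hev⟩ := eps_spec hM hmax v
    have hgvB := (block_of_subpairLE hM (B := B) hgv).2 hmax.1
    have hpair : cjPair x (⟨Subgroup.zpowers u, g⟩ : Cfsg.BrauerPairIdx G) =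
        ⟨Subgroup.zpowers (v : G), gv⟩ := by
      refine idx_ext ((cj_zpowers x _).trans (congrArg Subgroup.zpowers hv.symm)) fun z => ?_
      simp only [cjPair]
      rw [coeff_conjBlock', ← coeff_cjE, hε, hev]
    have key : ∀ a : Cfsg.BrauerPairIdx G, a = cjPair x⁻¹ (⟨Subgroup.zpowers (v : G), gv⟩) →
        Cfsg.IsBrauerPairOf p M B a.1 a.2 := by
      rintro a rfl
      exact isBrauerPairOf_conj hM x⁻¹ hgvB
    exact key ⟨_, g⟩ (by rw [← hpair, cjPair_mul, inv_mul_cancel, cjPair_one])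
  · intro h
    obtain ⟨x, hx⟩ := exists_conj_le hM hmax h
    obtain ⟨g', -, he, hpair⟩ := exists_cj_pair hM (cj_zpowers x u) hg
    have hx' : Relation.ReflTransGen (Cfsg.NormalSubpairRel p M)
        (cjPair x ⟨Subgroup.zpowers u, g⟩) ⟨P, e⟩ := hx
    rw [hpair] at hx'
    have hv : x * u * x⁻¹ ∈ P :=
      (subpairLE_facts hM hx').1 (Subgroup.mem_zpowers _)
    refine ⟨⟨_, hv⟩, x, rfl, ?_⟩
    rw [← he]
    exact (eps_eq hM hmax (⟨_, hv⟩ : P) (g := g') hx').symm

theorem hat_mul (η η' : P → ℂ) (u : G) (ε : MonoidAlgebra ℂ G) :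
    hat p M e (η * η') u ε = hat p M e η u ε * hat p M e η' u ε := by
  by_cases h : ∃ (v : P) (x : G), (v : G) = x * u * x⁻¹ ∧ cjE x ε = eps p M e v
  · rw [hat, hat, hat, dif_pos h, dif_pos h, dif_pos h, Pi.mul_apply]
  · rw [hat_of_not h, hat_of_not h, zero_mul]

theorem conj_hat (η : P → ℂ) (u : G) (ε : MonoidAlgebra ℂ G) :
    conj (hat p M e η u ε) = hat p M e (fun v => conj (η v)) u ε := by
  by_cases h : ∃ (v : P) (x : G), (v : G) = x * u * x⁻¹ ∧ cjE x ε = eps p M e v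
  · rw [hat, hat, dif_pos h, dif_pos h]
  · rw [hat_of_not h, hat_of_not h, map_zero]

theorem stable_const (c : ℂ) : Stable p M e (fun _ => c) := fun _ _ _ _ _ => rfl

theorem hat_self (hM : Cfsg.IsPModular p M) (hmax : Cfsg.IsMaximalBrauerPair p M B P e)
    {η : P → ℂ} (hη : Stable p M e η) (v : P) :
    hat p M e η (v : G) (eps p M e v) = η v :=
  hat_eq hη (x := 1) (v := v) (by simp) (by rw [cjE_one])

theorem eps_mem_BI (hM : Cfsg.IsPModular p M) (hmax : Cfsg.IsMaximalBrauerPair p M B P e) (v : P) :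
    eps p M e v ∈ BI M (v : G) := by
  obtain ⟨g, -, hg, he⟩ := eps_spec hM hmax v
  exact mem_BI.2 ⟨g, hg, he.symm⟩

/-- A value that is one on the pairs of the block can be inserted. -/
theorem hat_one_mul_th (hM : Cfsg.IsPModular p M) (hmax : Cfsg.IsMaximalBrauerPair p M B P e)
    {χ : Cfsg.IrrCharacter G} (hχ : χ ∈ B) {u : G} (hu : ∃ k : ℕ, orderOf u = p ^ k)
    {ε : MonoidAlgebra ℂ G} (hε : ε ∈ BI M u) {s : G} (hs : s ∈ regAt p u) :
    hat p M e (fun _ => (1 : ℂ)) u ε * th (χ : G → ℂ) u ε s = th (χ : G → ℂ) u ε s := by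
  obtain ⟨g, hg, rfl⟩ := mem_BI.1 hε
  by_cases h : Cfsg.IsBrauerPairOf p M B (Subgroup.zpowers u) g
  · obtain ⟨v, x, hv, he⟩ := (witness_iff hM hmax hu hg).2 h
    rw [hat_eq (stable_const 1) hv he, one_mul]
  · rw [th_eq_zero hM hmax.1.2.1 hχ hu hg h hs, mul_zero]

/-- The product with the constant one. -/
theorem star_one (hM : Cfsg.IsPModular p M) (hmax : Cfsg.IsMaximalBrauerPair p M B P e)
    {χ : Cfsg.IrrCharacter G} (hχ : χ ∈ B) :
    star hM (wt p M e fun _ => (1 : ℂ)) (χ : G → ℂ) = (χ : G → ℂ) := by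
  funext g
  obtain ⟨s, hg, hc, hk, hs⟩ := isPPart_ppt hM g
  have hsr : s ∈ regAt p (ppt hM g) := mem_regAt.2 ⟨hc, hs⟩
  rw [← hg, star_mul_wt hM _ _ hk hsr, eq_sum_th hM (χ : G → ℂ)]
  exact Finset.sum_congr rfl fun ε hε => hat_one_mul_th hM hmax hχ hk hε hsr

/-- At a regular element only the value at one enters. -/
theorem star_regular (hM : Cfsg.IsPModular p M) (hmax : Cfsg.IsMaximalBrauerPair p M B P e)
    {η : P → ℂ} (hη : Stable p M e η) {χ : Cfsg.IrrCharacter G} (hχ : χ ∈ B) {s : G}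
    (hs : ¬ p ∣ orderOf s) :
    star hM (wt p M e η) (χ : G → ℂ) s = η 1 * (χ : G → ℂ) s := by
  have hsr : s ∈ regAt p (1 : G) := mem_regAt.2 ⟨Commute.one_left s, hs⟩
  have h1 : ∃ k : ℕ, orderOf (1 : G) = p ^ k := ⟨0, by simp⟩
  rw [show s = 1 * s from (one_mul s).symm, star_mul_wt hM _ _ h1 hsr, eq_sum_th hM (χ : G → ℂ),
    Finset.mul_sum]
  refine Finset.sum_congr rfl fun ε hε => ?_
  obtain ⟨g, hg, rfl⟩ := mem_BI.1 hε
  by_cases h : Cfsg.IsBrauerPairOf p M B (Subgroup.zpowers (1 : G)) g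
  · obtain ⟨v, x, hv, he⟩ := (witness_iff hM hmax h1 hg).2 h
    rw [hat_eq hη hv he]
    congr 2
    exact Subtype.ext (by rw [hv]; simp)
  · rw [th_eq_zero hM hmax.1.2.1 hχ h1 hg h hsr, mul_zero, mul_zero]

/-- Values at regular elements determine the block. -/
theorem mem_of_reg_eq (hM : Cfsg.IsPModular p M) (hB : Cfsg.IsPBlock M B)
    {χ ψ : Cfsg.IrrCharacter G} (hχ : χ ∈ B) {c : ℂ} (hc : c ≠ 0)
    (h : ∀ s, ¬ p ∣ orderOf s → (ψ : G → ℂ) s = c * (χ : G → ℂ) s) : ψ ∈ B := by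
  haveI := Fintype.ofFinite G
  by_contra hn
  have h1 : evalChar (ψ : G → ℂ) (blockIdem B) = c * evalChar (χ : G → ℂ) (blockIdem B) := by
    rw [evalChar_eq_sum, evalChar_eq_sum, Finset.mul_sum]
    refine Finset.sum_congr rfl fun g _ => ?_
    by_cases hg : p ∣ orderOf g
    · rw [coeff_blockIdem, blockCoeff_eq_zero_of_singular hM (intEl_blockIdem hM hB) hg]
      ring
    · rw [h g hg]; ring
  have h2 := omega_blockIdem_notMem hn
  have h3 := omega_blockIdem_mem hχ
  rw [omega, div_eq_iff (irr_one_ne_zero ψ.2), zero_mul, h1] at h2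
  rw [omega, div_eq_iff (irr_one_ne_zero χ.2), one_mul] at h3
  rw [h3] at h2
  exact mul_ne_zero hc (irr_one_ne_zero χ.2) h2

theorem conj_linear {Q : Type*} [Group Q] [Finite Q] (lam : Q →* ℂ) (v : Q) :
    conj (lam v) = lam v⁻¹ :=
  (char_inv (isCharacter_of_isIrr (isIrrCharacter_monoidHom lam)) v).symm

/-- Twisting by a stable linear character gives a character of the block. -/
theorem exists_twist (hM : Cfsg.IsPModular p M) (hmax : Cfsg.IsMaximalBrauerPair p M B P e)
    (lam : P →* ℂ) (hlam : Stable p M e fun v => lam v) {χ : Cfsg.IrrCharacter G} (hχ : χ ∈ B) :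
    ∃ ψ : Cfsg.IrrCharacter G, ψ ∈ B ∧
      (ψ : G → ℂ) = star hM (wt p M e fun v => lam v) (χ : G → ℂ) ∧
      (ψ : G → ℂ) 1 = (χ : G → ℂ) 1 := by
  haveI := Fintype.ofFinite G
  haveI := Fintype.ofFinite P
  have hW := weightSys hM hmax (η := fun v => lam v)
    (isGen_of_isCharacter (isCharacter_of_isIrr (isIrrCharacter_monoidHom lam))) hlam
  set f := star hM (wt p M e fun v => lam v) (χ : G → ℂ)
  have hgen : Cfsg.IsGeneralizedCharacter G f := isGen_star hM hW (irr_isCharacter χ)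
  have hnorm : Cfsg.classInner f f = 1 := by
    rw [classInner_star hM _ _ (irr_isClassFunction χ) (irr_isClassFunction χ)]
    calc _ = Cfsg.classInner (star hM (wt p M e fun _ => (1 : ℂ)) (χ : G → ℂ))
          (star hM (wt p M e fun _ => (1 : ℂ)) (χ : G → ℂ)) := by
          rw [classInner_star hM _ _ (irr_isClassFunction χ) (irr_isClassFunction χ)]
          congr 1
          refine Finset.sum_congr rfl fun u _ => Finset.sum_congr rfl fun ε _ => ?_
          congr 1
          rw [conj_hat, conj_hat, ← hat_mul, ← hat_mul]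
          congr 1
          funext v
          simp only [Pi.mul_apply, map_one, mul_one, conj_linear, ← map_mul, mul_inv_cancel]
      _ = 1 := by rw [star_one hM hmax hχ, classInner_irr, if_pos rfl]
  have hreg : ∀ s, ¬ p ∣ orderOf s → f s = (χ : G → ℂ) s := fun s hs => by
    show star hM (wt p M e fun v => lam v) (χ : G → ℂ) s = _
    rw [star_regular hM hmax hlam hχ hs, map_one, one_mul]
  have h1 : f 1 = (χ : G → ℂ) 1 := hreg 1 (by simp [hM.1.ne_one])
  rcases isGen_norm_one hgen hnorm with h | h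
  · exact ⟨⟨f, h⟩, mem_of_reg_eq hM hmax.1.2.1 hχ one_ne_zero fun s hs => by
      rw [one_mul]; exact hreg s hs, rfl, h1⟩
  · exfalso
    obtain ⟨a, ha, haf⟩ := irr_one_pos h
    obtain ⟨b, hb, hbχ⟩ := irr_one_pos χ.2
    rw [Pi.neg_apply, h1, hbχ] at haf
    have : ((a + b : ℕ) : ℂ) = 0 := by push_cast; rw [← haf]; ring
    rw [Nat.cast_eq_zero] at this
    omega

/-- Two twists compose. -/
theorem star_star (hM : Cfsg.IsPModular p M) (η η' : P → ℂ) {f : G → ℂ}
    (hf : Cfsg.IsClassFunction G f) (hsf : Cfsg.IsClassFunction G (star hM (wt p M e η) f)) :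
    star hM (wt p M e η') (star hM (wt p M e η) f) = star hM (wt p M e (η' * η)) f := by
  funext g
  obtain ⟨s, hg, hc, hk, hs⟩ := isPPart_ppt hM g
  have hsr : s ∈ regAt p (ppt hM g) := mem_regAt.2 ⟨hc, hs⟩
  rw [← hg, star_mul_wt hM _ _ hk hsr, star_mul_wt hM _ _ hk hsr]
  refine Finset.sum_congr rfl fun ε hε => ?_
  rw [th_star hM hf hsf hk hε hsr, hat_mul, mul_assoc]

end Cfsg.Agent.Blocks.Star
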