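import Mathlib
import Cfsg.Agent.Lib.Blocks.InducedChars
import Cfsg.Agent.Lib.Blocks.MajorSubsection
import Cfsg.Agent.Lib.Blocks.Star.InB

/-!
# A height-zero character has a part at every pair of its block
-/

set_option linter.style.haveILetI false
set_option linter.unusedSectionVars false

namespace Cfsg.Agent.Blocks.Star

open Cfsg.Agent.Blocks Cfsg.Agent.Characters
open Cfsg.Agent.BlockCharsA.BrauerPairs Cfsg.Agent.BlockCharsA.RegularPart
open MonoidAlgebra
open scoped ComplexConjugate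

universe u

variable {G : Type u} [Group G] [Finite G] {p : ℕ} {M : Ideal Cfsg.AlgInt}

/-- The central character of a pair of `B` at the Brauer image is that of `B`. -/
theorem omega_br_cong (hM : Cfsg.IsPModular p M) {B : Set (Cfsg.IrrCharacter G)} {Q : Subgroup G}
    {g : Set (Cfsg.IrrCharacter (Subgroup.centralizer (Q : Set G)))}
    (h : Cfsg.IsBrauerPairOf p M B Q g) {ξ : Cfsg.IrrCharacter (Subgroup.centralizer (Q : Set G))}
    (hξ : ξ ∈ g) {χ : Cfsg.IrrCharacter G} (hχ : χ ∈ B) {z : MonoidAlgebra ℂ G}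
    (hz : IsCentralEl z) (hzi : IntEl M z) :
    Cong M (omega (ξ : Subgroup.centralizer (Q : Set G) → ℂ) (br Q z)) (omega (χ : G → ℂ) z) := by
  obtain ⟨⟨hQ, -⟩, hB, hω⟩ := h
  have hω1 := hω ξ hξ
  rw [brauerOmega_block] at hω1
  set a := omega (χ : G → ℂ) z
  have hinv : ∀ {w : MonoidAlgebra ℂ G} (S : Set G), IsCentralEl w → InvBy S w :=
    fun S hw v _ x => hw x v
  have hbr : IsCentralEl (br Q z) := central_br (hinv _ hz)
  have ha : Cfsg.MemLocalRing M a := omega_ring hM χ hz hzi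
  set eB := blockIdem B
  have he := central_blockIdem B
  have hei := intEl_blockIdem hM hB
  set w := eB * (z - a • (1 : MonoidAlgebra ℂ G)) with hw
  have hz1 : IsCentralEl (z - a • (1 : MonoidAlgebra ℂ G)) :=
    central_sub hz (central_smul a central_one)
  have hwi : IntEl M w := intEl_mul hM hei (intEl_sub hM hzi (intEl_smul hM ha (intEl_one hM)))
  have hwc : IsCentralEl w := central_mul he hz1
  have hωw : ∀ ψ : Cfsg.IrrCharacter G, Cfsg.MemLocalIdeal M (omega (ψ : G → ℂ) w) := fun ψ => by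
    rw [hw, omega_mul ψ he]
    by_cases hψ : ψ ∈ B
    · rw [omega_blockIdem_mem hψ, one_mul, omega_sub, omega_smul,
        omega_one (irr_one_ne_zero ψ.2), mul_one]
      exact omega_cong_of_mem hM hB hψ hχ hz hzi
    · rw [omega_blockIdem_notMem hψ, zero_mul]; exact ideal_zero hM
  obtain ⟨n, hn⟩ := exists_pow_idealEl hM hwc hωw
  have hpow : ∀ k : ℕ, CongEl M (br Q (w ^ k)) (br Q w ^ k) := by
    intro k
    induction k with
    | zero => simpa [br, restrEl_one] using congEl_refl hM (1 : MonoidAlgebra ℂ _)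
    | succ k ih =>
      rw [pow_succ, pow_succ]
      exact congEl_trans hM (br_mul hM hQ (intEl_pow hM hwi k) hwi (hinv _ (central_pow hwc k))
        (hinv _ hwc)) (congEl_mul hM ih (congEl_refl hM _)
          (intEl_pow hM (intEl_restrEl _ hwi) k) (intEl_restrEl _ hwi))
  have hbw : IsCentralEl (br Q w) := central_br (hinv _ hwc)
  have h1 : IdealEl M (br Q w ^ (n + 1)) := by
    refine congEl_zero_iff.1 (congEl_trans hM (congEl_symm hM (hpow (n + 1))) ?_)
    exact congEl_zero_iff.2 fun c => by rw [br, coeff_restrEl]; exact hn (n + 1) n.le_succ _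
  have h2 : Cfsg.MemLocalIdeal M (omega (ξ : Subgroup.centralizer (Q : Set G) → ℂ) (br Q w)) := by
    have h := omega_ideal hM ξ (central_pow hbw (n + 1)) h1
    rw [omega_pow ξ hbw] at h
    have hr : Cfsg.MemLocalRing M (omega (ξ : Subgroup.centralizer (Q : Set G) → ℂ) (br Q w)) :=
      omega_ring hM ξ hbw (intEl_restrEl _ hwi)
    have key : ∀ k : ℕ, Cfsg.MemLocalIdeal M
        ((omega (ξ : Subgroup.centralizer (Q : Set G) → ℂ) (br Q w)) ^ (k + 1)) →
        Cfsg.MemLocalIdeal M (omega (ξ : Subgroup.centralizer (Q : Set G) → ℂ) (br Q w)) := by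
      intro k hk
      induction k with
      | zero => simpa using hk
      | succ k ih =>
        rw [pow_succ, ideal_mul_iff hM (ring_pow hM hr _) hr] at hk
        exact hk.elim ih id
    exact key n h
  -- unfold `w`
  have hm := omega_br_mul hM hQ ξ hei (intEl_sub hM hzi (intEl_smul hM ha (intEl_one hM)))
    (hinv _ he) (hinv _ hz1) (hinv _ he) (hinv _ hz1) (hinv _ hwc)
  have hsub : br Q (z - a • (1 : MonoidAlgebra ℂ G)) = br Q z - a • 1 := by
    refine el_ext fun c => ?_
    rw [br, coeff_restrEl, MonoidAlgebra.coeff_sub, MonoidAlgebra.coeff_sub, Finsupp.sub_apply,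
      Finsupp.sub_apply, br, coeff_restrEl, MonoidAlgebra.coeff_smul_apply,
      MonoidAlgebra.coeff_smul_apply, ← coeff_restrEl (Subgroup.centralizer (Q : Set G)) 1 c,
      restrEl_one]
  rw [hsub, omega_sub, omega_smul, omega_one (irr_one_ne_zero ξ.2), mul_one] at hm
  have h3 := (ideal_iff_of_cong hM hm).1 h2
  rw [ideal_mul_iff hM (omega_br_ring hM ξ hei (hinv _ he))
    (ring_sub hM (omega_br_ring hM ξ hzi (hinv _ hz)) ha)] at h3
  exact h3.resolve_left fun h4 => not_ideal_one hM ((ideal_iff_of_cong hM hω1).1 h4)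

variable [Fintype G]

/-- The pairing of a height-zero character with a member of a pair of its block is a unit. -/
theorem pairing_unit (hM : Cfsg.IsPModular p M) {B : Set (Cfsg.IrrCharacter G)} {u : G}
    (hu : ∃ k : ℕ, orderOf u = p ^ k) {g : Set (Cfsg.IrrCharacter (CU u))}
    (h : Cfsg.IsBrauerPairOf p M B (Subgroup.zpowers u) g) {χ : Cfsg.IrrCharacter G} (hχ : χ ∈ B)
    (h0 : Cfsg.blockHeight p B (χ : G → ℂ) = 0) {ξ : Cfsg.IrrCharacter (CU u)} (hξ : ξ ∈ g) :
    Cfsg.MemLocalRing M (regSum p (shiftCU (χ : G → ℂ) u) (ξ : CU u → ℂ) / (ξ : CU u → ℂ) 1) ∧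
      ¬ Cfsg.MemLocalIdeal M
        (regSum p (shiftCU (χ : G → ℂ) u) (ξ : CU u → ℂ) / (ξ : CU u → ℂ) 1) := by
  classical
  haveI := Fintype.ofFinite (CU u)
  obtain ⟨k, hk⟩ := hu
  have huk : u ^ p ^ k = 1 := hk ▸ pow_orderOf_eq_one u
  set z := regEl p (χ : G → ℂ)
  have hz : IsCentralEl z := central_regEl (irr_isClassFunction χ)
  have hzi : IntEl M z := intEl_regEl hM (irr_isCharacter χ)
  set z' : MonoidAlgebra ℂ (CU u) := ofFun fun c =>
    if p ∣ orderOf c then 0 else (χ : G → ℂ) (u * ((c⁻¹ : CU u) : G)) with hz'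
  have hcoe : ∀ c, z'.coeff c = if p ∣ orderOf c then 0 else shiftCU (χ : G → ℂ) u c⁻¹ := fun c => by
    rw [hz', coeff_ofFun]; rfl
  have hz'c : IsCentralEl z' := fun c a => by
    rw [hcoe, hcoe]
    simp only [orderOf_conj']
    rw [show (a * c * a⁻¹)⁻¹ = a * c⁻¹ * a⁻¹ by group,
      isClassFunction_shiftCU (irr_isClassFunction χ) u c⁻¹ a]
  have hz'i : IntEl M z' := fun c => by
    rw [hcoe]
    split
    · exact ring_zero hM
    · exact ring_of_isIntegral hM (char_value_isIntegral (irr_isCharacter χ) _)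
  have hcong : CongEl M z' (br (Subgroup.zpowers u) z) := congEl_iff.2 fun c => by
    rw [hcoe, br, coeff_restrEl, coeff_regEl, Subgroup.orderOf_coe]
    by_cases hc : p ∣ orderOf c
    · rw [if_pos hc, if_pos hc]; exact cong_refl hM 0
    · rw [if_neg hc, if_neg hc, ← Subgroup.coe_inv]
      exact char_cong_of_commute hM χ (commute_of_mem_CU (c⁻¹).2) huk
        (by rwa [Subgroup.orderOf_coe, orderOf_inv])
  have he : omega (ξ : CU u → ℂ) z' =
      regSum p (shiftCU (χ : G → ℂ) u) (ξ : CU u → ℂ) / (ξ : CU u → ℂ) 1 := by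
    rw [omega, evalChar_eq_sum, regSum_eq_sum]
    congr 1
    refine Fintype.sum_equiv (Equiv.inv _) _ _ fun c => ?_
    rw [hcoe, Equiv.inv_apply, orderOf_inv]
    by_cases hc : p ∣ orderOf c
    · rw [if_pos hc, if_neg (not_not.2 hc), zero_mul]
    · rw [if_neg hc, if_pos hc, ← char_inv (irr_isCharacter ξ), inv_inv]
  rw [← he]
  refine ⟨omega_ring hM ξ hz'c hz'i, fun hid => ?_⟩
  have h1 := cong_trans hM (omega_cong hM ξ hz'c (central_br fun v _ x => hz x v) hcong)
    (omega_br_cong hM h hξ hχ hz hzi)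
  exact omega_regEl_unit hM h.2.1 hχ hχ h0 ((ideal_iff_of_cong hM h1).1 hid)

/-- The pairing only sees the part at the block. -/
theorem regSum_shift_eq (hM : Cfsg.IsPModular p M) {u : G}
    {g : Set (Cfsg.IrrCharacter (CU u))} (hg : Cfsg.IsPBlock M g) {f : G → ℂ}
    (hf : Cfsg.IsClassFunction G f) {ξ : Cfsg.IrrCharacter (CU u)} (hξ : ξ ∈ g) :
    regSum p (shiftCU f u) (ξ : CU u → ℂ) =
      regSum p (fun c : CU u => th f u (elF (CU u) g) (c : G)) (ξ : CU u → ℂ) := by
  classical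
  haveI := Fintype.ofFinite (CU u)
  haveI : Fintype {g : Set (Cfsg.IrrCharacter (CU u)) // Cfsg.IsPBlock M g} := Fintype.ofFinite _
  have hξp : (ξ : CU u → ℂ) = Cfsg.blockPart g (ξ : CU u → ℂ) := funext fun c => by
    rw [blockPart_irr, if_pos hξ]
  have hexp : ∀ c : CU u, shiftCU f u c =
      ∑ g' : {g : Set (Cfsg.IrrCharacter (CU u)) // Cfsg.IsPBlock M g},
        th f u (elF (CU u) g'.1) (c : G) := fun c => by
    rw [shiftCU, eq_sum_th hM f, sum_BI_eq u]
  simp only [regSum_eq_sum, hexp, Finset.sum_mul, ← Finset.sum_filter]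
  rw [Finset.sum_comm, Finset.sum_eq_single_of_mem (⟨g, hg⟩ : {g // Cfsg.IsPBlock M g})
    (Finset.mem_univ _)]
  intro g' _ hne
  have h0 := regSum_blockPart hM g'.2 hg (fun e => hne (Subtype.ext e)) (shiftCU f u)
    (ξ : CU u → ℂ)
  rw [regSum_eq_sum, ← hξp, ← Finset.sum_filter] at h0
  rw [← h0]
  exact Finset.sum_congr rfl fun c _ => by rw [th_eq hf]

/-- A height-zero character has a part at every pair of its block. -/
theorem exists_th_ne_zero (hM : Cfsg.IsPModular p M) {B : Set (Cfsg.IrrCharacter G)} {u : G}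
    (hu : ∃ k : ℕ, orderOf u = p ^ k) {g : Set (Cfsg.IrrCharacter (CU u))}
    (h : Cfsg.IsBrauerPairOf p M B (Subgroup.zpowers u) g) {χ : Cfsg.IrrCharacter G} (hχ : χ ∈ B)
    (h0 : Cfsg.blockHeight p B (χ : G → ℂ) = 0) :
    ∃ s ∈ regAt p u, th (χ : G → ℂ) u (elF (CU u) g) s ≠ 0 := by
  classical
  by_contra hcon
  push Not at hcon
  haveI := Fintype.ofFinite (CU u)
  obtain ⟨ξ, hξ⟩ := block_nonempty hM h.1.2
  refine (pairing_unit hM hu h hχ h0 hξ).2 ?_
  rw [regSum_shift_eq hM h.1.2 (irr_isClassFunction χ) hξ, regSum_eq_sum,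
    Finset.sum_eq_zero fun c _ => ?_, zero_div]
  · exact ideal_zero hM
  split
  · next hc =>
    rw [hcon _ (mem_regAt.2 ⟨commute_of_mem_CU c.2, by rwa [Subgroup.orderOf_coe]⟩), zero_mul]
  · rfl

end Cfsg.Agent.Blocks.Star
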