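import Mathlib
import Cfsg.Agent.BlockCharsA.PairLocal
import Cfsg.Agent.BlockCharsA.PairMax
import Cfsg.Agent.Lib.Blocks.Star.Unit

/-!
# Every character has a part at a pair of full defect
-/

set_option linter.style.haveILetI false
set_option linter.unusedSectionVars false

namespace Cfsg.Agent.Blocks.Star

open Cfsg.Agent.Blocks Cfsg.Agent.Characters
open Cfsg.Agent.BlockCharsA.BrauerPairs
open MonoidAlgebra
open scoped ComplexConjugate

universe u

variable {G : Type u} [Group G] [Finite G] {p : ℕ} {M : Ideal Cfsg.AlgInt}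

/-- A pair below a maximal one on an element centralising the defect group has full defect. -/
theorem blockDefect_of_central (hM : Cfsg.IsPModular p M) {B : Set (Cfsg.IrrCharacter G)}
    {P : Subgroup G} {e : Set (Cfsg.IrrCharacter (Subgroup.centralizer (P : Set G)))}
    (hmax : Cfsg.IsMaximalBrauerPair p M B P e) {v : G}
    (hv : v ∈ Subgroup.centralizer (P : Set G)) {g : Set (Cfsg.IrrCharacter (CU v))}
    (hg : Cfsg.IsPBlock M g) (hle : Cfsg.SubpairLE p M (Subgroup.zpowers v) g P e) :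
    Cfsg.blockDefect p g = Cfsg.blockDefect p B := by
  have hp := hM.1
  have hP := BlockCharsA.PairMax.isDefectGroup_of_maximal hM hmax
  have hcP := card_defectGroup hM hmax.1.2.1 hP
  have hPC : P ≤ CU v := fun x hx => mem_CU_of_commute (Subgroup.mem_centralizer_iff.1 hv x hx).symm
  have hpair : Cfsg.IsBrauerPairOf p M B (Subgroup.zpowers v) g :=
    (block_of_subpairLE hM hle).2 hmax.1
  refine le_antisymm ?_ ?_
  · obtain ⟨x, D, hD, hDP, -⟩ := BlockCharsA.PairLocal.exists_conj_card_eq hM le_rfl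
      BlockCharsA.PairLocal.centralizer_le_stab hg BlockCharsA.PairLocal.coeff_self hmax hpair
    have h := Subgroup.card_le_of_le (hDP.trans inf_le_left)
    rw [hcP, BlockCharsA.PairConj.cj, Subgroup.card_map_of_injective (MulEquiv.injective _),
      Subgroup.card_map_of_injective (CU v).subtype_injective, card_defectGroup hM hg hD] at h
    exact (Nat.pow_le_pow_iff_right hp.one_lt).1 h
  · have h := (BlockCharsA.PairLocal.card_inf_le hM le_rfl
      BlockCharsA.PairLocal.centralizer_le_stab hg BlockCharsA.PairLocal.coeff_self hmax.1.1 hle).2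
    rw [show P ⊓ Subgroup.centralizer ((Subgroup.zpowers v : Subgroup G) : Set G) = P from
      inf_of_le_left hPC, hcP] at h
    exact (Nat.pow_le_pow_iff_right hp.one_lt).1 h

variable [Fintype G]

/-- A positive integer quotient of equal valuations is a unit. -/
theorem not_ideal_mul_div (hM : Cfsg.IsPModular p M) {n m : ℕ} (hn : n ≠ 0) (hm : m ≠ 0)
    (hv : n.factorization p = m.factorization p) {x : ℂ} (hx : Cfsg.MemLocalRing M x)
    (hxu : ¬ Cfsg.MemLocalIdeal M x) : ¬ Cfsg.MemLocalIdeal M ((n : ℂ) / m * x) := by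
  have hp := hM.1
  obtain ⟨k, n', hn', rfl⟩ := Nat.exists_eq_pow_mul_and_not_dvd hn p hp.ne_one
  obtain ⟨l, m', hm', rfl⟩ := Nat.exists_eq_pow_mul_and_not_dvd hm p hp.ne_one
  have hkl : k = l := by
    rw [Nat.factorization_mul (pow_ne_zero _ hp.ne_zero) (by rintro rfl; simp at hn'),
      Nat.factorization_mul (pow_ne_zero _ hp.ne_zero) (by rintro rfl; simp at hm')] at hv
    simpa [hp.factorization_pow, Nat.factorization_eq_zero_of_not_dvd hn',
      Nat.factorization_eq_zero_of_not_dvd hm'] using hv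
  subst hkl
  intro hid
  have hm0 : (m' : ℂ) ≠ 0 := Nat.cast_ne_zero.2 (by rintro rfl; simp at hm')
  have hpk : (p : ℂ) ^ k ≠ 0 := pow_ne_zero _ (Nat.cast_ne_zero.2 hp.ne_zero)
  have e : (m' : ℂ) * (((p ^ k * n' : ℕ) : ℂ) / ((p ^ k * m' : ℕ) : ℂ) * x) = (n' : ℂ) * x := by
    push_cast
    field_simp
  have h2 := ideal_mul_left hM (ring_of_isIntegral hM (isIntegral_algebraMap (x := (m' : ℤ)))) hid
  rw [show (algebraMap ℤ ℂ (m' : ℤ)) = (m' : ℂ) by simp, e,
    ideal_mul_iff hM (ring_of_isIntegral hM (by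
      simpa using (isIntegral_algebraMap (x := (n' : ℤ)) : IsIntegral ℤ (algebraMap ℤ ℂ n')))) hx,
    ideal_natCast_iff hM] at h2
  exact h2.elim hn' hxu

/-- The value of a character of `B` against a character of a block of full defect is not zero. -/
theorem regSum_shift_ne_zero (hM : Cfsg.IsPModular p M) {B : Set (Cfsg.IrrCharacter G)} {u : G}
    (hu : ∃ k : ℕ, orderOf u = p ^ k) {g : Set (Cfsg.IrrCharacter (CU u))}
    (h : Cfsg.IsBrauerPairOf p M B (Subgroup.zpowers u) g)
    (hd : Cfsg.blockDefect p g = Cfsg.blockDefect p B) {χ : Cfsg.IrrCharacter G} (hχ : χ ∈ B)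
    {ξ : Cfsg.IrrCharacter (CU u)} (hξ : ξ ∈ g)
    (hξ0 : Cfsg.blockHeight p g (ξ : CU u → ℂ) = 0) :
    regSum p (shiftCU (χ : G → ℂ) u) (ξ : CU u → ℂ) ≠ 0 := by
  classical
  have hp := hM.1
  have hB := h.2.1
  obtain ⟨χ₀, hχ₀, h00⟩ := exists_height_zero hM hB
  set K := Subgroup.centralizer ({u} : Set G)
  have hK : K = CU u := SetLike.ext fun x => mem_centralizer_zpowers.symm
  set σ := MulEquiv.subgroupCongr hK
  set φ : K → ℂ := fun c => (ξ : CU u → ℂ) (σ c) with hφdef
  have hφc : Cfsg.IsClassFunction K φ := fun c a => by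
    simp only [hφdef, map_mul, map_inv]
    exact irr_isClassFunction ξ (σ c) (σ a)
  have hz := MajorSubsection.central_secEl hp hu hφc
  have hzi := MajorSubsection.intEl_secEl hM (p := p) (y := u)
    (fun c => char_value_isIntegral (irr_isCharacter ξ) (σ c) : ∀ c, IsIntegral ℤ (φ c))
  have key : ∀ ψ : Cfsg.IrrCharacter G, omega (ψ : G → ℂ) (MajorSubsection.secEl p u φ) =
      (K.index : ℂ) * regSum p (shiftCU (ψ : G → ℂ) u) (ξ : CU u → ℂ) / (ψ : G → ℂ) 1 := by
    intro ψ
    haveI := Fintype.ofFinite (CU u)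
    haveI := Fintype.ofFinite K
    rw [omega, MajorSubsection.evalChar_secEl hp hu hφc (irr_isClassFunction ψ)]
    congr 2
    rw [regSum_eq_sum, regSum_eq_sum]
    refine Fintype.sum_equiv σ.toEquiv _ _ fun c => ?_
    rw [MulEquiv.toEquiv_eq_coe, MulEquiv.coe_toEquiv, σ.orderOf_eq c]
    rfl
  intro h0
  have hc := omega_cong_of_mem hM hB hχ₀ hχ hz hzi
  rw [key χ, key χ₀, h0, mul_zero, zero_div] at hc
  obtain ⟨hRr, hRu⟩ := pairing_unit hM hu h hχ₀ h00 hξ
  set R := regSum p (shiftCU (χ₀ : G → ℂ) u) (ξ : CU u → ℂ)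
  have hd₀ := degree_factorization_eq hM hB hχ₀
  have hdξ : (Cfsg.charDegree (ξ : CU u → ℂ)).factorization p + Cfsg.blockDefect p g =
      (Nat.card (CU u)).factorization p + Cfsg.blockHeight p g (ξ : CU u → ℂ) :=
    degree_factorization_eq hM h.1.2 hξ
  rw [h00, Nat.add_zero] at hd₀
  rw [hξ0, Nat.add_zero, hd] at hdξ
  have hind : K.index = (CU u).index := by rw [hK]
  have hidx := factorization_index_add (CU u) p
  have hξ1 : (ξ : CU u → ℂ) 1 = (Cfsg.charDegree (ξ : CU u → ℂ) : ℂ) :=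
    (charDegree_cast ξ).symm
  have hχ1 : (χ₀ : G → ℂ) 1 = (Cfsg.charDegree (χ₀ : G → ℂ) : ℂ) := (charDegree_cast χ₀).symm
  have hξne : Cfsg.charDegree (ξ : CU u → ℂ) ≠ 0 := fun e => by
    rw [e, Nat.cast_zero] at hξ1; exact irr_one_ne_zero ξ.2 hξ1
  have hχne : Cfsg.charDegree (χ₀ : G → ℂ) ≠ 0 := fun e => by
    rw [e, Nat.cast_zero] at hχ1; exact irr_one_ne_zero χ₀.2 hχ1
  refine not_ideal_mul_div hM (n := K.index * Cfsg.charDegree (ξ : CU u → ℂ))
    (m := Cfsg.charDegree (χ₀ : G → ℂ)) (mul_ne_zero K.index_ne_zero_of_finite hξne) hχne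
    ?_ hRr hRu ?_
  · rw [Nat.factorization_mul K.index_ne_zero_of_finite hξne, Finsupp.add_apply, hind]
    omega
  · have e : ((K.index * Cfsg.charDegree (ξ : CU u → ℂ) : ℕ) : ℂ) /
        (Cfsg.charDegree (χ₀ : G → ℂ) : ℂ) * (R / (ξ : CU u → ℂ) 1) =
        (K.index : ℂ) * R / (χ₀ : G → ℂ) 1 := by
      rw [hχ1, hξ1, Nat.cast_mul]
      have : (Cfsg.charDegree (ξ : CU u → ℂ) : ℂ) ≠ 0 := Nat.cast_ne_zero.2 hξne
      field_simp
    rw [e]
    exact (ideal_iff_of_cong hM hc).2 (ideal_zero hM)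

/-- Every character of the block has a part at a pair of full defect. -/
theorem exists_th_ne_zero_major (hM : Cfsg.IsPModular p M) {B : Set (Cfsg.IrrCharacter G)} {u : G}
    (hu : ∃ k : ℕ, orderOf u = p ^ k) {g : Set (Cfsg.IrrCharacter (CU u))}
    (h : Cfsg.IsBrauerPairOf p M B (Subgroup.zpowers u) g)
    (hd : Cfsg.blockDefect p g = Cfsg.blockDefect p B) {χ : Cfsg.IrrCharacter G} (hχ : χ ∈ B) :
    ∃ s ∈ regAt p u, th (χ : G → ℂ) u (elF (CU u) g) s ≠ 0 := by
  classical
  by_contra hcon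
  push Not at hcon
  haveI := Fintype.ofFinite (CU u)
  obtain ⟨ξ, hξ, hξ0⟩ := exists_height_zero hM h.1.2
  refine regSum_shift_ne_zero hM hu h hd hχ hξ hξ0 ?_
  rw [regSum_shift_eq hM h.1.2 (irr_isClassFunction χ) hξ, regSum_eq_sum]
  refine Finset.sum_eq_zero fun c _ => ?_
  split
  · next hc =>
    rw [hcon _ (mem_regAt.2 ⟨commute_of_mem_CU c.2, by rwa [Subgroup.orderOf_coe]⟩), zero_mul]
  · rfl

/-- Every character of the block has a part at the named pair of an element of the centre. -/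
theorem exists_th_ne_zero_center (hM : Cfsg.IsPModular p M) {B : Set (Cfsg.IrrCharacter G)}
    {P : Subgroup G} {e : Set (Cfsg.IrrCharacter (Subgroup.centralizer (P : Set G)))}
    (hmax : Cfsg.IsMaximalBrauerPair p M B P e) {v : P}
    (hv : (v : G) ∈ Subgroup.centralizer (P : Set G)) {χ : Cfsg.IrrCharacter G} (hχ : χ ∈ B) :
    ∃ s ∈ regAt p (v : G), th (χ : G → ℂ) (v : G) (eps p M e v) s ≠ 0 := by
  obtain ⟨g, hg, hgB, he⟩ := eps_spec hM hmax v
  rw [he]
  exact exists_th_ne_zero_major hM (orderOf_top hM hmax v)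
    ((block_of_subpairLE hM hg).2 hmax.1) (blockDefect_of_central hM hmax hv hgB hg) hχ

end Cfsg.Agent.Blocks.Star
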