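import Mathlib
import Cfsg.Agent.BlockCharsA.PairFusion
import Cfsg.Agent.Lib.Blocks.Star.InB

/-!
# Sums over the pairs of a block as sums over the top

Each pair of the block on a cyclic subgroup is conjugate to a pair below the maximal one, in
`nb` ways; so a conjugation invariant sum over the pairs is a weighted sum over the top.
-/

set_option linter.style.haveILetI false
set_option linter.unusedSectionVars false

namespace Cfsg.Agent.Blocks.Star

open Cfsg.Agent.Blocks Cfsg.Agent.Characters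
open Cfsg.Agent.BlockCharsA.BrauerPairs Cfsg.Agent.BlockCharsA.PairConj
open Cfsg.Agent.BlockCharsA.PairLocal Cfsg.Agent.BlockCharsA.PairFusion
open MonoidAlgebra
open scoped ComplexConjugate

universe u

variable {G : Type u} [Group G] [Finite G] {p : ℕ} {M : Ideal Cfsg.AlgInt}
  {B : Set (Cfsg.IrrCharacter G)} {P : Subgroup G}
  {e : Set (Cfsg.IrrCharacter (Subgroup.centralizer (P : Set G)))}

/-- Conjugation by the top permutes the named pairs. -/
theorem eps_conj_top (hM : Cfsg.IsPModular p M) (hmax : Cfsg.IsMaximalBrauerPair p M B P e)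
    (v w : P) : cjE (w : G) (eps p M e v) = eps p M e (w * v * w⁻¹) := by
  obtain ⟨g, hg, hgB, he⟩ := eps_spec hM hmax v
  obtain ⟨g', -, he', hpair⟩ := exists_cj_pair hM (cj_zpowers (w : G) (v : G)) hgB
  have h1 : Relation.ReflTransGen (Cfsg.NormalSubpairRel p M)
      (cjPair (w : G) ⟨Subgroup.zpowers (v : G), g⟩) (cjPair (w : G) ⟨P, e⟩) :=
    subpairLE_conj hM (w : G) hg
  rw [hpair, mem_stab_iff.1 (le_stab (Q := P) (f := e) w.2)] at h1
  rw [he, ← he', eps_eq hM hmax (w * v * w⁻¹) (g := g') h1]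
  rfl

variable (p M e) in
open scoped Classical in
/-- The number of ways of carrying the named pair at `v` to a named pair. -/
noncomputable def nb (v : P) : ℕ :=
  Nat.card {y : G // ∃ w : P, (w : G) = y * (v : G) * y⁻¹ ∧ cjE y (eps p M e v) = eps p M e w}

theorem nb_pos (v : P) : 0 < nb p M e v :=
  Nat.card_pos_iff.2 ⟨⟨⟨1, v, by simp, cjE_one _⟩⟩, inferInstance⟩

theorem nb_conj (hM : Cfsg.IsPModular p M) (hmax : Cfsg.IsMaximalBrauerPair p M B P e) (v w : P) :
    nb p M e (w * v * w⁻¹) = nb p M e v := by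
  refine Nat.card_congr ((Equiv.mulRight (w : G)).subtypeEquiv fun y => ?_)
  refine exists_congr fun z => ?_
  rw [← eps_conj_top hM hmax v w, cjE_cjE]
  simp only [Equiv.coe_mulRight, Subgroup.coe_mul, Subgroup.coe_inv]
  refine and_congr_left fun _ => ?_
  rw [show y * ((w : G) * v * (w : G)⁻¹) * y⁻¹ = y * w * v * (y * (w : G))⁻¹ by group]

variable [Fintype G]

/-- A conjugation invariant sum over the pairs of the block. -/
theorem sum_pairs (hM : Cfsg.IsPModular p M) (hmax : Cfsg.IsMaximalBrauerPair p M B P e) [Fintype P]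
    (F : G → MonoidAlgebra ℂ G → ℂ)
    (hF : ∀ x u ε, F (x * u * x⁻¹) (cjE x ε) = F u ε)
    (h0 : ∀ u, ∀ ε, (¬ ∃ (v : P) (x : G), (v : G) = x * u * x⁻¹ ∧ cjE x ε = eps p M e v) →
      F u ε = 0) :
    ∑ u ∈ pEls p G, ∑ ε ∈ BI M u, F u ε =
      ∑ v : P, (Nat.card G : ℂ) / (nb p M e v : ℂ) * F (v : G) (eps p M e v) := by
  classical
  set φ : P × G → Σ _ : G, MonoidAlgebra ℂ G := fun a =>
    ⟨a.2⁻¹ * (a.1 : G) * a.2, cjE a.2⁻¹ (eps p M e a.1)⟩ with hφ
  set T := (pEls p G).sigma fun u => BI M u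
  have hmap : ∀ a ∈ (Finset.univ : Finset (P × G)), φ a ∈ T := fun a _ => by
    have h2 := cjE_mem_BI hM a.2⁻¹ (eps_mem_BI hM hmax a.1)
    rw [inv_inv] at h2
    refine Finset.mem_sigma.2 ⟨mem_pEls.2 ?_, h2⟩
    obtain ⟨k, hk⟩ := orderOf_top hM hmax a.1
    refine ⟨k, ?_⟩
    show orderOf (a.2⁻¹ * (a.1 : G) * a.2) = p ^ k
    rw [← hk]
    simpa using (MulAut.conj a.2⁻¹).orderOf_eq (a.1 : G)
  have hiff : ∀ (a : P × G) (q : Σ _ : G, MonoidAlgebra ℂ G),
      φ a = q ↔ (a.1 : G) = a.2 * q.1 * a.2⁻¹ ∧ cjE a.2 q.2 = eps p M e a.1 := by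
    rintro ⟨v, x⟩ ⟨u, ε⟩
    constructor
    · intro h
      simp only [hφ, Sigma.mk.injEq, heq_eq_eq] at h
      obtain ⟨rfl, rfl⟩ := h
      exact ⟨by group, by rw [cjE_cjE, mul_inv_cancel, cjE_one]⟩
    · rintro ⟨h1, h2⟩
      simp only [hφ, Sigma.mk.injEq, heq_eq_eq]
      exact ⟨by rw [h1]; group, by rw [← h2, cjE_cjE, inv_mul_cancel, cjE_one]⟩
  have hfib : ∀ (q : Σ _ : G, MonoidAlgebra ℂ G) (a₀ : P × G), φ a₀ = q →
      (Finset.univ.filter fun a => φ a = q).card = nb p M e a₀.1 := by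
    rintro ⟨u, ε⟩ ⟨v₀, x₀⟩ h
    obtain ⟨h1, h2⟩ := (hiff _ _).1 h
    rw [nb, Nat.card_eq_fintype_card, Fintype.card_subtype]
    refine Finset.card_bij (fun a _ => a.2 * x₀⁻¹) (fun a ha => ?_) (fun a ha b hb hab => ?_)
      fun y hy => ?_
    · obtain ⟨h3, h4⟩ := (hiff _ _).1 (Finset.mem_filter.1 ha).2
      refine Finset.mem_filter.2 ⟨Finset.mem_univ _, a.1, ?_, ?_⟩
      · rw [h3, h1]; group
      · rw [← h2, cjE_cjE, ← h4]
        congr 1
        group
    · obtain ⟨h3, -⟩ := (hiff _ _).1 (Finset.mem_filter.1 ha).2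
      obtain ⟨h5, -⟩ := (hiff _ _).1 (Finset.mem_filter.1 hb).2
      have hx : a.2 = b.2 := mul_right_cancel hab
      exact Prod.ext (Subtype.ext (by rw [h3, h5, hx])) hx
    · obtain ⟨-, w, hw, hwε⟩ := Finset.mem_filter.1 hy
      refine ⟨(w, y * x₀), Finset.mem_filter.2 ⟨Finset.mem_univ _, (hiff _ _).2 ⟨?_, ?_⟩⟩, ?_⟩
      · show (w : G) = y * x₀ * u * (y * x₀)⁻¹
        rw [hw, h1]; group
      · show cjE (y * x₀) ε = eps p M e w
        rw [← cjE_cjE, h2, hwε]
      · show y * x₀ * x₀⁻¹ = y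
        group
  have hsum : ∑ u ∈ pEls p G, ∑ ε ∈ BI M u, F u ε =
      ∑ a : P × G, (nb p M e a.1 : ℂ)⁻¹ * F (a.1 : G) (eps p M e a.1) := by
    rw [← Finset.sum_sigma (pEls p G) (fun u => BI M u) fun q => F q.1 q.2,
      ← Finset.sum_fiberwise_of_maps_to hmap]
    refine Finset.sum_congr rfl fun q hq => ?_
    by_cases hw : ∃ (v : P) (x : G), (v : G) = x * q.1 * x⁻¹ ∧ cjE x q.2 = eps p M e v
    · obtain ⟨v₀, x₀, h1, h2⟩ := hw
      have hq0 : φ (v₀, x₀) = q := (hiff _ _).2 ⟨h1, h2⟩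
      have hterm : ∀ a ∈ Finset.univ.filter (fun a => φ a = q),
          (nb p M e a.1 : ℂ)⁻¹ * F (a.1 : G) (eps p M e a.1) =
            (nb p M e v₀ : ℂ)⁻¹ * F q.1 q.2 := fun a ha => by
        have h := (Finset.mem_filter.1 ha).2
        obtain ⟨h3, h4⟩ := (hiff _ _).1 h
        rw [← hfib q a h, hfib q _ hq0, ← h4, h3, hF]
      rw [Finset.sum_congr rfl hterm, Finset.sum_const, hfib q _ hq0, nsmul_eq_mul, ← mul_assoc,
        mul_inv_cancel₀ (Nat.cast_ne_zero.2 (nb_pos v₀).ne'), one_mul]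
    · rw [h0 _ _ hw, Finset.sum_eq_zero]
      intro a ha
      exact absurd ⟨a.1, a.2, (hiff _ _).1 (Finset.mem_filter.1 ha).2⟩ hw
  rw [hsum, Fintype.sum_prod_type]
  refine Finset.sum_congr rfl fun v _ => ?_
  simp only [Finset.sum_const, Finset.card_univ, ← Nat.card_eq_fintype_card, nsmul_eq_mul]
  ring

/-- The pairing is invariant under conjugation. -/
theorem pairing_conj {f f' : G → ℂ} (hf : Cfsg.IsClassFunction G f)
    (hf' : Cfsg.IsClassFunction G f') (x u : G) (ε : MonoidAlgebra ℂ G) :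
    pairing p f f' (x * u * x⁻¹) (cjE x ε) = pairing p f f' u ε := by
  classical
  have hth : ∀ {h : G → ℂ}, Cfsg.IsClassFunction G h → ∀ s : G,
      th h (x * u * x⁻¹) (cjE x ε) (x * s * x⁻¹) = th h u ε s := fun {h} hh s => by
    rw [th, th, ← evalChar_cjE hh x (single (u * s) 1 * ε), cjE_mul, cjE_single]
    congr 3
    group
  refine (Finset.sum_equiv (MulAut.conj x).toEquiv (fun s => ?_) fun s _ => ?_).symm
  · simp only [mem_regAt, MulEquiv.toEquiv_eq_coe, MulEquiv.coe_toEquiv]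
    rw [(MulAut.conj x).orderOf_eq s, show x * u * x⁻¹ = MulAut.conj x u from rfl, Commute,
      SemiconjBy, Commute, SemiconjBy, ← map_mul, ← map_mul, (MulAut.conj x).injective.eq_iff]
  · simp only [MulEquiv.toEquiv_eq_coe, MulEquiv.coe_toEquiv, MulAut.conj_apply]
    rw [hth hf, hth hf']

/-- The inner product of two products as a sum over the top. -/
theorem classInner_star_top (hM : Cfsg.IsPModular p M) (hmax : Cfsg.IsMaximalBrauerPair p M B P e)
    [Fintype P] {η η' : P → ℂ} (hη : Stable p M e η) (hη' : Stable p M e η') {f f' : G → ℂ}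
    (hf : Cfsg.IsClassFunction G f) (hf' : Cfsg.IsClassFunction G f') :
    Cfsg.classInner (star hM (wt p M e η) f) (star hM (wt p M e η') f') =
      ∑ v : P, η v * conj (η' v) * (pairing p f f' (v : G) (eps p M e v) / (nb p M e v : ℂ)) := by
  rw [classInner_star hM η η' hf hf', sum_pairs hM hmax
    (fun u ε => hat p M e η u ε * conj (hat p M e η' u ε) * pairing p f f' u ε)
    (fun x u ε => by rw [hat_conj hη, hat_conj hη', pairing_conj hf hf'])
    (fun u ε h => by rw [hat_of_not h, zero_mul, zero_mul]), Finset.mul_sum]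
  refine Finset.sum_congr rfl fun v _ => ?_
  rw [hat_self hM hmax hη, hat_self hM hmax hη']
  field_simp [natCard_ne_zero]

/-- The pairing of a function with itself is a nonnegative real. -/
theorem pairing_self (f : G → ℂ) (u : G) (ε : MonoidAlgebra ℂ G) :
    pairing p f f u ε = ((∑ s ∈ regAt p u, ‖th f u ε s‖ ^ 2 : ℝ) : ℂ) := by
  rw [pairing, Complex.ofReal_sum]
  exact Finset.sum_congr rfl fun s _ => by rw [Complex.mul_conj', Complex.ofReal_pow]

/-- At one the pairing of two characters of the block is their sum over regular elements. -/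
theorem pairing_one (hM : Cfsg.IsPModular p M) (hmax : Cfsg.IsMaximalBrauerPair p M B P e)
    {χ ψ : Cfsg.IrrCharacter G} (hχ : χ ∈ B) (hψ : ψ ∈ B) :
    pairing p (χ : G → ℂ) (ψ : G → ℂ) ((1 : P) : G) (eps p M e 1) =
      regSum p (χ : G → ℂ) (ψ : G → ℂ) := by
  classical
  have h1 : ((1 : P) : G) = 1 := rfl
  have hk : ∃ k : ℕ, orderOf ((1 : P) : G) = p ^ k := ⟨0, by simp⟩
  have hth : ∀ {f : Cfsg.IrrCharacter G}, f ∈ B → ∀ s ∈ regAt p ((1 : P) : G),
      th (f : G → ℂ) ((1 : P) : G) (eps p M e 1) s = (f : G → ℂ) s := fun {f} hf s hs => by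
    conv_rhs => rw [show s = ((1 : P) : G) * s by simp, eq_sum_th hM (f : G → ℂ)]
    rw [Finset.sum_eq_single_of_mem _ (eps_mem_BI hM hmax 1)]
    intro ε hε hne
    obtain ⟨g, hg, rfl⟩ := mem_BI.1 hε
    refine th_eq_zero hM hmax.1.2.1 hf hk hg (fun h => hne ?_) hs
    obtain ⟨v, x, hv, he⟩ := (witness_iff hM hmax hk hg).2 h
    have hv1 : v = 1 := Subtype.ext (by rw [hv]; simp)
    rw [hv1] at he
    rw [← he, cjE_eq_self (invBy_BI hε) (mem_CU_of_commute (by rw [h1]; exact Commute.one_left x))]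
  rw [pairing, regSum_eq_sum, ← Finset.sum_filter]
  refine Finset.sum_congr (Finset.ext fun s => ?_) fun s hs => ?_
  · simp [mem_regAt]
  · rw [hth hχ s, hth hψ s] <;>
    · refine mem_regAt.2 ⟨?_, (Finset.mem_filter.1 hs).2⟩
      rw [h1]; exact Commute.one_left s

end Cfsg.Agent.Blocks.Star
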