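import Mathlib
import Cfsg.Agent.BlockCharsA.PairCorr
import Cfsg.Agent.Lib.Blocks.Induced

/-!
# A block of the normalizer inducing a block has a matching maximal pair
-/

set_option linter.style.haveILetI false
set_option linter.unusedSectionVars false

namespace Cfsg.Agent.Blocks.Star

open Cfsg.Agent.Blocks Cfsg.Agent.Characters Cfsg.Agent.BlockCharsA
open Cfsg.Agent.BlockCharsA.BrauerPairs Cfsg.Agent.BlockCharsA.PairStab
open Cfsg.Agent.BlockCharsA.PairMax Cfsg.Agent.BlockCharsA.PairConj
open Cfsg.Agent.BlockCharsA.PairLocal Cfsg.Agent.BlockCharsA.PairFusion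
open Cfsg.Agent.BlockCharsA.PairCorr Cfsg.Agent.BlockCharsA.PairReceptive

universe u

variable {G : Type u} [Group G] [Finite G] {p : ℕ} {M : Ideal Cfsg.AlgInt}
  {B : Set (Cfsg.IrrCharacter G)} {P : Subgroup G}
  {c : Set (Cfsg.IrrCharacter (Subgroup.normalizer (P : Set G)))}

/-- Induction from the normalizer gives equal Brauer images. -/
theorem sameImage_of_induced (hM : Cfsg.IsPModular p M)
    (hcD : Cfsg.IsDefectGroup p M c (P.subgroupOf (Subgroup.normalizer (P : Set G))))
    (hP : IsPGroup p P)
    (hc : Cfsg.IsInducedBlock M (Subgroup.normalizer (P : Set G)) c B) :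
    SameImage M P (Subgroup.normalizer (P : Set G)) B c := by
  obtain ⟨B', ⟨hB', -, hsame⟩, -⟩ := correspond_up hM hP le_rfl hc.1 hcD
  suffices B' = B by rwa [this] at hsame
  have hPN : P ≤ Subgroup.normalizer (P : Set G) := Subgroup.le_normalizer
  have hCN : Subgroup.centralizer (P : Set G) ≤ Subgroup.normalizer (P : Set G) :=
    centralizer_le_normalizer' P
  obtain ⟨ξ, hξ⟩ := block_nonempty hM hc.1
  refine isInduced_unique hM ?_ hc
  rw [isInduced_iff_omega_brEl hM hP hPN hCN le_rfl hc.1 hξ hB']
  haveI := normal_subgroupOf (P := P) (le_refl (Subgroup.normalizer (P : Set G)))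
  have h : Cong M (omega (ξ : Subgroup.normalizer (P : Set G) → ℂ)
      (brEl P (Subgroup.normalizer (P : Set G)) (blockIdem B')))
      (omega (ξ : Subgroup.normalizer (P : Set G) → ℂ) (blockIdem c)) := by
    unfold Cong
    rw [← omega_sub]
    refine omega_ideal_of_avoid hM (isPGroup_subgroupOf hP hPN)
      (central_sub (central_brEl le_rfl (central_blockIdem B')) (central_blockIdem c))
      (intEl_sub hM (intEl_brEl hM P _ (intEl_blockIdem hM hB')) (intEl_blockIdem hM hc.1))
      (fun k hk => ?_) ξ
    have hkC := (mem_centralizer_subgroupOf hPN).1 hk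
    rw [MonoidAlgebra.coeff_sub, Finsupp.sub_apply, brEl, coeff_restrEl,
      cutEl_coeff_mem _ hkC, coeff_blockIdem, coeff_blockIdem]
    have h := hsame (k : G) hkC
    rwa [← coeff_elF, elF, coeff_inclEl_mem, coeff_blockIdem] at h
  rw [ideal_iff_of_cong hM h, omega_blockIdem_mem hξ]
  exact not_ideal_one hM

/-- The maximal pairs match, with the same stabilizers. -/
theorem exists_matching_pairs (hM : Cfsg.IsPModular p M) (hB : Cfsg.IsPBlock M B)
    (hD : Cfsg.IsDefectGroup p M B P)
    (hcD : Cfsg.IsDefectGroup p M c (P.subgroupOf (Subgroup.normalizer (P : Set G))))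
    (hc : Cfsg.IsInducedBlock M (Subgroup.normalizer (P : Set G)) c B) :
    ∃ (f : Set (Cfsg.IrrCharacter (Subgroup.centralizer (P : Set G))))
      (a : Set (Cfsg.IrrCharacter (Subgroup.centralizer
        ((P.subgroupOf (Subgroup.normalizer (P : Set G))) :
          Set (Subgroup.normalizer (P : Set G)))))),
      Cfsg.IsMaximalBrauerPair p M B P f ∧
      Cfsg.IsMaximalBrauerPair p M c (P.subgroupOf (Subgroup.normalizer (P : Set G))) a ∧
      ∀ t : Subgroup.normalizer (P : Set G),
        t ∈ stab (P.subgroupOf (Subgroup.normalizer (P : Set G))) a ↔ (t : G) ∈ stab P f := by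
  haveI := fact_prime_of_pm hM
  set N := Subgroup.normalizer (P : Set G) with hN
  have hP := isPGroup_defect hD
  have hPN : P ≤ N := Subgroup.le_normalizer
  have hCN : Subgroup.centralizer (P : Set G) ≤ N := centralizer_le_normalizer' P
  obtain ⟨f, hmax⟩ := exists_maximal_on hM hB hD
  obtain ⟨⟨A, a⟩, ha, hm⟩ := exists_down hM hPN hCN hmax.1.1
  obtain rfl : A = P.subgroupOf N :=
    Subgroup.map_injective N.subtype_injective (hm.1.trans (map_subgroupOf_eq hPN).symm)
  have hpair := (pairOf_transfer hM (sameImage_of_induced hM hcD hP hc) ha hm hmax.1.1 hB hc.1).1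
    hmax.1
  refine ⟨f, a, hmax, ⟨hpair, fun R r hR hle => ?_⟩, fun t => ?_⟩
  · obtain ⟨R', r', hR', hle'⟩ := exists_maximal_above hM hR
    refine (eq_of_le_of_card_le (subpairLE_facts hM hle).1 ?_).symm
    refine (Subgroup.card_le_of_le (subpairLE_facts hM hle').1).trans (le_of_eq ?_)
    rw [card_defectGroup hM hc.1 hcD, card_defectGroup hM hc.1 (isDefectGroup_of_maximal hM hR')]
  · rw [mem_stab_iff, mem_stab_iff]
    have h1 := match_conj hm t
    constructor
    · intro h
      rw [h] at h1
      exact match_unique h1 hm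
    · intro h
      rw [h] at h1
      refine idx_ext ?_ fun s => ?_
      · exact Subgroup.map_injective N.subtype_injective (h1.1.trans hm.1.symm)
      · rw [h1.2.2, hm.2.2]

/-- The inertial indices agree. -/
theorem relIndex_eq_of_stab {a : Set (Cfsg.IrrCharacter (Subgroup.centralizer
      ((P.subgroupOf (Subgroup.normalizer (P : Set G))) :
        Set (Subgroup.normalizer (P : Set G)))))}
    {f : Set (Cfsg.IrrCharacter (Subgroup.centralizer (P : Set G)))}
    (h : ∀ t : Subgroup.normalizer (P : Set G),
      t ∈ stab (P.subgroupOf (Subgroup.normalizer (P : Set G))) a ↔ (t : G) ∈ stab P f) :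
    (Subgroup.centralizer ((P.subgroupOf (Subgroup.normalizer (P : Set G))) :
      Set (Subgroup.normalizer (P : Set G)))).relIndex
        (stab (P.subgroupOf (Subgroup.normalizer (P : Set G))) a) =
      (Subgroup.centralizer (P : Set G)).relIndex (stab P f) := by
  have h1 : stab (P.subgroupOf (Subgroup.normalizer (P : Set G))) a =
      (stab P f).subgroupOf (Subgroup.normalizer (P : Set G)) := SetLike.ext h
  have h2 : Subgroup.centralizer ((P.subgroupOf (Subgroup.normalizer (P : Set G))) :
        Set (Subgroup.normalizer (P : Set G))) =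
      (Subgroup.centralizer (P : Set G)).subgroupOf (Subgroup.normalizer (P : Set G)) :=
    SetLike.ext fun t => mem_centralizer_subgroupOf Subgroup.le_normalizer
  rw [h1, h2, Subgroup.relIndex_subgroupOf stab_le_normalizer]

end Cfsg.Agent.Blocks.Star
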