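import Mathlib
import Cfsg.Agent.BlockCharsA.Contrib
import Cfsg.Agent.BlockCharsA.PairNilpotent
import Cfsg.Agent.BlockCharsA.Rank
import Cfsg.Agent.Lib.Blocks.Star.Major
import Cfsg.Agent.Lib.Blocks.Star.PairCount

/-!
# Columns of a block with abelian defect group

The diagonal pairings at a pair add up to the local rank, and the pairs are counted by the orbits
of the inertial group; the free action of the stable linear characters gives linear relations
between the local ranks.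
-/

set_option linter.style.haveILetI false
set_option linter.unusedSectionVars false

namespace Cfsg.Agent.Blocks.Star

open Cfsg.Agent.Blocks Cfsg.Agent.Characters
open Cfsg.Agent.BlockCharsA.BrauerPairs Cfsg.Agent.BlockCharsA.PairConj
open Cfsg.Agent.BlockCharsA.PairLocal Cfsg.Agent.BlockCharsA.PairFusion
open MonoidAlgebra
open scoped ComplexConjugate

universe u

variable {G : Type u} [Group G] [Finite G] {p : ℕ} {M : Ideal Cfsg.AlgInt}
  {B : Set (Cfsg.IrrCharacter G)} {P : Subgroup G}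
  {e : Set (Cfsg.IrrCharacter (Subgroup.centralizer (P : Set G)))}

/-- `Rank.norm_part` on a subgroup known to be the centraliser. -/
theorem norm_part' (hM : Cfsg.IsPModular p M) {x : G} (hx : ∃ k : ℕ, orderOf x = p ^ k)
    [Fintype G] [Fintype (Cfsg.IrrCharacter G)] {H : Subgroup G}
    (hH : H = Subgroup.centralizer ({x} : Set G)) {S : Set (Cfsg.IrrCharacter H)}
    (hS : IntEl M (blockIdem S)) {y : H} (hy : ¬ p ∣ orderOf y) :
    ∑ ζ : Cfsg.IrrCharacter G, Cfsg.blockPart S (fun c : H => (ζ : G → ℂ) (x * (c : G))) y *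
      conj (Cfsg.blockPart S (fun c : H => (ζ : G → ℂ) (x * (c : G))) y) =
    (Nat.card H : ℂ) * blockKernelAt S y y := by
  subst hH
  exact BlockCharsA.Rank.norm_part hM hx hS hy

/-- The diagonal pairings at a pair add up to its rank. -/
theorem sum_pairing_block [Fintype G] [Fintype (Cfsg.IrrCharacter G)] (hM : Cfsg.IsPModular p M)
    {u : G} (hu : ∃ k : ℕ, orderOf u = p ^ k) {g : Set (Cfsg.IrrCharacter (CU u))}
    (h : Cfsg.IsBrauerPairOf p M B (Subgroup.zpowers u) g) [DecidablePred (· ∈ B)] :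
    ∑ χ ∈ Finset.univ.filter (· ∈ B), pairing p (χ : G → ℂ) (χ : G → ℂ) u (elF (CU u) g) =
      (Nat.card (CU u) : ℂ) * (Cfsg.blockRank p g : ℂ) := by
  classical
  haveI := Fintype.ofFinite (CU u)
  have hall : ∑ χ ∈ Finset.univ.filter (· ∈ B),
      pairing p (χ : G → ℂ) (χ : G → ℂ) u (elF (CU u) g) =
      ∑ χ : Cfsg.IrrCharacter G, pairing p (χ : G → ℂ) (χ : G → ℂ) u (elF (CU u) g) := by
    refine Finset.sum_subset (Finset.subset_univ _) fun χ _ hχ => ?_
    refine Finset.sum_eq_zero fun s hs => ?_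
    rw [th_eq_zero hM (isPBlock_blockOf M χ) (mem_blockOf_self hM χ) hu h.1.2 (fun h' => hχ
      (Finset.mem_filter.2 ⟨Finset.mem_univ _, ?_⟩)) hs, zero_mul]
    rw [brauerPairOf_unique hM h h']
    exact mem_blockOf_self hM χ
  rw [hall, BlockCharsA.Rank.blockRank_eq_trace hM (intEl_blockIdem hM h.1.2), Finset.mul_sum]
  simp only [pairing, sum_regAt, regSum_eq_sum]
  rw [Finset.sum_comm]
  refine Finset.sum_congr rfl fun s _ => ?_
  by_cases hs : p ∣ orderOf s
  · simp [hs]
  · simp only [if_pos hs, th_eq (irr_isClassFunction _) u g]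
    exact norm_part' hM hu (SetLike.ext fun _ => mem_centralizer_zpowers)
      (intEl_blockIdem hM h.1.2) hs

/-! ### Fusion through the inertial group -/

/-- The conjugates under the inertial group. -/
def orbS (p : ℕ) (M : Ideal Cfsg.AlgInt) (P : Subgroup G)
    (e : Set (Cfsg.IrrCharacter (Subgroup.centralizer (P : Set G)))) (v : G) : Set G :=
  {w | ∃ t ∈ stab P e, w = t * v * t⁻¹}

theorem orbS_nonempty (v : G) : (orbS p M P e v).Nonempty := ⟨v, 1, one_mem _, by simp⟩

theorem conj_mem_top {t v : G} (ht : t ∈ stab P e) (hv : v ∈ P) : t * v * t⁻¹ ∈ P :=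
  (Subgroup.mem_normalizer_iff.1 (stab_le_normalizer ht) v).1 hv

/-- Conjugation by the inertial group permutes the named pairs. -/
theorem eps_conj_stab (hM : Cfsg.IsPModular p M) (hmax : Cfsg.IsMaximalBrauerPair p M B P e)
    {t : G} (ht : t ∈ stab P e) {v w : P} (hw : (w : G) = t * v * t⁻¹) :
    cjE t (eps p M e v) = eps p M e w := by
  obtain ⟨g, hg, hgB, he⟩ := eps_spec hM hmax v
  obtain ⟨g', -, he', hpair⟩ := exists_cj_pair hM
    ((cj_zpowers t (v : G)).trans (congrArg Subgroup.zpowers hw.symm)) hgB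
  have h1 : Relation.ReflTransGen (Cfsg.NormalSubpairRel p M)
      (cjPair t ⟨Subgroup.zpowers (v : G), g⟩) (cjPair t ⟨P, e⟩) := subpairLE_conj hM t hg
  rw [hpair, mem_stab_iff.1 ht] at h1
  rw [he, ← he', eps_eq hM hmax w (g := g') h1]

/-- Fusion of named pairs is induced by the inertial group. -/
theorem exists_stab_of_fusion (hM : Cfsg.IsPModular p M)
    (hmax : Cfsg.IsMaximalBrauerPair p M B P e) (hab : ∀ x ∈ P, ∀ y ∈ P, x * y = y * x) {u v : P}
    {x : G} (hv : (v : G) = x * (u : G) * x⁻¹) (hε : cjE x (eps p M e u) = eps p M e v) :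
    ∃ t ∈ stab P e, (v : G) = t * (u : G) * t⁻¹ := by
  haveI := fact_prime_of_pm hM
  have hS := isBlockFusion_blockSystem hM hmax
  obtain ⟨gu, hgu, -, heu⟩ := eps_spec hM hmax u
  obtain ⟨gv, hgv, -, hev⟩ := eps_spec hM hmax v
  have hpair : cjPair x (⟨Subgroup.zpowers (u : G), gu⟩ : Cfsg.BrauerPairIdx G) =
      ⟨Subgroup.zpowers (v : G), gv⟩ := by
    refine idx_ext ((cj_zpowers x _).trans (congrArg Subgroup.zpowers hv.symm)) fun z => ?_
    simp only [cjPair]
    rw [coeff_conjBlock', ← coeff_cjE, ← heu, hε, hev]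
  have hle : (Subgroup.zpowers (u : G)).map (MulAut.conj x).toMonoidHom ≤ P := by
    rw [show (Subgroup.zpowers (u : G)).map (MulAut.conj x).toMonoidHom = _ from
      cj_zpowers x (u : G), ← hv]
    exact Subgroup.zpowers_le.2 v.2
  have hφ : Cfsg.conjHom (Subgroup.zpowers (u : G)) x ∈
      (blockSystem hM hmax).Hom (Subgroup.zpowers (u : G)) := by
    refine (hS.2 _ _).2 ⟨Subgroup.zpowers_le.2 u.2, x, fun w => rfl, hle, gu, hgu, ?_⟩
    show Relation.ReflTransGen (Cfsg.NormalSubpairRel p M)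
      (cjPair x ⟨Subgroup.zpowers (u : G), gu⟩) ⟨P, e⟩
    rw [hpair]
    exact hgv
  obtain ⟨α, hα, he⟩ := Fusion.Abelian.exists_aut hmax.1.1.1
    (BlockCharsA.PairReceptive.isSaturated hM hS) hab (Fusion.Basic.IsMap.of_hom hφ)
  obtain ⟨t, rfl⟩ := (autGroup_eq hM hS (Q := P) (f := e) Relation.ReflTransGen.refl) ▸ hα
  refine ⟨t, t.2, ?_⟩
  have h1 := he (u : G) (Subgroup.mem_zpowers _)
  rw [Fusion.Basic.autFun_of_mem _ u.2, coe_autHom, Fusion.Basic.ext_of_mem _
    (Subgroup.mem_zpowers _)] at h1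
  rw [hv]
  exact h1.symm

/-- A function invariant under the inertial group is stable. -/
theorem stable_of_inertial (hM : Cfsg.IsPModular p M)
    (hmax : Cfsg.IsMaximalBrauerPair p M B P e) (hab : ∀ x ∈ P, ∀ y ∈ P, x * y = y * x) {η : P → ℂ}
    (hη : ∀ t ∈ stab P e, ∀ u v : P, (v : G) = t * (u : G) * t⁻¹ → η u = η v) :
    Stable p M e η := fun u v x hv hε => by
  obtain ⟨t, ht, htv⟩ := exists_stab_of_fusion hM hmax hab hv hε
  exact hη t ht u v htv

theorem nb_eq (hM : Cfsg.IsPModular p M) (hmax : Cfsg.IsMaximalBrauerPair p M B P e)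
    (hab : ∀ x ∈ P, ∀ y ∈ P, x * y = y * x) (v : P) :
    nb p M e v = Nat.card (orbS p M P e (v : G)) * Nat.card (CU (v : G)) := by
  classical
  rw [← Nat.card_prod, nb]
  have hmem : ∀ y : G, (∃ w : P, (w : G) = y * (v : G) * y⁻¹ ∧
      cjE y (eps p M e v) = eps p M e w) → y * (v : G) * y⁻¹ ∈ orbS p M P e (v : G) := by
    rintro y ⟨w, hw, hε⟩
    obtain ⟨t, ht, htw⟩ := exists_stab_of_fusion hM hmax hab hw hε
    exact ⟨t, ht, hw.symm.trans htw⟩
  choose t ht htw using fun w : orbS p M P e (v : G) => w.2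
  have hC : ∀ (y : G) (h : y * (v : G) * y⁻¹ ∈ orbS p M P e (v : G)),
      (t ⟨_, h⟩)⁻¹ * y ∈ CU (v : G) := fun y h => by
    refine mem_centralizer_zpowers.2 (Subgroup.mem_centralizer_singleton_iff.2 ?_)
    have h1 : y * (v : G) * y⁻¹ = t ⟨_, h⟩ * v * (t ⟨_, h⟩)⁻¹ := htw ⟨_, h⟩
    generalize t ⟨_, h⟩ = s at h1 ⊢
    have h2 : s⁻¹ * (y * (v : G) * y⁻¹) * y = (v : G) * (s⁻¹ * y) := by
      rw [h1]; group
    rw [← h2]; group
  refine Nat.card_congr
    { toFun := fun y => (⟨_, hmem y y.2⟩, ⟨_, hC y (hmem y y.2)⟩)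
      invFun := fun a => ⟨t a.1 * (a.2 : G), ?_⟩
      left_inv := fun y => Subtype.ext (by simp)
      right_inv := fun a => ?_ }
  · refine ⟨⟨_, conj_mem_top (ht a.1) v.2⟩, ?_, ?_⟩
    · show t a.1 * (v : G) * (t a.1)⁻¹ = _
      rw [show t a.1 * (a.2 : G) * (v : G) * (t a.1 * (a.2 : G))⁻¹ =
        t a.1 * ((a.2 : G) * (v : G) * (a.2 : G)⁻¹) * (t a.1)⁻¹ by group,
        (commute_of_mem_CU a.2.2).symm.eq, mul_inv_cancel_right]
    · rw [← cjE_cjE, cjE_eq_self (invBy_BI (eps_mem_BI hM hmax v)) a.2.2]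
      exact eps_conj_stab hM hmax (ht a.1) rfl
  · have h1 : (t a.1 * (a.2 : G)) * (v : G) * (t a.1 * (a.2 : G))⁻¹ = (a.1 : G) := by
      rw [show t a.1 * (a.2 : G) * (v : G) * (t a.1 * (a.2 : G))⁻¹ =
        t a.1 * ((a.2 : G) * (v : G) * (a.2 : G)⁻¹) * (t a.1)⁻¹ by group,
        (commute_of_mem_CU a.2.2).symm.eq, mul_inv_cancel_right, ← htw a.1]
    refine Prod.ext (Subtype.ext h1) (Subtype.ext ?_)
    show (t ⟨_, _⟩)⁻¹ * (t a.1 * (a.2 : G)) = a.2
    simp only [h1, Subtype.coe_eta, inv_mul_cancel_left]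

/-! ### The rank below a subgroup of the top -/

variable (p M e) in
open scoped Classical in
/-- The rank of the block below the maximal pair at `Q`. -/
noncomputable def lv (Q : Subgroup G) : ℕ :=
  if h : ∃ g : Set (Cfsg.IrrCharacter (Subgroup.centralizer (Q : Set G))),
    Cfsg.SubpairLE p M Q g P e then Cfsg.blockRank p h.choose else 0

theorem lv_eq (hM : Cfsg.IsPModular p M) (hmax : Cfsg.IsMaximalBrauerPair p M B P e)
    {Q : Subgroup G} {g : Set (Cfsg.IrrCharacter (Subgroup.centralizer (Q : Set G)))}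
    (hg : Cfsg.SubpairLE p M Q g P e) : lv p M e Q = Cfsg.blockRank p g := by
  have h : ∃ g : Set (Cfsg.IrrCharacter (Subgroup.centralizer (Q : Set G))),
      Cfsg.SubpairLE p M Q g P e := ⟨g, hg⟩
  rw [lv, dif_pos h, subpair_unique hM _ Q P e rfl hmax.1.1 _ g h.choose_spec hg]

variable [Fintype G]

/-- The pairings of the block at the named pair of `v`. -/
theorem sum_pairing_top (hM : Cfsg.IsPModular p M) (hmax : Cfsg.IsMaximalBrauerPair p M B P e)
    [Fintype (Cfsg.IrrCharacter G)] [DecidablePred (· ∈ B)] (v : P) :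
    ∑ χ ∈ Finset.univ.filter (· ∈ B),
      pairing p (χ : G → ℂ) (χ : G → ℂ) (v : G) (eps p M e v) =
      (Nat.card (CU (v : G)) : ℂ) * (lv p M e (Subgroup.zpowers (v : G)) : ℂ) := by
  obtain ⟨g, hg, -, he⟩ := eps_spec hM hmax v
  rw [he, lv_eq hM hmax hg]
  exact sum_pairing_block hM (orderOf_top hM hmax v) ((block_of_subpairLE hM hg).2 hmax.1)

theorem pairing_div_nb (hM : Cfsg.IsPModular p M) (hmax : Cfsg.IsMaximalBrauerPair p M B P e)
    (hab : ∀ x ∈ P, ∀ y ∈ P, x * y = y * x) [Fintype (Cfsg.IrrCharacter G)]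
    [DecidablePred (· ∈ B)] (v : P) :
    ∑ χ ∈ Finset.univ.filter (· ∈ B),
      pairing p (χ : G → ℂ) (χ : G → ℂ) (v : G) (eps p M e v) / (nb p M e v : ℂ) =
      (lv p M e (Subgroup.zpowers (v : G)) : ℂ) / (Nat.card (orbS p M P e (v : G)) : ℂ) := by
  rw [← Finset.sum_div, sum_pairing_top hM hmax, nb_eq hM hmax hab, Nat.cast_mul,
    mul_comm (Nat.card (orbS p M P e (v : G)) : ℂ)]
  exact mul_div_mul_left _ _ (Nat.cast_ne_zero.2 Nat.card_pos.ne')

/-- The rank at the trivial subgroup is the rank of the block. -/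
theorem lv_one (hM : Cfsg.IsPModular p M) (hmax : Cfsg.IsMaximalBrauerPair p M B P e) :
    lv p M e (Subgroup.zpowers ((1 : P) : G)) = Cfsg.blockRank p B := by
  classical
  haveI := Fintype.ofFinite (Cfsg.IrrCharacter G)
  have h1 := sum_pairing_top hM hmax (1 : P)
  have h2 := BlockCharsA.Contrib.sum_contrib_self hM hmax.1.2.1
  rw [ZStar.Principal.finsum_mem_eq_sum_filter] at h2
  simp only [BlockCharsA.Contrib.contrib, ← Finset.mul_sum] at h2
  rw [Finset.sum_congr rfl fun χ hχ => pairing_one hM hmax (Finset.mem_filter.1 hχ).2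
    (Finset.mem_filter.1 hχ).2] at h1
  have hC : Nat.card (CU ((1 : P) : G)) = Nat.card G :=
    Nat.card_congr ((Equiv.subtypeUnivEquiv fun x =>
      mem_CU_of_commute (by simp : Commute ((1 : P) : G) x)))
  rw [h1, hC] at h2
  have hp0 : ((p ^ Cfsg.blockDefect p B : ℕ) : ℂ) ≠ 0 :=
    Nat.cast_ne_zero.2 (pow_ne_zero _ hM.1.ne_zero)
  rw [← mul_assoc, div_mul_cancel₀ _ natCard_ne_zero] at h2
  exact_mod_cast mul_left_cancel₀ hp0 h2

/-- The number of characters as a sum over the top. -/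
theorem card_eq_sum (hM : Cfsg.IsPModular p M) (hmax : Cfsg.IsMaximalBrauerPair p M B P e)
    (hab : ∀ x ∈ P, ∀ y ∈ P, x * y = y * x) [Fintype P] :
    (Nat.card B : ℂ) = ∑ v : P,
      (lv p M e (Subgroup.zpowers (v : G)) : ℂ) / (Nat.card (orbS p M P e (v : G)) : ℂ) := by
  classical
  haveI := Fintype.ofFinite (Cfsg.IrrCharacter G)
  have h1 : ∀ χ ∈ Finset.univ.filter (· ∈ B),
      (1 : ℂ) = ∑ v : P, pairing p (χ : G → ℂ) (χ : G → ℂ) (v : G) (eps p M e v) /
        (nb p M e v : ℂ) := fun χ hχ => by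
    have h := classInner_irr χ χ
    rw [if_pos rfl] at h
    conv at h => lhs; rw [← star_one hM hmax (Finset.mem_filter.1 hχ).2]
    rw [classInner_star_top hM hmax (stable_const 1) (stable_const 1) (irr_isClassFunction χ)
      (irr_isClassFunction χ)] at h
    simpa using h.symm
  rw [Finset.sum_congr rfl fun v _ => (pairing_div_nb hM hmax hab v).symm, Finset.sum_comm,
    ← Finset.sum_congr rfl h1, Finset.sum_const, nsmul_one, Nat.card_eq_fintype_card,
    ← Set.toFinset_card]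
  congr 2
  ext χ
  simp

/-- The stable linear characters act freely. -/
theorem sum_linear_eq_zero (hM : Cfsg.IsPModular p M) (hmax : Cfsg.IsMaximalBrauerPair p M B P e)
    (hab : ∀ x ∈ P, ∀ y ∈ P, x * y = y * x) [Fintype P] (lam : P →* ℂ)
    (hlam : Stable p M e fun v => lam v) {v₀ : P} (h0 : lam v₀ ≠ 1) :
    ∑ v : P, lam v *
      ((lv p M e (Subgroup.zpowers (v : G)) : ℂ) / (Nat.card (orbS p M P e (v : G)) : ℂ)) = 0 := by
  classical
  haveI := Fintype.ofFinite (Cfsg.IrrCharacter G)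
  have h1 : ∀ χ ∈ Finset.univ.filter (· ∈ B),
      (0 : ℂ) = ∑ v : P, lam v * (pairing p (χ : G → ℂ) (χ : G → ℂ) (v : G) (eps p M e v) /
        (nb p M e v : ℂ)) := fun χ hχ => by
    have hχB := (Finset.mem_filter.1 hχ).2
    obtain ⟨ψ, -, hψ, -⟩ := exists_twist hM hmax lam hlam hχB
    have hne : ψ ≠ χ := by
      intro he
      subst he
      obtain ⟨s, hs, hne⟩ := exists_th_ne_zero_center hM hmax (v := v₀)
        (fun y hy => hab y hy _ v₀.2) hχB
      have h1 := th_star (f := (ψ : G → ℂ)) hM (η := fun v => lam v) (irr_isClassFunction _)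
        (by rw [← hψ]; exact irr_isClassFunction _) (orderOf_top hM hmax v₀)
        (eps_mem_BI hM hmax v₀) hs
      rw [← hψ, hat_self hM hmax hlam] at h1
      exact h0 ((mul_eq_right₀ hne).1 h1.symm)
    have h := classInner_irr ψ χ
    rw [if_neg hne, hψ] at h
    conv at h => lhs; arg 2; rw [← star_one hM hmax hχB]
    rw [classInner_star_top hM hmax hlam (stable_const 1) (irr_isClassFunction χ)
      (irr_isClassFunction χ)] at h
    simpa using h.symm
  simp only [← pairing_div_nb hM hmax hab, Finset.mul_sum]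
  rw [Finset.sum_comm, ← Finset.sum_congr rfl h1, Finset.sum_const_zero]

end Cfsg.Agent.Blocks.Star
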