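import Mathlib
import Cfsg.Agent.BlockCharsA.Contrib
import Cfsg.Agent.BlockCharsA.PairNilpotent
import Cfsg.Agent.Lib.Characters.Galois
import Cfsg.Agent.Lib.Blocks.Star.PairCount
import Cfsg.Agent.Lib.Blocks.Star.Unit

/-!
# The characters of a nilpotent block

All fusion is inner, so every class function on the top is stable; the products of a height-zero
character with the irreducible characters of the top are orthonormal and exhaust the block.
-/

set_option linter.style.haveILetI false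
set_option linter.unusedSectionVars false

namespace Cfsg.Agent.Blocks.Star

open Cfsg.Agent.Blocks Cfsg.Agent.Characters
open Cfsg.Agent.BlockCharsA.BrauerPairs Cfsg.Agent.BlockCharsA.PairConj
open Cfsg.Agent.BlockCharsA.PairFusion
open MonoidAlgebra
open scoped ComplexConjugate

universe u

variable {G : Type u} [Group G] [Finite G] {p : ℕ} {M : Ideal Cfsg.AlgInt}
  {B : Set (Cfsg.IrrCharacter G)} {P : Subgroup G}
  {e : Set (Cfsg.IrrCharacter (Subgroup.centralizer (P : Set G)))}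

/-- In a nilpotent block every class function on the top is stable. -/
theorem stable_of_nilpotent (hM : Cfsg.IsPModular p M) (hnil : Cfsg.IsNilpotentBlock p M B)
    (hmax : Cfsg.IsMaximalBrauerPair p M B P e) {η : P → ℂ} (hη : Cfsg.IsClassFunction P η) :
    Stable p M e η := by
  intro u v x hv hε
  have hS := isBlockFusion_blockSystem hM hmax
  obtain ⟨gu, hgu, -, heu⟩ := eps_spec hM hmax u
  obtain ⟨gv, hgv, -, hev⟩ := eps_spec hM hmax v
  have hpair : cjPair x (⟨Subgroup.zpowers (u : G), gu⟩ : Cfsg.BrauerPairIdx G) =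
      ⟨Subgroup.zpowers (v : G), gv⟩ := by
    refine idx_ext ((cj_zpowers x _).trans (congrArg Subgroup.zpowers hv.symm)) fun z => ?_
    simp only [cjPair]
    rw [coeff_conjBlock', ← coeff_cjE, ← heu, hε, hev]
  have hle : (Subgroup.zpowers (u : G)).map (MulAut.conj x).toMonoidHom ≤ P := by
    rw [show (Subgroup.zpowers (u : G)).map (MulAut.conj x).toMonoidHom = _ from
      cj_zpowers x (u : G), ← hv]
    exact Subgroup.zpowers_le.2 v.2
  have hφ : Cfsg.conjHom (Subgroup.zpowers (u : G)) x ∈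
      (blockSystem hM hmax).Hom (Subgroup.zpowers (u : G)) := by
    refine (hS.2 _ _).2 ⟨Subgroup.zpowers_le.2 u.2, x, fun w => rfl, hle, gu, hgu, ?_⟩
    show Relation.ReflTransGen (Cfsg.NormalSubpairRel p M)
      (cjPair x ⟨Subgroup.zpowers (u : G), gu⟩) ⟨P, e⟩
    rw [hpair]
    exact hgv
  rw [BlockCharsA.PairNilpotent.eq_inner_of_nilpotent hM hS hnil] at hφ
  obtain ⟨-, w, hw, hφw⟩ := hφ
  have h1 : x * (u : G) * x⁻¹ = w * (u : G) * w⁻¹ := hφw ⟨(u : G), Subgroup.mem_zpowers _⟩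
  have h2 : v = ⟨w, hw⟩ * u * (⟨w, hw⟩ : P)⁻¹ := Subtype.ext (by rw [hv, h1]; rfl)
  rw [h2, hη u ⟨w, hw⟩]

/-- A positive generalized character with positive mean one is one everywhere. -/
theorem eq_one_of_positive {H : Type*} [Group H] [Finite H] [Fintype H] {f : H → ℂ}
    (hgen : Cfsg.IsGeneralizedCharacter H f) (hpos : ∀ g, ∃ r : ℝ, 0 < r ∧ f g = (r : ℂ))
    (hsum : ∑ g, f g = (Nat.card H : ℂ)) : ∀ g, f g = 1 := by
  classical
  set N := Nat.card H with hN
  have hN0 : 0 < N := Nat.card_pos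
  haveI : NeZero N := ⟨hN0.ne'⟩
  set ζ := Complex.exp (2 * Real.pi * Complex.I / N)
  have hζ : IsPrimitiveRoot ζ N := Complex.isPrimitiveRoot_exp N hN0.ne'
  choose r hr0 hr using hpos
  obtain ⟨a, b, ⟨na, ρ, rfl⟩, ⟨nb, σ, rfl⟩, hf⟩ := id hgen
  have hR : ∀ μ ∈ primitiveRoots N ℂ, ∃ k, k.Coprime N ∧ ζ ^ k = μ := fun μ hμ => by
    obtain ⟨k, _, hk, hk'⟩ := (hζ.isPrimitiveRoot_iff (ξ := μ) (k := N)).1
      ((mem_primitiveRoots hN0).1 hμ)
    exact ⟨k, hk, hk'⟩
  choose! k hk hk' using hR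
  have hge : ∀ g : H, 0 ≤ ∑ μ ∈ primitiveRoots N ℂ, Real.log (r (g ^ k μ)) := by
    intro g
    obtain ⟨Q, hQ⟩ := exists_poly_values ρ g hN0 pow_card_eq_one' hζ
    obtain ⟨R, hR⟩ := exists_poly_values σ g hN0 pow_card_eq_one' hζ
    have hval : ∀ μ ∈ primitiveRoots N ℂ, Polynomial.aeval μ (Q - R) = (r (g ^ k μ) : ℂ) := fun μ hμ => by
      rw [map_sub, ← hr, hf, Pi.sub_apply, hQ, hR, hk' μ hμ]
    have hone := one_le_prod_norm_primitiveRoots hN0 (Q - R) (fun μ hμ => by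
      rw [hval μ hμ, ← hr, hf, Pi.sub_apply]
      exact (rep_value_isIntegral ρ _).sub (rep_value_isIntegral σ _))
      fun μ hμ => by rw [hval μ hμ]; exact Complex.ofReal_ne_zero.2 (hr0 _).ne'
    rw [Finset.prod_congr rfl fun μ hμ => by
      rw [hval μ hμ, Complex.norm_real, Real.norm_of_nonneg (hr0 _).le]] at hone
    rw [← Real.log_prod fun μ _ => (hr0 _).ne']
    exact Real.log_nonneg hone
  have hperm : ∀ μ ∈ primitiveRoots N ℂ,
      ∑ g, Real.log (r (g ^ k μ)) = ∑ g, Real.log (r g) := fun μ hμ => by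
    refine Fintype.sum_equiv (powCoprime (G := H) (hk μ hμ).symm) _ _ fun g => ?_
    rfl
  have h1 : (0 : ℝ) ≤ ∑ g, Real.log (r g) := by
    have h2 : (0 : ℝ) ≤ ∑ g : H, ∑ μ ∈ primitiveRoots N ℂ, Real.log (r (g ^ k μ)) :=
      Finset.sum_nonneg fun g _ => hge g
    rw [Finset.sum_comm, Finset.sum_congr rfl hperm, Finset.sum_const, nsmul_eq_mul] at h2
    exact nonneg_of_mul_nonneg_right h2
      (Nat.cast_pos.2 (Finset.card_pos.2 ⟨ζ, (mem_primitiveRoots hN0).2 hζ⟩))
  have h3 : ∑ g, r g = (N : ℝ) := by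
    apply Complex.ofReal_injective
    push_cast
    simpa [hr] using hsum
  have h4 : ∑ g, (r g - 1 - Real.log (r g)) ≤ 0 := by
    rw [Finset.sum_sub_distrib, Finset.sum_sub_distrib, h3, Finset.sum_const, Finset.card_univ,
      nsmul_one, ← Nat.card_eq_fintype_card, ← hN, sub_self, zero_sub]
    linarith
  intro g
  have hnn : ∀ g, 0 ≤ r g - 1 - Real.log (r g) := fun g => by
    linarith [Real.log_le_sub_one_of_pos (hr0 g)]
  have h5 := (Finset.sum_eq_zero_iff_of_nonneg fun g _ => hnn g).1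
    (le_antisymm h4 (Finset.sum_nonneg fun g _ => hnn g)) g (Finset.mem_univ _)
  by_contra hne
  have hr1 : r g ≠ 1 := fun h => hne (by rw [hr, h, Complex.ofReal_one])
  linarith [Real.log_lt_sub_one_of_pos (hr0 g) hr1]

variable [Fintype G]

/-- In a nilpotent block the pairing of a height-zero character with itself is constant over
the top. -/
theorem pairing_nilpotent (hM : Cfsg.IsPModular p M) (hnil : Cfsg.IsNilpotentBlock p M B)
    (hmax : Cfsg.IsMaximalBrauerPair p M B P e) {χ₀ : Cfsg.IrrCharacter G} (hχ₀ : χ₀ ∈ B)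
    (h00 : Cfsg.blockHeight p B (χ₀ : G → ℂ) = 0) [Fintype P] (v : P) :
    (Nat.card P : ℂ) *
      (pairing p (χ₀ : G → ℂ) (χ₀ : G → ℂ) (v : G) (eps p M e v) / (nb p M e v : ℂ)) = 1 := by
  classical
  haveI := Fintype.ofFinite (Cfsg.IrrCharacter P)
  have hB : Cfsg.IsPBlock M B := hmax.1.2.1
  have hc₀ := irr_isClassFunction χ₀
  have hst : ∀ ζ : Cfsg.IrrCharacter P, Stable p M e (ζ : P → ℂ) := fun ζ =>
    stable_of_nilpotent hM hnil hmax (irr_isClassFunction ζ)
  set T : Cfsg.IrrCharacter P → G → ℂ := fun ζ => star hM (wt p M e (ζ : P → ℂ)) (χ₀ : G → ℂ)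
  have hTgen : ∀ ζ, Cfsg.IsGeneralizedCharacter G (T ζ) := fun ζ =>
    isGen_star hM (weightSys hM hmax (isGen_of_isCharacter (irr_isCharacter ζ)) (hst ζ))
      (irr_isCharacter χ₀)
  -- the density of the inner product
  set X : P → ℂ := fun v => (Nat.card P : ℂ) *
    (pairing p (χ₀ : G → ℂ) (χ₀ : G → ℂ) (v : G) (eps p M e v) / (nb p M e v : ℂ)) with hX
  have hdens : ∀ {f : G → ℂ}, Cfsg.IsClassFunction G f → Cfsg.IsClassFunction P fun v : P =>
      (Nat.card P : ℂ) *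
        (pairing p (χ₀ : G → ℂ) f (v : G) (eps p M e v) / (nb p M e v : ℂ)) := fun {f} hf v w => by
    simp only
    rw [nb_conj hM hmax, ← eps_conj_top hM hmax v w, Subgroup.coe_mul, Subgroup.coe_mul,
      Subgroup.coe_inv, pairing_conj hc₀ hf]
  have hXint : ∀ ζ : Cfsg.IrrCharacter P, ∃ z : ℤ, Cfsg.classInner (ζ : P → ℂ) X = (z : ℂ) := by
    intro ζ
    obtain ⟨z, hz⟩ := classInner_gen_int (hTgen ζ) (isGen_of_isCharacter (irr_isCharacter χ₀))
    refine ⟨z, ?_⟩
    rw [← hz]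
    conv_rhs => rw [← star_one hM hmax hχ₀]
    rw [classInner_star_top hM hmax (hst ζ) (stable_const 1) hc₀ hc₀, classInner_def,
      Finset.mul_sum]
    refine Finset.sum_congr rfl fun v _ => ?_
    simp only [X, pairing_self, map_mul, map_div₀, Complex.conj_natCast, Complex.conj_ofReal,
      map_one, mul_one]
    field_simp [natCard_ne_zero]
  have hXgen : Cfsg.IsGeneralizedCharacter P X := by
    refine isGen_of_classInner_int (hdens hc₀) fun ζ hζ => ?_
    obtain ⟨z, hz⟩ := hXint ⟨ζ, hζ⟩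
    exact ⟨z, by rw [classInner_conj_symm, show Cfsg.classInner ζ X = (z : ℂ) from hz, map_intCast]⟩
  have hXpos : ∀ v, ∃ r : ℝ, 0 < r ∧ X v = (r : ℂ) := fun v => by
    refine ⟨(Nat.card P : ℝ) * ((∑ s ∈ regAt p (v : G),
      ‖th (χ₀ : G → ℂ) (v : G) (eps p M e v) s‖ ^ 2) / (nb p M e v : ℝ)), ?_, ?_⟩
    · refine mul_pos (Nat.cast_pos.2 Nat.card_pos) (div_pos ?_ (Nat.cast_pos.2 (nb_pos v)))
      obtain ⟨g, hg, -, he⟩ := eps_spec hM hmax v
      obtain ⟨s, hs, hne⟩ := exists_th_ne_zero hM (orderOf_top hM hmax v)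
        ((block_of_subpairLE hM hg).2 hmax.1) hχ₀ h00
      rw [he]
      exact Finset.sum_pos' (fun _ _ => sq_nonneg _) ⟨s, hs, pow_pos (norm_pos_iff.2 hne) 2⟩
    · simp only [X, pairing_self]
      push_cast
      rfl
  have hXsum : ∑ v, X v = (Nat.card P : ℂ) := by
    have h := classInner_irr χ₀ χ₀
    rw [if_pos rfl] at h
    conv at h => lhs; rw [← star_one hM hmax hχ₀]
    rw [classInner_star_top hM hmax (stable_const 1) (stable_const 1) hc₀ hc₀] at h
    simp only [map_one, one_mul] at h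
    simp only [X, ← Finset.mul_sum, h, mul_one]
  exact eq_one_of_positive hXgen hXpos hXsum v

/-- The characters of a nilpotent block, with the values of the parts of the height-zero
character. -/
theorem exists_bijection_full [Fintype P] (hM : Cfsg.IsPModular p M)
    (hnil : Cfsg.IsNilpotentBlock p M B) (hmax : Cfsg.IsMaximalBrauerPair p M B P e) :
    ∃ χ₀ ∈ B, Cfsg.blockHeight p B (χ₀ : G → ℂ) = 0 ∧
      (∀ v : P, (Nat.card P : ℂ) *
        pairing p (χ₀ : G → ℂ) (χ₀ : G → ℂ) (v : G) (eps p M e v) = (nb p M e v : ℂ)) ∧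
      ∃ Φ : Cfsg.IrrCharacter P ≃ B, ∀ ζ : Cfsg.IrrCharacter P,
        (((Φ ζ : B) : Cfsg.IrrCharacter G) : G → ℂ) =
            star hM (wt p M e (ζ : P → ℂ)) (χ₀ : G → ℂ) ∧
        Cfsg.blockHeight p B (((Φ ζ : B) : Cfsg.IrrCharacter G) : G → ℂ) =
          (Cfsg.charDegree (ζ : P → ℂ)).factorization p ∧
        ∀ s : G, ¬ p ∣ orderOf s →
          (((Φ ζ : B) : Cfsg.IrrCharacter G) : G → ℂ) s =
            (ζ : P → ℂ) 1 * (χ₀ : G → ℂ) s := by
  classical
  haveI := Fintype.ofFinite (Cfsg.IrrCharacter P)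
  have hB : Cfsg.IsPBlock M B := hmax.1.2.1
  obtain ⟨χ₀, hχ₀, h00⟩ := exists_height_zero hM hB
  have hc₀ := irr_isClassFunction χ₀
  have hst : ∀ ζ : Cfsg.IrrCharacter P, Stable p M e (ζ : P → ℂ) := fun ζ =>
    stable_of_nilpotent hM hnil hmax (irr_isClassFunction ζ)
  set T : Cfsg.IrrCharacter P → G → ℂ := fun ζ => star hM (wt p M e (ζ : P → ℂ)) (χ₀ : G → ℂ)
  have hTgen : ∀ ζ, Cfsg.IsGeneralizedCharacter G (T ζ) := fun ζ =>
    isGen_star hM (weightSys hM hmax (isGen_of_isCharacter (irr_isCharacter ζ)) (hst ζ))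
      (irr_isCharacter χ₀)
  -- the density of the inner product
  set X : P → ℂ := fun v => (Nat.card P : ℂ) *
    (pairing p (χ₀ : G → ℂ) (χ₀ : G → ℂ) (v : G) (eps p M e v) / (nb p M e v : ℂ)) with hX
  have hdens : ∀ {f : G → ℂ}, Cfsg.IsClassFunction G f → Cfsg.IsClassFunction P fun v : P =>
      (Nat.card P : ℂ) *
        (pairing p (χ₀ : G → ℂ) f (v : G) (eps p M e v) / (nb p M e v : ℂ)) := fun {f} hf v w => by
    simp only
    rw [nb_conj hM hmax, ← eps_conj_top hM hmax v w, Subgroup.coe_mul, Subgroup.coe_mul,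
      Subgroup.coe_inv, pairing_conj hc₀ hf]
  have hX1 : ∀ v, X v = 1 := fun v => pairing_nilpotent hM hnil hmax hχ₀ h00 v
  -- orthonormality
  have horth : ∀ ζ ζ' : Cfsg.IrrCharacter P,
      Cfsg.classInner (T ζ) (T ζ') = if ζ = ζ' then 1 else 0 := by
    intro ζ ζ'
    rw [← classInner_irr, classInner_star_top hM hmax (hst ζ) (hst ζ') hc₀ hc₀, classInner_def,
      Finset.mul_sum]
    refine Finset.sum_congr rfl fun v _ => ?_
    have h := hX1 v
    simp only [X] at h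
    rw [mul_comm, eq_comm, inv_mul_eq_iff_eq_mul₀ natCard_ne_zero, ← mul_assoc, h, one_mul]
  have hreg : ∀ ζ : Cfsg.IrrCharacter P, ∀ s : G, ¬ p ∣ orderOf s →
      T ζ s = (ζ : P → ℂ) 1 * (χ₀ : G → ℂ) s := fun ζ s hs =>
    star_regular hM hmax (hst ζ) hχ₀ hs
  have hone : ∀ ζ, T ζ 1 = (ζ : P → ℂ) 1 * (χ₀ : G → ℂ) 1 := fun ζ =>
    hreg ζ 1 (by simp [hM.1.ne_one])
  have hirr : ∀ ζ, Cfsg.IsIrrCharacter G (T ζ) := fun ζ => by
    have h := horth ζ ζ
    rw [if_pos rfl] at h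
    refine (isGen_norm_one (hTgen ζ) h).resolve_right fun hn => ?_
    obtain ⟨a, ha, haT⟩ := irr_one_pos hn
    obtain ⟨b, hb, hbζ⟩ := irr_one_pos ζ.2
    obtain ⟨c, hc, hcχ⟩ := irr_one_pos χ₀.2
    rw [Pi.neg_apply, hone, hbζ, hcχ] at haT
    have h2 : ((a + b * c : ℕ) : ℂ) = 0 := by push_cast; rw [← haT]; ring
    rw [Nat.cast_eq_zero] at h2
    omega
  have hmem : ∀ ζ, (⟨T ζ, hirr ζ⟩ : Cfsg.IrrCharacter G) ∈ B := fun ζ =>
    mem_of_reg_eq hM hB hχ₀ (irr_one_ne_zero ζ.2) (hreg ζ)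
  let Φ₀ : Cfsg.IrrCharacter P → B := fun ζ => ⟨⟨T ζ, hirr ζ⟩, hmem ζ⟩
  have hinj : Function.Injective Φ₀ := fun ζ ζ' h => by
    have hT : T ζ = T ζ' := congrArg (fun z : B => ((z : Cfsg.IrrCharacter G) : G → ℂ)) h
    by_contra hne
    have h1 := horth ζ ζ'
    rw [hT, horth, if_pos rfl, if_neg hne] at h1
    exact one_ne_zero h1
  have hsurj : Function.Surjective Φ₀ := by
    rintro ⟨ψ, hψ⟩
    by_contra hno
    push Not at hno
    have hcψ := irr_isClassFunction ψ
    set Y : P → ℂ := fun v => (Nat.card P : ℂ) *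
      (pairing p (χ₀ : G → ℂ) (ψ : G → ℂ) (v : G) (eps p M e v) / (nb p M e v : ℂ)) with hY
    have hYc : Cfsg.IsClassFunction P Y := hdens hcψ
    have hY0 : Y = 0 := by
      have hconj : Cfsg.IsClassFunction P fun v => conj (Y v) := fun v w => by
        simp only [hYc v w]
      have h := classFun_eq_sum hconj
      rw [Finset.sum_eq_zero fun ζ _ => ?_] at h
      · funext v
        simpa using congrFun h v
      · rw [show Cfsg.classInner (fun v => conj (Y v)) (ζ : P → ℂ) =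
            conj (Cfsg.classInner (T ζ) (ψ : G → ℂ)) from ?_, classInner_irr ⟨T ζ, hirr ζ⟩ ψ,
          if_neg fun e => hno ζ (Subtype.ext e), map_zero, zero_smul]
        conv_rhs => rw [← star_one hM hmax hψ]
        rw [classInner_star_top hM hmax (hst ζ) (stable_const 1) hc₀ hcψ, map_sum, classInner_def,
          Finset.mul_sum]
        refine Finset.sum_congr rfl fun v _ => ?_
        simp only [Y, map_mul, map_div₀, Complex.conj_natCast, map_one, mul_one]
        field_simp [natCard_ne_zero]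
    have h1 := congrFun hY0 1
    simp only [Y, Pi.zero_apply, pairing_one hM hmax hχ₀ hψ] at h1
    have h0 : regSum p (χ₀ : G → ℂ) (ψ : G → ℂ) = 0 :=
      ((div_eq_zero_iff.1 ((mul_eq_zero.1 h1).resolve_left natCard_ne_zero)).resolve_right
        (Nat.cast_ne_zero.2 (nb_pos _).ne'))
    obtain ⟨z, hz, -, hz0, -⟩ := BlockCharsA.Contrib.exists_int hM hB hχ₀ hψ
    refine hz0 h00 ?_
    rw [BlockCharsA.Contrib.contrib, h0, mul_zero] at hz
    exact_mod_cast hz.symm
  refine ⟨χ₀, hχ₀, h00, fun v => ?_, Equiv.ofBijective Φ₀ ⟨hinj, hsurj⟩,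
    fun ζ => ⟨rfl, ?_, hreg ζ⟩⟩
  · have h := hX1 v
    simp only [X] at h
    field_simp [(Nat.cast_ne_zero.2 (nb_pos v).ne' : (nb p M e v : ℂ) ≠ 0)] at h
    exact h
  show Cfsg.blockHeight p B ((⟨T ζ, hirr ζ⟩ : Cfsg.IrrCharacter G) : G → ℂ) = _
  have hd := degree_factorization_eq hM hB (hmem ζ)
  have hd₀ := degree_factorization_eq hM hB hχ₀
  have hdeg : Cfsg.charDegree ((⟨T ζ, hirr ζ⟩ : Cfsg.IrrCharacter G) : G → ℂ) =
      Cfsg.charDegree (ζ : P → ℂ) * Cfsg.charDegree (χ₀ : G → ℂ) := by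
    apply Nat.cast_injective (R := ℂ)
    rw [Nat.cast_mul, charDegree_cast, charDegree_cast, charDegree_cast]
    exact hone ζ
  rw [hdeg, Nat.factorization_mul (charDegree_pos ζ).ne' (charDegree_pos χ₀).ne',
    Finsupp.add_apply] at hd
  rw [h00] at hd₀
  omega

/-- The characters of a nilpotent block: products of one height-zero character with the
irreducible characters of the top. -/
theorem exists_bijection (hM : Cfsg.IsPModular p M) (hnil : Cfsg.IsNilpotentBlock p M B)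
    (hmax : Cfsg.IsMaximalBrauerPair p M B P e) :
    ∃ χ₀ ∈ B, ∃ Φ : Cfsg.IrrCharacter P ≃ B, ∀ ζ : Cfsg.IrrCharacter P,
      Cfsg.blockHeight p B (((Φ ζ : B) : Cfsg.IrrCharacter G) : G → ℂ) =
          (Cfsg.charDegree (ζ : P → ℂ)).factorization p ∧
        ∀ s : G, ¬ p ∣ orderOf s →
          (((Φ ζ : B) : Cfsg.IrrCharacter G) : G → ℂ) s =
            (ζ : P → ℂ) 1 * (χ₀ : G → ℂ) s := by
  haveI := Fintype.ofFinite P
  obtain ⟨χ₀, hχ₀, -, -, Φ, hΦ⟩ := exists_bijection_full hM hnil hmax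
  exact ⟨χ₀, hχ₀, Φ, fun ζ => (hΦ ζ).2⟩

end Cfsg.Agent.Blocks.Star
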