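import Mathlib
import Cfsg.Agent.Lib.Blocks.Star.Unit

/-!
# The action of the linear characters trivial on the focal subgroup
-/

set_option linter.style.haveILetI false
set_option linter.unusedSectionVars false

namespace Cfsg.Agent.Blocks.Star

open Cfsg.Agent.Blocks Cfsg.Agent.Characters
open Cfsg.Agent.BlockCharsA.BrauerPairs
open MonoidAlgebra

universe u

variable {G : Type u} [Group G] [Finite G] {p : ℕ} {M : Ideal Cfsg.AlgInt}

theorem dvd_card_of_stabilizer {A X : Type*} [Group A] [Finite A] [MulAction A X] [Finite X]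
    (K : Subgroup A) (h : ∀ x : X, MulAction.stabilizer A x ≤ K) : K.index ∣ Nat.card X := by
  classical
  haveI := Fintype.ofFinite (MulAction.orbitRel.Quotient A X)
  rw [Nat.card_congr (MulAction.selfEquivSigmaOrbitsQuotientStabilizer A X), Nat.card_sigma]
  exact Finset.dvd_sum fun ω _ => Subgroup.index_dvd_of_le (h _)

/-- The commutators lie in the focal subgroup. -/
theorem commutator_mem_focal {P : Subgroup G} (F : Cfsg.FusionSystem P) {g v : G} (hg : g ∈ P)
    (hv : v ∈ P) : v⁻¹ * (g * v * g⁻¹) ∈ F.focalSubgroup :=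
  Subgroup.subset_closure ⟨P, Cfsg.conjHom P g, ⟨v, hv⟩, F.conj_mem le_rfl hg, rfl⟩

/-- Divisibility of the number of characters of one height, when they all have parts along `Z`. -/
theorem dvd_card_height (hM : Cfsg.IsPModular p M) {B : Set (Cfsg.IrrCharacter G)} {P : Subgroup G}
    {e : Set (Cfsg.IrrCharacter (Subgroup.centralizer (P : Set G)))} {F : Cfsg.FusionSystem P}
    (hF : Cfsg.IsBlockFusionSystemOn p M B P e F) (Z : Subgroup P) (h : ℕ)
    (hne : ∀ χ : Cfsg.IrrCharacter G, χ ∈ B → Cfsg.blockHeight p B (χ : G → ℂ) = h →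
      ∀ v ∈ Z, ∃ s ∈ regAt p (v : G), th (χ : G → ℂ) (v : G) (eps p M e v) s ≠ 0) :
    (F.focalSubgroup.subgroupOf P).relIndex Z ∣
      Nat.card {χ : Cfsg.IrrCharacter G // χ ∈ B ∧ Cfsg.blockHeight p B (χ : G → ℂ) = h} := by
  classical
  set N := F.focalSubgroup.subgroupOf P
  have hcomm : ∀ g v : P, v⁻¹ * (g * v * g⁻¹) ∈ N := fun g v => by
    rw [Subgroup.mem_subgroupOf]
    exact commutator_mem_focal F g.2 v.2
  haveI : N.Normal := ⟨fun v hv g => by
    have := N.mul_mem hv (hcomm g v)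
    rwa [mul_inv_cancel_left] at this⟩
  letI : CommGroup (P ⧸ N) :=
    { (inferInstance : Group (P ⧸ N)) with
      mul_comm := by
        intro a b
        induction a using QuotientGroup.induction_on with | H a => ?_
        induction b using QuotientGroup.induction_on with | H b => ?_
        rw [← QuotientGroup.mk_mul, ← QuotientGroup.mk_mul, QuotientGroup.eq]
        simpa [mul_assoc] using hcomm a⁻¹ b }
  haveI : Finite (P ⧸ N →* ℂˣ) := Finite.of_equiv _
    (CommGroup.monoidHom_mulEquiv_of_hasEnoughRootsOfUnity (P ⧸ N) ℂ).some.toEquiv.symm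
  let L : (P ⧸ N →* ℂˣ) → (P →* ℂ) := fun φ =>
    (Units.coeHom ℂ).comp (φ.comp (QuotientGroup.mk' N))
  have hL : ∀ φ, Stable p M e fun v => L φ v := fun φ =>
    stable_of_focal hM hF (L φ) fun z hz => by
      have h1 : QuotientGroup.mk' N z = 1 :=
        (QuotientGroup.eq_one_iff z).2 (Subgroup.mem_subgroupOf.2 hz)
      show ((φ (QuotientGroup.mk' N z) : ℂˣ) : ℂ) = 1
      rw [h1, map_one, Units.val_one]
  let X := {χ : Cfsg.IrrCharacter G // χ ∈ B ∧ Cfsg.blockHeight p B (χ : G → ℂ) = h}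
  let W : (P ⧸ N →* ℂˣ) → G → MonoidAlgebra ℂ G := fun φ => wt p M e fun v => L φ v
  have hex : ∀ (φ : P ⧸ N →* ℂˣ) (χ : X), ∃ ψ : X,
      (ψ.1 : G → ℂ) = star hM (W φ) (χ.1 : G → ℂ) := by
    intro φ χ
    obtain ⟨ψ, hψB, hψ, hψ1⟩ := exists_twist hM hF.1 (L φ) (hL φ) χ.2.1
    refine ⟨⟨ψ, hψB, ?_⟩, hψ⟩
    rw [← χ.2.2]
    simp only [Cfsg.blockHeight, Cfsg.charDegree, hψ1]
  choose tw htw using hex
  letI : MulAction (P ⧸ N →* ℂˣ) X :=
    { smul := tw
      one_smul := fun χ => Subtype.ext (Subtype.ext (by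
        show ((tw 1 χ).1 : G → ℂ) = _
        rw [htw]
        show star hM (wt p M e fun v => L 1 v) (χ.1 : G → ℂ) = _
        rw [show (fun v => L 1 v) = fun _ : P => (1 : ℂ) from funext fun v => by simp [L]]
        exact star_one hM hF.1 χ.2.1))
      mul_smul := fun φ φ' χ => Subtype.ext (Subtype.ext (by
        show ((tw (φ * φ') χ).1 : G → ℂ) = ((tw φ (tw φ' χ)).1 : G → ℂ)
        rw [htw, htw, htw]
        show star hM (wt p M e fun v => L (φ * φ') v) (χ.1 : G → ℂ) =
          star hM (wt p M e fun v => L φ v) (star hM (wt p M e fun v => L φ' v) (χ.1 : G → ℂ))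
        rw [star_star hM _ _ (irr_isClassFunction χ.1)]
        · congr 2
        · rw [show star hM (wt p M e fun v => L φ' v) (χ.1 : G → ℂ) = ((tw φ' χ).1 : G → ℂ) from
            (htw φ' χ).symm]
          exact irr_isClassFunction _)) }
  set Z' := Z.map (QuotientGroup.mk' N)
  have hdiv : (MonoidHom.domRestrictHom Z' ℂˣ).ker.index ∣ Nat.card X := by
    refine dvd_card_of_stabilizer _ fun χ φ hφ => ?_
    have hfix : star hM (W φ) (χ.1 : G → ℂ) = (χ.1 : G → ℂ) := by
      rw [← htw]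
      exact congrArg (fun ψ : X => (ψ.1 : G → ℂ)) hφ
    rw [MonoidHom.mem_ker]
    refine MonoidHom.ext ?_
    rintro ⟨_, ⟨v, hv, rfl⟩⟩
    obtain ⟨s, hs, hne'⟩ := hne χ.1 χ.2.1 χ.2.2 v hv
    have h1 := th_star (f := (χ.1 : G → ℂ)) hM (η := fun v => L φ v) (irr_isClassFunction _)
      (by rw [show star hM (wt p M e fun v => L φ v) (χ.1 : G → ℂ) = (χ.1 : G → ℂ) from hfix]
          exact irr_isClassFunction _)
      (orderOf_top hM hF.1 v) (eps_mem_BI hM hF.1 v) hs
    rw [show star hM (wt p M e fun v => L φ v) (χ.1 : G → ℂ) = (χ.1 : G → ℂ) from hfix,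
      hat_self hM hF.1 (hL φ)] at h1
    have h2 : L φ v = 1 := (mul_eq_right₀ hne').1 h1.symm
    exact Units.ext (show (φ (QuotientGroup.mk' N v) : ℂ) = ((1 : ℂˣ) : ℂ) from h2.trans Units.val_one.symm)
  have hindex : (MonoidHom.domRestrictHom Z' ℂˣ).ker.index = N.relIndex Z := by
    rw [Subgroup.index_ker, MonoidHom.range_eq_top.2 (MonoidHom.domRestrict_surjective ℂ Z'),
      Subgroup.card_top, CommGroup.card_monoidHom_of_hasEnoughRootsOfUnity]
    conv_rhs => rw [← QuotientGroup.ker_mk' N]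
    rw [Subgroup.relIndex_ker]
  rwa [hindex] at hdiv

end Cfsg.Agent.Blocks.Star
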