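import Mathlib
import Cfsg.Agent.Lib.Characters.Galois
import Cfsg.Agent.Lib.Characters.Kernel
import Cfsg.Agent.Lib.Characters.Integrality
import Cfsg.Agent.Lib.Characters.Induction
import Cfsg.Agent.Lib.Blocks.LocalRing

/-!
# Functions on an abelian `p`-group that behave like generalized characters off the identity

`Good M F`: on the non-identity elements `F` has a nonzero integer multiple that is a generalized
character, and is congruent to a generalized character modulo the group order. Such functions are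
closed under products, conjugation, automorphisms and inversion of units, and their coordinates
against `μ - 1` are integers once the values are algebraic integers.
-/

set_option linter.style.haveILetI false
set_option linter.unusedSectionVars false

namespace Cfsg.Agent.Blocks.Star

open Cfsg.Agent.Blocks Cfsg.Agent.Characters
open scoped ComplexConjugate

universe u

variable {A : Type u} [Group A] [Fintype A]

/-- The value at one of a generalized character is an integer. -/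
theorem gen_one_int {θ : A → ℂ} (hθ : Cfsg.IsGeneralizedCharacter A θ) :
    ∃ z : ℤ, θ 1 = (z : ℂ) := by
  obtain ⟨a, b, ha, hb, rfl⟩ := hθ
  obtain ⟨n, hn⟩ := char_one_nat ha
  obtain ⟨m, hm⟩ := char_one_nat hb
  exact ⟨(n : ℤ) - m, by simp [hn, hm]⟩

theorem gen_isIntegral {θ : A → ℂ} (hθ : Cfsg.IsGeneralizedCharacter A θ) (a : A) :
    IsIntegral ℤ (θ a) := by
  obtain ⟨c, d, hc, hd, rfl⟩ := hθ
  exact (char_value_isIntegral hc a).sub (char_value_isIntegral hd a)

theorem isGen_const (n : ℤ) : Cfsg.IsGeneralizedCharacter A (fun _ => (n : ℂ)) := by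
  have e : (fun _ : A => (n : ℂ)) = (n : ℂ) • (fun _ : A => (1 : ℂ)) := by funext a; simp
  rw [e]
  exact isGen_intSmul (isGen_of_isCharacter (isCharacter_one (G := A))) n

theorem isGen_monoidHom (μ : A →* ℂ) : Cfsg.IsGeneralizedCharacter A fun a => μ a :=
  isGen_of_isCharacter (isCharacter_of_isIrr (isIrrCharacter_monoidHom μ))

theorem hom_inv (μ : A →* ℂ) (a : A) : μ a⁻¹ = (μ a)⁻¹ :=
  eq_inv_of_mul_eq_one_left (by rw [← map_mul, inv_mul_cancel, map_one])

theorem gen_conj_eq {θ : A → ℂ} (hθ : Cfsg.IsGeneralizedCharacter A θ) (a : A) :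
    conj (θ a) = θ a⁻¹ := by
  obtain ⟨c, d, hc, hd, rfl⟩ := hθ
  simp only [Pi.sub_apply, map_sub, char_inv hc, char_inv hd]

theorem isGen_conj {θ : A → ℂ} (hcomm : ∀ a b : A, a * b = b * a)
    (hθ : Cfsg.IsGeneralizedCharacter A θ) :
    Cfsg.IsGeneralizedCharacter A fun a => conj (θ a) := by
  have h := isGen_comp ({ toFun := fun a => a⁻¹
                          map_one' := inv_one
                          map_mul' := fun a b => by rw [mul_inv_rev]; exact hcomm _ _ } : A →* A) hθ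
  have e : (fun a => conj (θ a)) = fun a => θ a⁻¹ := funext (gen_conj_eq hθ)
  rw [e]
  exact h

/-- The twisted sum of a generalized character is a multiple of the group order. -/
theorem linear_sum_of_gen {θ : A → ℂ} (hθ : Cfsg.IsGeneralizedCharacter A θ) (μ : A →* ℂ) :
    ∃ z : ℤ, ∑ a, θ a * μ a = (Nat.card A : ℂ) * z := by
  let ν : A →* ℂ := (starRingEnd ℂ).toMonoidHom.comp μ
  obtain ⟨z, hz⟩ := classInner_gen_int hθ (isGen_monoidHom ν)
  refine ⟨z, ?_⟩
  rw [classInner_def, inv_mul_eq_iff_eq_mul₀ natCard_ne_zero] at hz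
  rw [← hz]
  refine Finset.sum_congr rfl fun a _ => ?_
  show _ = θ a * conj (conj (μ a))
  rw [Complex.conj_conj]

/-- On an abelian group integrality of all twisted sums gives a generalized character. -/
theorem gen_of_linear_sums (hcomm : ∀ a b : A, a * b = b * a) {θ : A → ℂ}
    (h : ∀ μ : A →* ℂ, ∃ z : ℤ, ∑ a, θ a * μ a = (Nat.card A : ℂ) * z) :
    Cfsg.IsGeneralizedCharacter A θ := by
  refine isGen_of_classInner_int (fun x g => by rw [hcomm g x, mul_inv_cancel_right]) fun χ hχ => ?_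
  set l := linearOfDegreeOne (isCharacter_of_isIrr hχ) (irr_degree_one_of_comm hcomm hχ)
  obtain ⟨z, hz⟩ := h ((starRingEnd ℂ).toMonoidHom.comp ((Units.coeHom ℂ).comp l))
  refine ⟨z, ?_⟩
  rw [classInner_def, inv_mul_eq_iff_eq_mul₀ natCard_ne_zero, ← hz]
  refine Finset.sum_congr rfl fun a _ => ?_
  show _ = θ a * conj ((l a : ℂˣ) : ℂ)
  rw [linearOfDegreeOne_apply]

/-! ### Functions constant on the generators of cyclic subgroups -/

/-- Depends only on the cyclic subgroup generated. -/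
def ClassConst (f : A → ℤ) : Prop :=
  ∀ a b : A, Subgroup.zpowers a = Subgroup.zpowers b → f a = f b

open scoped Classical in
/-- The sum of a generalized character over the generators of a subgroup is an integer. -/
theorem sum_gens_int {θ : A → ℂ} (hθ : Cfsg.IsGeneralizedCharacter A θ) :
    ∀ C : Subgroup A, ∃ z : ℤ,
      ∑ a ∈ Finset.univ.filter (fun a => Subgroup.zpowers a = C), θ a = (z : ℂ) := by
  suffices key : ∀ (n : ℕ) (C : Subgroup A), Nat.card C = n → ∃ z : ℤ,
      ∑ a ∈ Finset.univ.filter (fun a => Subgroup.zpowers a = C), θ a = (z : ℂ) from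
    fun C => key _ C rfl
  intro n
  induction n using Nat.strong_induction_on with
  | _ n ih =>
    intro C hC
    haveI := Fintype.ofFinite C
    haveI := Fintype.ofFinite (Subgroup A)
    obtain ⟨z, hz⟩ := linear_sum_of_gen (isGen_restrict C hθ) (1 : C →* ℂ)
    simp only [MonoidHom.one_apply, mul_one] at hz
    set S := Finset.univ.filter (fun D : Subgroup A => D ≤ C)
    have hmaps : ∀ a ∈ Finset.univ.filter (fun a => a ∈ C), Subgroup.zpowers a ∈ S := fun a ha => by
      simp only [S, Finset.mem_filter, Finset.mem_univ, true_and, Subgroup.zpowers_le]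
      exact (Finset.mem_filter.1 ha).2
    have hfib : ∀ D ∈ S,
        (Finset.univ.filter (fun a => a ∈ C)).filter (fun a => Subgroup.zpowers a = D) =
          Finset.univ.filter (fun a => Subgroup.zpowers a = D) := fun D hD => by
      ext a
      simp only [S, Finset.mem_filter, Finset.mem_univ, true_and] at hD ⊢
      exact ⟨fun h => h.2, fun h => ⟨hD (h ▸ Subgroup.mem_zpowers a), h⟩⟩
    have htot : ∑ D ∈ S, ∑ a ∈ Finset.univ.filter (fun a => Subgroup.zpowers a = D), θ a =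
        (((Nat.card C : ℤ) * z : ℤ) : ℂ) := by
      rw [Finset.sum_congr rfl fun D hD => by rw [← hfib D hD], Finset.sum_fiberwise_of_maps_to hmaps]
      push_cast
      rw [← hz]
      exact Finset.sum_subtype _ (fun a => by simp) θ
    have hCS : C ∈ S := Finset.mem_filter.2 ⟨Finset.mem_univ _, le_rfl⟩
    have hrest : ∀ D : Subgroup A, ∃ w : ℤ, D ∈ S.erase C →
        ∑ a ∈ Finset.univ.filter (fun a => Subgroup.zpowers a = D), θ a = (w : ℂ) := fun D => by
      by_cases hD : D ∈ S.erase C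
      · obtain ⟨hne, hD'⟩ := Finset.mem_erase.1 hD
        have hle := (Finset.mem_filter.1 hD').2
        obtain ⟨w, hw⟩ := ih (Nat.card D) (hC ▸ lt_of_le_of_ne (Subgroup.card_le_of_le hle)
          fun e => hne (Subgroup.eq_of_le_of_card_ge hle e.ge)) D rfl
        exact ⟨w, fun _ => hw⟩
      · exact ⟨0, fun h => absurd h hD⟩
    choose w hw using hrest
    refine ⟨(Nat.card C : ℤ) * z - ∑ D ∈ S.erase C, w D, ?_⟩
    rw [Int.cast_sub, ← htot, ← Finset.add_sum_erase _ _ hCS, Int.cast_sum,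
      Finset.sum_congr rfl fun D hD => hw D hD, add_sub_cancel_right]

theorem sum_classConst_int {f : A → ℤ} (hf : ClassConst f) {θ : A → ℂ}
    (hθ : Cfsg.IsGeneralizedCharacter A θ) : ∃ z : ℤ, ∑ a, (f a : ℂ) * θ a = (z : ℂ) := by
  classical
  haveI := Fintype.ofFinite (Subgroup A)
  choose z hz using sum_gens_int hθ
  let g : Subgroup A → ℤ := fun C => if h : ∃ a, Subgroup.zpowers a = C then f h.choose else 0
  refine ⟨∑ C : Subgroup A, g C * z C, ?_⟩
  rw [Int.cast_sum, ← Finset.sum_fiberwise Finset.univ (fun a : A => Subgroup.zpowers a)]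
  refine Finset.sum_congr rfl fun C _ => ?_
  rw [Int.cast_mul, ← hz C, Finset.mul_sum]
  refine Finset.sum_congr rfl fun a ha => ?_
  have h : ∃ b, Subgroup.zpowers b = C := ⟨a, (Finset.mem_filter.1 ha).2⟩
  simp only [g, dif_pos h]
  rw [hf a h.choose ((Finset.mem_filter.1 ha).2.trans h.choose_spec.symm)]

/-- The group order times such a function is a generalized character. -/
theorem gen_of_classConst (hcomm : ∀ a b : A, a * b = b * a) {f : A → ℤ} (hf : ClassConst f) :
    Cfsg.IsGeneralizedCharacter A fun a => (Nat.card A : ℂ) * (f a : ℂ) := by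
  refine gen_of_linear_sums hcomm fun μ => ?_
  obtain ⟨z, hz⟩ := sum_classConst_int hf (isGen_monoidHom μ)
  refine ⟨z, ?_⟩
  rw [← hz, Finset.mul_sum]
  exact Finset.sum_congr rfl fun a _ => by ring

/-! ### Powers of generalized characters -/

theorem isGen_pow {θ : A → ℂ} (hθ : Cfsg.IsGeneralizedCharacter A θ) :
    ∀ n : ℕ, Cfsg.IsGeneralizedCharacter A (θ ^ n)
  | 0 => by
    rw [pow_zero]
    have h := isGen_const (A := A) 1
    simp only [Int.cast_one] at h
    exact h
  | n + 1 => by rw [pow_succ]; exact isGen_mul (isGen_pow hθ n) hθ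

theorem isGen_prod {ι : Type*} (s : Finset ι) (θ : ι → A → ℂ)
    (h : ∀ i ∈ s, Cfsg.IsGeneralizedCharacter A (θ i)) :
    Cfsg.IsGeneralizedCharacter A fun a => ∏ i ∈ s, θ i a := by
  classical
  induction s using Finset.induction_on with
  | empty => simpa using (isGen_const (A := A) 1)
  | insert i s hi ih =>
    simp only [Finset.prod_insert hi]
    exact isGen_mul (h i (Finset.mem_insert_self i s)) (ih fun j hj => h j (Finset.mem_insert_of_mem hj))

variable (A) in
/-- The ring of generalized characters. -/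
def genRing : Subring (A → ℂ) where
  carrier := {θ | Cfsg.IsGeneralizedCharacter A θ}
  zero_mem' := isGen_zero
  one_mem' := by
    show Cfsg.IsGeneralizedCharacter A (1 : A → ℂ)
    have h := isGen_const (A := A) 1
    simp only [Int.cast_one] at h
    exact h
  add_mem' := isGen_add
  mul_mem' := isGen_mul
  neg_mem' := isGen_neg

/-- Frobenius: the `p`th power is congruent modulo `p` to composition with the `p`th power map. -/
theorem pow_prime_cong {p : ℕ} (hp : p.Prime) (hcomm : ∀ a b : A, a * b = b * a) {θ : A → ℂ}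
    (hθ : Cfsg.IsGeneralizedCharacter A θ) :
    ∃ h, Cfsg.IsGeneralizedCharacter A h ∧ ∀ a, θ a ^ p = θ (a ^ p) + p * h a := by
  classical
  haveI := Fintype.ofFinite (Cfsg.IrrCharacter A)
  let P : (A → ℂ) → Prop := fun f => Cfsg.IsGeneralizedCharacter A f ∧
    ∃ h, Cfsg.IsGeneralizedCharacter A h ∧ ∀ a, f a ^ p = f (a ^ p) + p * h a
  have hadd : ∀ f g, P f → P g → P (f + g) := by
    rintro f g ⟨hf, h₁, hh₁, e₁⟩ ⟨hg, h₂, hh₂, e₂⟩
    refine ⟨isGen_add hf hg, ?_⟩
    obtain ⟨r, hr⟩ := exists_add_pow_prime_eq hp (⟨f, hf⟩ : genRing A) ⟨g, hg⟩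
    refine ⟨h₁ + h₂ + f * g * r.1, isGen_add (isGen_add hh₁ hh₂) (isGen_mul (isGen_mul hf hg) r.2),
      fun a => ?_⟩
    have h := congrFun (congrArg Subtype.val hr) a
    simp only [Subring.coe_add, Subring.coe_mul, SubmonoidClass.coe_pow, Subring.coe_natCast,
      Pi.add_apply, Pi.mul_apply, Pi.pow_apply, Pi.natCast_apply] at h
    simp only [Pi.add_apply, Pi.mul_apply, h, e₁, e₂]
    ring
  have hneg : ∀ f, P f → P (-f) := by
    rintro f ⟨hf, h₁, hh₁, e₁⟩
    refine ⟨isGen_neg hf, ?_⟩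
    rcases hp.eq_two_or_odd' with h2 | hodd
    · subst h2
      refine ⟨fun a => f (a ^ 2) + h₁ a, isGen_add ?_ hh₁, fun a => ?_⟩
      · exact isGen_comp ({ toFun := fun a => a ^ 2
                            map_one' := one_pow _
                            map_mul' := fun a b => Commute.mul_pow (hcomm a b) 2 } : A →* A) hf
      · have := e₁ a
        simp only [Pi.neg_apply, neg_sq] at *
        push_cast at *
        rw [this]; ring
    · refine ⟨-h₁, isGen_neg hh₁, fun a => ?_⟩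
      simp only [Pi.neg_apply, hodd.neg_pow, e₁ a]
      ring
  have hirr : ∀ χ : Cfsg.IrrCharacter A, P (χ : A → ℂ) := fun χ => by
    refine ⟨isGen_of_isCharacter (irr_isCharacter χ), 0, isGen_zero, fun a => ?_⟩
    have h1 := irr_degree_one_of_comm hcomm χ.2
    have h := map_pow (linearOfDegreeOne (isCharacter_of_isIrr χ.2) h1) a p
    have h' := congrArg Units.val h
    simp only [Units.val_pow_eq_pow_val, linearOfDegreeOne_apply] at h'
    simpa using h'.symm
  have hzero : P 0 := ⟨isGen_zero, 0, isGen_zero, fun a => by simp [hp.ne_zero]⟩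
  have hz : ∀ (f : A → ℂ) (n : ℕ), P f → P (n • f) := by
    intro f n hf
    induction n with
    | zero => simpa using hzero
    | succ n ih => rw [succ_nsmul]; exact hadd _ _ ih hf
  have hall : P θ := by
    rw [classFun_eq_sum (isGen_isClassFunction hθ)]
    refine Finset.sum_induction _ P hadd hzero fun χ _ => ?_
    obtain ⟨z, hzc⟩ := classInner_gen_int hθ (isGen_of_isCharacter (irr_isCharacter χ))
    rw [hzc]
    rcases Int.eq_nat_or_neg z with ⟨n, rfl | rfl⟩
    · have e : (((n : ℤ) : ℂ) • (χ : A → ℂ)) = n • (χ : A → ℂ) := by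
        funext a; simp [Pi.smul_apply, nsmul_eq_mul]
      rw [e]
      exact hz _ n (hirr χ)
    · have e : (((-(n : ℤ)) : ℤ) : ℂ) • (χ : A → ℂ) = -(n • (χ : A → ℂ)) := by
        funext a; simp [Pi.smul_apply, nsmul_eq_mul]
      rw [e]
      exact hneg _ (hz _ n (hirr χ))
  exact hall.2

/-- A `p`-power of a generalized character is congruent to the value at one modulo `p`. -/
theorem pow_card_cong {p : ℕ} (hp : p.Prime) (hcomm : ∀ a b : A, a * b = b * a)
    (hA : IsPGroup p A) {θ : A → ℂ} (hθ : Cfsg.IsGeneralizedCharacter A θ) :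
    ∃ k : ℕ, ∃ h, Cfsg.IsGeneralizedCharacter A h ∧ ∀ a, θ a ^ p ^ k = θ 1 + p * h a := by
  haveI := Fact.mk hp
  obtain ⟨d, hd⟩ := IsPGroup.iff_card.1 hA
  suffices key : ∀ k : ℕ, ∃ h, Cfsg.IsGeneralizedCharacter A h ∧
      ∀ a, θ a ^ p ^ k = θ (a ^ p ^ k) + p * h a by
    obtain ⟨h, hh, he⟩ := key d
    refine ⟨d, h, hh, fun a => ?_⟩
    rw [he, show a ^ p ^ d = 1 from hd ▸ pow_card_eq_one']
  intro k
  induction k with
  | zero => exact ⟨0, isGen_zero, fun a => by simp⟩
  | succ k ih =>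
    obtain ⟨h, hh, he⟩ := ih
    let π : A →* A :=
      { toFun := fun a => a ^ p ^ k
        map_one' := one_pow _
        map_mul' := fun a b => Commute.mul_pow (hcomm a b) _ }
    set φ : A → ℂ := fun a => θ (π a)
    have hφ : Cfsg.IsGeneralizedCharacter A φ := isGen_comp π hθ
    obtain ⟨h', hh', he'⟩ := pow_prime_cong hp hcomm hφ
    obtain ⟨c, hc⟩ := dvd_sub_pow_of_dvd_sub (R := genRing A) (p := p)
      (a := ⟨θ, hθ⟩ ^ p ^ k) (b := ⟨φ, hφ⟩) ⟨⟨h, hh⟩, Subtype.ext (funext fun a => by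
        simp [he a, φ, π])⟩ 1
    refine ⟨h' + (p : A → ℂ) * c.1, isGen_add hh' (isGen_mul (natCast_mem (genRing A) p) c.2),
      fun a => ?_⟩
    have h2 := congrFun (congrArg Subtype.val hc) a
    simp only [pow_one, AddSubgroupClass.coe_sub, SubmonoidClass.coe_pow, Subring.coe_natCast,
      Subring.coe_mul, Pi.sub_apply, Pi.pow_apply, Pi.mul_apply, Pi.natCast_apply] at h2
    rw [sub_eq_iff_eq_add, ← pow_mul, ← pow_succ] at h2
    rw [h2, show φ a ^ p = _ from he' a]
    simp only [φ, π, MonoidHom.coe_mk, OneHom.coe_mk, Pi.add_apply, Pi.mul_apply,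
      Pi.natCast_apply]
    rw [← pow_mul, ← pow_succ']
    ring

/-- A power of a generalized character with value at one prime to `p` is one modulo the order. -/
theorem pow_cong_one {p : ℕ} (hp : p.Prime) (hcomm : ∀ a b : A, a * b = b * a)
    (hA : IsPGroup p A) {θ : A → ℂ} (hθ : Cfsg.IsGeneralizedCharacter A θ) {z : ℤ}
    (hz : θ 1 = (z : ℂ)) (hzp : ¬ (p : ℤ) ∣ z) :
    ∃ N : ℕ, 0 < N ∧ ∃ h, Cfsg.IsGeneralizedCharacter A h ∧
      ∀ a, θ a ^ N = 1 + (Nat.card A : ℂ) * h a := by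
  haveI := Fact.mk hp
  obtain ⟨d, hd⟩ := IsPGroup.iff_card.1 hA
  obtain ⟨k, h, hh, he⟩ := pow_card_cong hp hcomm hA hθ
  obtain ⟨w, hw⟩ : (p : ℤ) ∣ z ^ (p - 1) - 1 := by
    have hz0 : (z : ZMod p) ≠ 0 := fun h => hzp ((ZMod.intCast_zmod_eq_zero_iff_dvd z p).1 h)
    rw [← ZMod.intCast_zmod_eq_zero_iff_dvd]
    push_cast
    rw [ZMod.pow_card_sub_one_eq_one hz0, sub_self]
  set R := genRing A
  set t : R := ⟨θ, hθ⟩ ^ p ^ k
  have h1 : (p : R) ∣ t ^ (p - 1) - 1 := by
    have h2 : (p : R) ∣ t - (z : R) := ⟨⟨h, hh⟩, Subtype.ext (funext fun a => by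
      simp [t, he a, hz])⟩
    have h3 : (p : R) ∣ t ^ (p - 1) - (z : R) ^ (p - 1) := h2.trans (sub_dvd_pow_sub_pow _ _ _)
    have h4 : (p : R) ∣ (z : R) ^ (p - 1) - 1 := ⟨(w : R), by
      rw [← Int.cast_pow, ← Int.cast_one (R := R), ← Int.cast_sub, hw]; push_cast; ring⟩
    simpa using dvd_add h3 h4
  obtain ⟨c, hc⟩ := dvd_sub_pow_of_dvd_sub h1 d
  refine ⟨p ^ k * (p - 1) * p ^ d, Nat.mul_pos (Nat.mul_pos (pow_pos hp.pos _)
    (Nat.sub_pos_of_lt hp.one_lt)) (pow_pos hp.pos _), (p : A → ℂ) * c.1,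
    isGen_mul (natCast_mem R p) c.2, fun a => ?_⟩
  have h2 := congrFun (congrArg Subtype.val hc) a
  simp only [t, one_pow, AddSubgroupClass.coe_sub, OneMemClass.coe_one, SubmonoidClass.coe_pow,
    Subring.coe_natCast, Subring.coe_mul, Pi.sub_apply, Pi.one_apply, Pi.pow_apply, Pi.mul_apply,
    Pi.natCast_apply] at h2
  rw [sub_eq_iff_eq_add] at h2
  rw [pow_mul, pow_mul, h2, hd]
  simp only [Pi.mul_apply, Pi.natCast_apply]
  push_cast
  ring

/-! ### Good functions -/

variable {p : ℕ} (M : Ideal Cfsg.AlgInt)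

/-- Off one, a multiple is a generalized character, and it is congruent to one modulo the order. -/
structure Good (F : A → ℂ) : Prop where
  rat : ∃ L : ℤ, L ≠ 0 ∧ ∃ f : A → ℂ, Cfsg.IsGeneralizedCharacter A f ∧
    ∀ a, a ≠ 1 → (L : ℂ) * F a = f a
  cong : ∃ f : A → ℂ, Cfsg.IsGeneralizedCharacter A f ∧
    ∀ a, a ≠ 1 → ∃ k : ℂ, Cfsg.MemLocalRing M k ∧ F a = f a + (Nat.card A : ℂ) * k

variable {M}

theorem Good.congr {F F' : A → ℂ} (hF : Good M F) (h : ∀ a, a ≠ 1 → F' a = F a) : Good M F' := by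
  obtain ⟨⟨L, hL, f, hf, e⟩, f', hf', e'⟩ := hF
  exact ⟨⟨L, hL, f, hf, fun a ha => by rw [h a ha, e a ha]⟩,
    ⟨f', hf', fun a ha => by rw [h a ha]; exact e' a ha⟩⟩

variable (hM : Cfsg.IsPModular p M)
include hM

theorem good_of_gen {θ : A → ℂ} (hθ : Cfsg.IsGeneralizedCharacter A θ) : Good M θ :=
  ⟨⟨1, one_ne_zero, θ, hθ, fun a _ => by simp⟩,
    ⟨θ, hθ, fun a _ => ⟨0, ring_zero hM, by simp⟩⟩⟩

theorem ring_gen {θ : A → ℂ} (hθ : Cfsg.IsGeneralizedCharacter A θ) (a : A) :
    Cfsg.MemLocalRing M (θ a) := ring_of_isIntegral hM (gen_isIntegral hθ a)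

theorem Good.ring {F : A → ℂ} (hF : Good M F) {a : A} (ha : a ≠ 1) :
    Cfsg.MemLocalRing M (F a) := by
  obtain ⟨f, hf, e⟩ := hF.cong
  obtain ⟨k, hk, h⟩ := e a ha
  rw [h]
  exact ring_add hM (ring_gen hM hf a) (ring_mul hM (ring_natCast hM _) hk)

theorem Good.mul {F F' : A → ℂ} (hF : Good M F) (hF' : Good M F') :
    Good M fun a => F a * F' a := by
  obtain ⟨⟨L, hL, f, hf, e⟩, g, hg, eg⟩ := id hF
  obtain ⟨⟨L', hL', f', hf', e'⟩, g', hg', eg'⟩ := id hF'
  refine ⟨⟨L * L', mul_ne_zero hL hL', f * f', isGen_mul hf hf', fun a ha => ?_⟩,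
    ⟨g * g', isGen_mul hg hg', fun a ha => ?_⟩⟩
  · rw [Pi.mul_apply, ← e a ha, ← e' a ha]; push_cast; ring
  · obtain ⟨k, hk, h⟩ := eg a ha
    obtain ⟨k', hk', h'⟩ := eg' a ha
    refine ⟨g a * k' + k * F' a, ring_add hM (ring_mul hM (ring_gen hM hg a) hk')
      (ring_mul hM hk (hF'.ring hM ha)), ?_⟩
    rw [Pi.mul_apply, h, h']
    ring

theorem Good.pow {F : A → ℂ} (hF : Good M F) : ∀ n : ℕ, Good M fun a => F a ^ n
  | 0 => (good_of_gen hM (isGen_const 1)).congr fun a _ => by simp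
  | n + 1 => ((Good.pow hF n).mul hM hF).congr fun a _ => pow_succ _ _

theorem Good.prod {ι : Type*} (s : Finset ι) (F : ι → A → ℂ) (h : ∀ i ∈ s, Good M (F i)) :
    Good M fun a => ∏ i ∈ s, F i a := by
  classical
  induction s using Finset.induction_on with
  | empty => exact (good_of_gen hM (isGen_const 1)).congr fun a _ => by simp
  | insert i s hi ih =>
    exact ((h i (Finset.mem_insert_self i s)).mul hM
      (ih fun j hj => h j (Finset.mem_insert_of_mem hj))).congr fun a _ => Finset.prod_insert hi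

theorem Good.comp {F : A → ℂ} (hF : Good M F) (α : A ≃* A) : Good M fun a => F (α a) := by
  have h1 : ∀ a, a ≠ 1 → α a ≠ 1 := fun a ha h => ha (α.injective (h.trans (map_one α).symm))
  obtain ⟨⟨L, hL, f, hf, e⟩, g, hg, eg⟩ := hF
  exact ⟨⟨L, hL, _, isGen_comp α.toMonoidHom hf, fun a ha => e _ (h1 a ha)⟩,
    ⟨_, isGen_comp α.toMonoidHom hg, fun a ha => eg _ (h1 a ha)⟩⟩

/-- A good function with a unit value has all values units. -/
theorem Good.unit (hcomm : ∀ a b : A, a * b = b * a) (hA : IsPGroup p A) {F : A → ℂ}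
    (hF : Good M F) {a₀ : A} (ha₀ : a₀ ≠ 1) (hu : ¬ Cfsg.MemLocalIdeal M (F a₀)) :
    ∃ f : A → ℂ, ∃ z : ℤ, Cfsg.IsGeneralizedCharacter A f ∧ f 1 = (z : ℂ) ∧ ¬ (p : ℤ) ∣ z ∧
      (∀ a, a ≠ 1 → ¬ Cfsg.MemLocalIdeal M (F a)) ∧
      ∀ a, a ≠ 1 → ∃ k : ℂ, Cfsg.MemLocalRing M k ∧ F a = f a + (Nat.card A : ℂ) * k := by
  haveI := fact_prime_of_pm hM
  obtain ⟨f, hf, e⟩ := hF.cong
  obtain ⟨z, hz⟩ := gen_one_int hf
  obtain ⟨j, h, hh, he⟩ := pow_card_cong hM.1 hcomm hA hf
  have hc : ∀ a, Cong M (f a ^ p ^ j) (z : ℂ) := fun a => by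
    show Cfsg.MemLocalIdeal M _
    rw [he a, hz, add_sub_cancel_left]
    exact ideal_mul_right hM (ideal_p hM) (ring_gen hM hh a)
  have hcF : ∀ a, a ≠ 1 → Cong M (F a) (f a) := fun a ha => by
    obtain ⟨k, hk, hFk⟩ := e a ha
    show Cfsg.MemLocalIdeal M _
    rw [hFk, add_sub_cancel_left]
    refine ideal_mul_right hM ((ideal_natCast_iff hM _).2 ?_) hk
    obtain ⟨d, hd⟩ := IsPGroup.iff_card.1 hA
    rw [hd]
    refine dvd_pow_self _ fun h0 => ?_
    subst h0
    haveI := (Nat.card_eq_one_iff_unique.1 (hd.trans (pow_zero p))).1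
    exact ha (Subsingleton.elim _ _)
  have hzp : ¬ (p : ℤ) ∣ z := fun hdvd => hu ((ideal_iff_of_cong hM (hcF a₀ ha₀)).2
    (ideal_of_pow hM (ring_gen hM hf a₀)
      ((ideal_iff_of_cong hM (hc a₀)).2 ((ideal_intCast_iff hM z).2 hdvd))))
  refine ⟨f, z, hf, hz, hzp, fun a ha hid => hzp ?_, e⟩
  refine (ideal_intCast_iff hM z).1 ((ideal_iff_of_cong hM (hc a)).1 ?_)
  exact ideal_pow hM ((ideal_iff_of_cong hM (hcF a ha)).1 hid) (pow_pos hM.1.pos j).ne'

/-- The inverse of a good unit function is good. -/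
theorem Good.inv (hcomm : ∀ a b : A, a * b = b * a) (hA : IsPGroup p A) {F : A → ℂ}
    (hF : Good M F) {a₀ : A} (ha₀ : a₀ ≠ 1) (hu : ¬ Cfsg.MemLocalIdeal M (F a₀)) :
    Good M fun a => (F a)⁻¹ := by
  classical
  haveI := fact_prime_of_pm hM
  obtain ⟨f, z, hf, hz, hzp, hunit, e⟩ := hF.unit hM hcomm hA ha₀ hu
  obtain ⟨L, hL, g, hg, eg⟩ := hF.rat
  obtain ⟨N, hN, h, hh, he⟩ := pow_cong_one hM.1 hcomm hA hf hz hzp
  refine ⟨?_, ⟨f ^ (N - 1), isGen_pow hf _, fun a ha => ?_⟩⟩
  swap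
  · obtain ⟨k, hk, hFk⟩ := e a ha
    have hne := hunit a ha
    have hr := hF.ring hM ha
    refine ⟨-((h a + k * f a ^ (N - 1)) * (F a)⁻¹), ring_neg hM (ring_mul hM
      (ring_add hM (ring_gen hM hh a) (ring_mul hM hk (ring_pow hM (ring_gen hM hf a) _)))
      (ring_inv hM hr hne)), ?_⟩
    have hN' : f a ^ (N - 1) * f a = 1 + (Nat.card A : ℂ) * h a := by
      rw [← pow_succ, Nat.sub_add_cancel hN, he]
    have hF0 : F a ≠ 0 := fun h0 => hne (h0 ▸ ideal_zero hM)
    rw [Pi.pow_apply]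
    field_simp
    rw [hFk]
    linear_combination -hN'
  -- a norm
  set n := Nat.card A with hn
  haveI : NeZero n := ⟨Nat.card_pos.ne'⟩
  let π : (ZMod n)ˣ → A →* A := fun k =>
    { toFun := fun a => a ^ ((k : ZMod n).val)
      map_one' := one_pow _
      map_mul' := fun a b => Commute.mul_pow (hcomm a b) _ }
  have hπ1 : ∀ a, π 1 a = a := fun a => by
    show a ^ ((1 : ZMod n).val) = a
    rcases Nat.lt_or_ge 1 n with h1 | h1
    · haveI := Fact.mk h1
      rw [ZMod.val_one, pow_one]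
    · haveI : Subsingleton A := Finite.card_le_one_iff_subsingleton.1 h1
      exact Subsingleton.elim _ _
  have hπmul : ∀ (k l : (ZMod n)ˣ) a, π k (π l a) = π (k * l) a := fun k l a => by
    show (a ^ ((l : ZMod n).val)) ^ ((k : ZMod n).val) = a ^ (((k * l : (ZMod n)ˣ) : ZMod n).val)
    rw [← pow_mul, Units.val_mul, ZMod.val_mul, mul_comm (k : ZMod n).val]
    exact pow_eq_pow_mod _ pow_card_eq_one'
  have hπne : ∀ (k : (ZMod n)ˣ) a, a ≠ 1 → π k a ≠ 1 := fun k a ha h => ha (by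
    rw [← hπ1 a, ← inv_mul_cancel k, ← hπmul, h, map_one])
  have hg0 : ∀ a, a ≠ 1 → g a ≠ 0 := fun a ha h0 => hunit a ha (by
    rw [show F a = 0 from (mul_eq_zero.1 ((eg a ha).trans h0)).resolve_left
      (Int.cast_ne_zero.2 hL)]
    exact ideal_zero hM)
  set c : A → ℂ := fun a => ∏ k ∈ Finset.univ.erase (1 : (ZMod n)ˣ), g (π k a)
  set Nm : A → ℂ := fun a => ∏ k : (ZMod n)ˣ, g (π k a)
  have hc : Cfsg.IsGeneralizedCharacter A c := isGen_prod _ _ fun k _ => isGen_comp (π k) hg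
  have hNm : Cfsg.IsGeneralizedCharacter A Nm := isGen_prod _ _ fun k _ => isGen_comp (π k) hg
  have hsplit : ∀ a, Nm a = g a * c a := fun a => by
    simp only [Nm, c]
    rw [← Finset.mul_prod_erase _ _ (Finset.mem_univ (1 : (ZMod n)ˣ)), hπ1]
  have hinv : ∀ (l : (ZMod n)ˣ) a, Nm (π l a) = Nm a := fun l a =>
    Fintype.prod_equiv (Equiv.mulRight l) _ _ fun k => by rw [Equiv.coe_mulRight, hπmul]
  have hconst : ∀ a b : A, Subgroup.zpowers a = Subgroup.zpowers b → Nm b = Nm a := by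
    intro a b hab
    obtain ⟨i, rfl⟩ : ∃ i : ℕ, a ^ i = b := by
      have hb : b ∈ Subgroup.zpowers a := hab ▸ Subgroup.mem_zpowers b
      exact (mem_powers_iff_mem_zpowers.2 hb)
    by_cases ha1 : a = 1
    · simp [ha1]
    have hord : orderOf (a ^ i) = orderOf a := by
      rw [← Nat.card_zpowers, ← hab, Nat.card_zpowers]
    have hip : ¬ p ∣ i := by
      intro hdvd
      obtain ⟨j, hj⟩ := IsPGroup.iff_orderOf.1 hA a
      obtain ⟨r, rfl⟩ := hdvd
      rw [hj, orderOf_pow, hj] at hord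
      have hj0 : j ≠ 0 := fun h0 => ha1 (orderOf_eq_one_iff.1 (by rw [hj, h0, pow_zero]))
      have hg1 : 1 < Nat.gcd (p ^ j) (p * r) :=
        hM.1.one_lt.trans_le (Nat.le_of_dvd (Nat.gcd_pos_of_pos_left _ (pow_pos hM.1.pos j))
          (Nat.dvd_gcd (dvd_pow_self p hj0) (dvd_mul_right p r)))
      exact absurd hord (Nat.div_lt_self (pow_pos hM.1.pos j) hg1).ne
    have hco : i.Coprime n := by
      obtain ⟨d, hd⟩ := IsPGroup.iff_card.1 hA
      rw [hn, hd]
      exact (hM.1.coprime_iff_not_dvd.2 hip).symm.pow_right d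
    rw [show a ^ i = π (ZMod.unitOfCoprime i hco) a from ?_, hinv]
    show a ^ i = a ^ ((i : ZMod n).val)
    rw [ZMod.val_natCast]
    exact pow_eq_pow_mod _ pow_card_eq_one'
  have hint : ∀ a, ∃ w : ℤ, Nm a = (w : ℂ) := by
    intro a
    obtain ⟨w, hw⟩ := sum_gens_int hNm (Subgroup.zpowers a)
    rw [Finset.sum_congr rfl fun b hb => hconst a b (Finset.mem_filter.1 hb).2.symm,
      Finset.sum_const, nsmul_eq_mul] at hw
    set m := (Finset.univ.filter fun b => Subgroup.zpowers b = Subgroup.zpowers a).card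
    have hm : m ≠ 0 := (Finset.card_pos.2 ⟨a, by simp⟩).ne'
    have hval : Nm a = (((w : ℚ) / m : ℚ) : ℂ) := by
      push_cast
      rw [eq_div_iff (Nat.cast_ne_zero.2 hm), ← hw, mul_comm]
    obtain ⟨v, hv⟩ := exists_int_of_isIntegral_ratCast (hval ▸ gen_isIntegral hNm a)
    exact ⟨v, by rw [hval, hv]⟩
  choose w hw using hint
  have hwc : ∀ a b : A, Subgroup.zpowers a = Subgroup.zpowers b → w a = w b := fun a b hab =>
    Int.cast_injective (α := ℂ) (by rw [← hw, ← hw, hconst a b hab])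
  have hw0 : ∀ a, a ≠ 1 → w a ≠ 0 := fun a ha h0 => by
    have := hw a
    rw [h0, Int.cast_zero, Finset.prod_eq_zero_iff] at this
    obtain ⟨k, -, hk⟩ := this
    exact hg0 _ (hπne k a ha) hk
  set w' : A → ℤ := fun a => if w a = 0 then 1 else w a
  set Q : ℤ := ∏ a, w' a
  have hw'0 : ∀ a, w' a ≠ 0 := fun a => by
    simp only [w']; split_ifs with h
    · exact one_ne_zero
    · exact h
  have hQ : ∀ a, w' a ∣ Q := fun a => Finset.dvd_prod_of_mem w' (Finset.mem_univ a)
  have hΨ : ClassConst fun a => Q / w' a := fun a b hab => by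
    simp only [w', hwc a b hab]
  refine ⟨(n : ℤ) * Q, mul_ne_zero (Int.natCast_ne_zero.2 Nat.card_pos.ne')
      (Finset.prod_ne_zero_iff.2 fun a _ => hw'0 a),
    fun a => (L : ℂ) * (c a * ((n : ℂ) * ((Q / w' a : ℤ) : ℂ))), ?_, fun a ha => ?_⟩
  · have h1 := isGen_mul (isGen_const L) (isGen_mul hc (gen_of_classConst hcomm hΨ))
    exact h1
  have hw' : w' a = w a := by simp only [w', if_neg (hw0 a ha)]
  have hF0 : F a ≠ 0 := fun h0 => hunit a ha (h0 ▸ ideal_zero hM)
  have hwa : (w a : ℂ) = (L : ℂ) * F a * c a := by rw [← hw, hsplit, eg a ha]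
  obtain ⟨q, hq⟩ := hQ a
  simp only []
  rw [hq, Int.mul_ediv_cancel_left _ (hw'0 a), hw']
  push_cast
  rw [hwa]
  field_simp

/-- An algebraic integer value has integral coordinates. -/
theorem Good.coord (hcomm : ∀ a b : A, a * b = b * a) (hA : IsPGroup p A) {F : A → ℂ}
    (hF : Good M F) (hint : ∀ a, a ≠ 1 → IsIntegral ℤ (F a)) (μ : A →* ℂ) :
    ∃ z : ℤ, ∑ a, conj (F a) * (μ a - 1) = (Nat.card A : ℂ) * z := by
  classical
  haveI := fact_prime_of_pm hM
  obtain ⟨⟨L, hL, g, hg, eg⟩, f, hf, e⟩ := hF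
  set T := ∑ a, conj (F a) * (μ a - 1) with hT
  have hpart : ∀ θ : A → ℂ, Cfsg.IsGeneralizedCharacter A θ →
      ∃ z : ℤ, ∑ a, conj (θ a) * (μ a - 1) = (Nat.card A : ℂ) * z := fun θ hθ => by
    obtain ⟨z₁, h₁⟩ := linear_sum_of_gen (isGen_conj hcomm hθ) μ
    obtain ⟨z₂, h₂⟩ := linear_sum_of_gen (isGen_conj hcomm hθ) 1
    refine ⟨z₁ - z₂, ?_⟩
    simp only [MonoidHom.one_apply, mul_one] at h₂
    simp only [mul_sub, mul_one, Finset.sum_sub_distrib, h₁, h₂]
    push_cast; ring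
  obtain ⟨z₀, hz₀⟩ := hpart g hg
  have hLT : (L : ℂ) * T = ((Nat.card A * z₀ : ℤ) : ℂ) := by
    push_cast
    rw [← hz₀, hT, Finset.mul_sum]
    refine Finset.sum_congr rfl fun a _ => ?_
    rcases eq_or_ne a 1 with rfl | ha
    · simp
    rw [← eg a ha, map_mul, map_intCast]
    ring
  have hTint : IsIntegral ℤ T := IsIntegral.sum _ fun a _ => by
    rcases eq_or_ne a 1 with rfl | ha
    · simpa using isIntegral_zero
    exact ((hint a ha).map (starRingEnd ℂ).toIntAlgHom).mul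
      ((gen_isIntegral (isGen_monoidHom μ) a).sub isIntegral_one)
  have hTq : T = ((((Nat.card A * z₀ : ℤ) : ℚ) / L : ℚ) : ℂ) := by
    push_cast
    rw [eq_div_iff (Int.cast_ne_zero.2 hL), mul_comm, hLT]
    push_cast; ring
  obtain ⟨t, ht⟩ := exists_int_of_isIntegral_ratCast (hTq ▸ hTint)
  have hTt : T = (t : ℂ) := by rw [hTq, ht]
  choose! k hk hFk using e
  -- the congruent part, read on `F` itself
  obtain ⟨z₂, hz₂⟩ : ∃ z : ℤ, ∑ a, f a * ((μ a)⁻¹ - 1) = (Nat.card A : ℂ) * z := by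
    obtain ⟨z, hz⟩ := hpart f hf
    refine ⟨z, ?_⟩
    have h := congrArg (starRingEnd ℂ) hz
    rw [map_sum, map_mul, map_natCast, map_intCast] at h
    rw [← h]
    refine Finset.sum_congr rfl fun a _ => ?_
    rw [map_mul, Complex.conj_conj, map_sub, map_one]
    congr 2
    rw [show conj (μ a) = μ a⁻¹ from
      (char_inv (isCharacter_of_isIrr (isIrrCharacter_monoidHom μ)) a).symm, hom_inv μ]
  have hkey : (t : ℂ) = (Nat.card A : ℂ) * ((z₂ : ℂ) +
      ∑ a ∈ Finset.univ.erase (1 : A), k a * ((μ a)⁻¹ - 1)) := by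
    have h : conj T = (t : ℂ) := by rw [hTt, map_intCast]
    rw [← h, hT, map_sum, mul_add, ← hz₂, ← Finset.sum_erase_add _ _ (Finset.mem_univ (1 : A)),
      ← Finset.sum_erase_add _ (fun a => f a * ((μ a)⁻¹ - 1)) (Finset.mem_univ (1 : A)),
      Finset.mul_sum]
    simp only [map_one, inv_one, sub_self, mul_zero, map_zero, add_zero, ← Finset.sum_add_distrib]
    refine Finset.sum_congr rfl fun a ha => ?_
    rw [map_mul, Complex.conj_conj, map_sub, map_one, hFk a (Finset.ne_of_mem_erase ha),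
      show conj (μ a) = μ a⁻¹ from
        (char_inv (isCharacter_of_isIrr (isIrrCharacter_monoidHom μ)) a).symm, ← hom_inv μ]
    ring
  obtain ⟨d, hd⟩ := IsPGroup.iff_card.1 hA
  set y : ℂ := (z₂ : ℂ) + ∑ a ∈ Finset.univ.erase (1 : A), k a * ((μ a)⁻¹ - 1) with hydef
  have hy : Cfsg.MemLocalRing M y := by
    refine ring_add hM (ring_intCast hM _) (ring_sum hM fun a ha => ring_mul hM
      (hk a (Finset.ne_of_mem_erase ha)) (ring_sub hM ?_ (ring_one hM)))
    rw [← hom_inv μ]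
    exact ring_gen hM (isGen_monoidHom μ) _
  obtain ⟨v, hv⟩ : (p : ℤ) ^ d ∣ t := by
    rw [hd] at hkey
    clear hTt ht hydef hk hFk hd
    induction d generalizing t with
    | zero => simp
    | succ d ih =>
      have hdvd : (p : ℤ) ∣ t := (ideal_intCast_iff hM t).1 (by
        rw [hkey, pow_succ', Nat.cast_mul, mul_assoc]
        exact ideal_mul_right hM (ideal_p hM) (ring_mul hM (ring_natCast hM _) hy))
      obtain ⟨s, rfl⟩ := hdvd
      rw [pow_succ']
      refine mul_dvd_mul_left _ (ih s ?_)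
      refine mul_left_cancel₀ (Nat.cast_ne_zero.2 hM.1.ne_zero : (p : ℂ) ≠ 0) ?_
      rw [← mul_assoc, ← Nat.cast_mul, ← pow_succ', ← hkey]
      push_cast; ring
  exact ⟨v, by rw [hTt, hv, hd]; push_cast; ring⟩

end Cfsg.Agent.Blocks.Star
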