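import Mathlib
import Cfsg.Agent.Lib.Blocks.Star.GoodFun

/-!
# Linear signs of integer valued generalized characters of abelian groups

A root-of-unity valued function that agrees with a squared generalized character is linear; on an
abelian `2`-group an odd integer valued generalized character is, modulo four, a constant times a
linear character with values `±1`.
-/

set_option linter.style.haveILetI false
set_option linter.unusedSectionVars false

namespace Cfsg.Agent.Blocks.Star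

open Cfsg.Agent.Blocks Cfsg.Agent.Characters
open Polynomial
open scoped ComplexConjugate

universe u

variable {A : Type u} [Group A] [Fintype A]

/-- An integer value is the same at all coprime powers. -/
theorem gen_int_pow {θ : A → ℂ} (hθ : Cfsg.IsGeneralizedCharacter A θ) {a : A} {z : ℤ}
    (hz : θ a = (z : ℂ)) {k : ℕ} (hk : k.Coprime (Nat.card A)) : θ (a ^ k) = (z : ℂ) := by
  obtain ⟨c, d, ⟨n, ρ, rfl⟩, ⟨m, σ, rfl⟩, rfl⟩ := hθ
  set N := Nat.card A
  have hN : 0 < N := Nat.card_pos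
  set ζ := Complex.exp (2 * Real.pi * Complex.I / N)
  have hζ : IsPrimitiveRoot ζ N := Complex.isPrimitiveRoot_exp N hN.ne'
  obtain ⟨P, hP⟩ := exists_poly_values ρ a hN pow_card_eq_one' hζ
  obtain ⟨Q, hQ⟩ := exists_poly_values σ a hN pow_card_eq_one' hζ
  have h1 : aeval ζ (P - Q) = (((z : ℚ)) : ℂ) := by
    rw [map_sub, ← pow_one ζ, ← hP 1, ← hQ 1, pow_one, Rat.cast_intCast, ← hz]
    rfl
  have h2 := aeval_eq_rat_of_primitive hN hζ (hζ.pow_of_coprime k hk) (P - Q) h1
  rw [map_sub, ← hP k, ← hQ k, Rat.cast_intCast] at h2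
  rw [← h2]
  rfl

/-- The twist making a unit modulus generalized character real. -/
theorem exists_real_twist {p : ℕ} (hp : p.Prime) (hcomm : ∀ a b : A, a * b = b * a)
    (hA : IsPGroup p A) {u a : A → ℂ} {n : A → ℤ} (hu : Cfsg.IsGeneralizedCharacter A u)
    (hn : ClassConst n) (hn0 : ∀ w, n w ≠ 0) (hn1 : ¬ (p : ℤ) ∣ n 1) (hua : ∀ w, u w = a w * n w)
    (hint : ∀ w, IsIntegral ℤ (a w)) (habs : ∀ w, a w * conj (a w) = 1) (ha1 : a 1 = 1) :
    ∃ ψ : A → ℂ, Cfsg.IsGeneralizedCharacter A ψ ∧ ψ 1 = (n 1 : ℂ) ∧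
      ∀ w, ψ w = (n w : ℂ) ∨ ψ w = -(n w : ℂ) := by
  classical
  letI : CommGroup A := { ‹Group A› with mul_comm := hcomm }
  set r : A → ℂ := fun w => a w ^ 2 with hrdef
  set g : A → ℂ := fun w => u w * conj (u w) with hgdef
  have hg : Cfsg.IsGeneralizedCharacter A g := isGen_mul hu (isGen_conj hcomm hu)
  have hgn : ∀ w, g w = (n w : ℂ) ^ 2 := fun w => by
    simp only [hgdef, hua, map_mul, map_intCast]
    linear_combination (n w : ℂ) ^ 2 * habs w
  obtain ⟨N, hN, h, hh, he⟩ := pow_cong_one hp hcomm hA hg (z := n 1 ^ 2)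
    (by rw [hgn]; push_cast; ring) fun hd => hn1 ((Nat.prime_iff_prime_int.1 hp).dvd_of_dvd_pow hd)
  -- the function `a²` is a generalized character
  set Q : ℤ := ∏ w, n w ^ 2
  have hQ : ∀ w, n w ^ 2 ∣ Q := fun w =>
    Finset.dvd_prod_of_mem (fun v => n v ^ 2) (Finset.mem_univ w)
  have hΨ : ClassConst fun w => Q / n w ^ 2 := fun v w hvw => by simp only [hn v w hvw]
  have hQ0 : Q ≠ 0 := Finset.prod_ne_zero_iff.2 fun w _ => pow_ne_zero _ (hn0 w)
  have hr : Cfsg.IsGeneralizedCharacter A r := by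
    refine gen_of_linear_sums hcomm fun μ => ?_
    obtain ⟨z₁, hz₁⟩ := sum_classConst_int hΨ
      (isGen_mul (isGen_mul hu hu) (isGen_monoidHom μ))
    have hval : ∀ w, ((Q / n w ^ 2 : ℤ) : ℂ) * (u w * u w) = (Q : ℂ) * r w := fun w => by
      obtain ⟨q, hq⟩ := hQ w
      rw [hq, Int.mul_ediv_cancel_left _ (pow_ne_zero _ (hn0 w))]
      simp only [hrdef, hua]
      push_cast
      ring
    set c : ℂ := (Nat.card A : ℂ)⁻¹ * ∑ w, r w * μ w with hc
    have hcq : c = (((z₁ : ℚ) / ((Q : ℚ) * (Nat.card A : ℚ)) : ℚ) : ℂ) := by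
      have h1 : (Q : ℂ) * ∑ w, r w * μ w = (z₁ : ℂ) := by
        rw [← hz₁, Finset.mul_sum]
        refine Finset.sum_congr rfl fun w _ => ?_
        simp only [Pi.mul_apply]
        rw [← mul_assoc, ← hval w]
        ring
      rw [hc]
      push_cast
      rw [← h1]
      field_simp [natCard_ne_zero, Int.cast_ne_zero.2 hQ0]
    obtain ⟨z₂, hz₂⟩ := linear_sum_of_gen
      (isGen_mul (isGen_mul hu hu) (isGen_mul (isGen_pow hg (N - 1)) (isGen_monoidHom μ))) 1
    have hcint : IsIntegral ℤ c := by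
      have e : c = (z₂ : ℂ) - ∑ w, h w * r w * μ w := by
        have h1 : ∀ w, r w * μ w = u w * u w * (g w ^ (N - 1) * μ w) * 1 -
            (Nat.card A : ℂ) * (h w * r w * μ w) := fun w => by
          have h2 : u w * u w = r w * g w := by
            rw [hgn]; simp only [hrdef, hua]; ring
          have h3 : g w * g w ^ (N - 1) = 1 + (Nat.card A : ℂ) * h w := by
            rw [← pow_succ', Nat.sub_add_cancel hN, he]
          linear_combination (-(μ w) * r w) * h3 - (g w ^ (N - 1) * μ w) * h2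
        rw [hc, Finset.sum_congr rfl fun w _ => h1 w, Finset.sum_sub_distrib, ← Finset.mul_sum,
          show (∑ w, u w * u w * (g w ^ (N - 1) * μ w) * 1) = (Nat.card A : ℂ) * z₂ by
            rw [← hz₂]; rfl, ← mul_sub, ← mul_assoc, inv_mul_cancel₀ natCard_ne_zero, one_mul]
      rw [e]
      refine isIntegral_algebraMap.sub (IsIntegral.sum _ fun w _ => ?_)
      exact ((gen_isIntegral hh w).mul ((hint w).pow 2)).mul (gen_isIntegral (isGen_monoidHom μ) w)
    obtain ⟨v, hv⟩ := exists_int_of_isIntegral_ratCast (hcq ▸ hcint)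
    refine ⟨v, ?_⟩
    rw [← mul_inv_cancel_left₀ (natCard_ne_zero (G := A)) (∑ w, r w * μ w), ← hc, hcq, hv]
  have hnorm : Cfsg.classInner r r = 1 := by
    rw [classInner_def, inv_mul_eq_iff_eq_mul₀ natCard_ne_zero, mul_one,
      Finset.sum_congr rfl fun w _ => show r w * conj (r w) = 1 by
        simp only [hrdef, map_pow, ← mul_pow, habs, one_pow]]
    simp [Nat.card_eq_fintype_card]
  have hirr : Cfsg.IsIrrCharacter A r :=
    isIrr_of_gen_norm_one hr hnorm (by simp [hrdef, ha1])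
  have hr1 : r 1 = 1 := by simp [hrdef, ha1]
  set lam := linearOfDegreeOne (isCharacter_of_isIrr hirr) hr1
  -- `lam` is trivial on involutions, hence a square
  let sq : A →* A :=
    { toFun := fun w => w ^ 2
      map_one' := one_pow _
      map_mul' := fun v w => Commute.mul_pow (hcomm v w) 2 }
  have hker : sq.rangeRestrict.ker ≤ lam.ker := by
    intro w hw
    rw [MonoidHom.ker_rangeRestrict] at hw
    have hw2 : w⁻¹ = w := inv_eq_of_mul_eq_one_right (by rw [← pow_two]; exact hw)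
    refine Units.ext ?_
    rw [linearOfDegreeOne_apply, Units.val_one]
    have hua' := gen_conj_eq hu w
    rw [hw2, hua, map_mul, map_intCast] at hua'
    have hreal : conj (a w) = a w := mul_right_cancel₀ (Int.cast_ne_zero.2 (hn0 w)) hua'
    show a w ^ 2 = 1
    rw [pow_two]
    conv_lhs => arg 2; rw [← hreal]
    exact habs w
  let ν : sq.range →* ℂˣ :=
    sq.rangeRestrict.liftOfSurjective sq.rangeRestrict_surjective ⟨lam, hker⟩
  obtain ⟨μ, hμ⟩ := MonoidHom.domRestrict_surjective (G := A) (M := ℂ) sq.range ν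
  have hμ2 : ∀ w, ((μ w : ℂˣ) : ℂ) ^ 2 = r w := fun w => by
    rw [← Units.val_pow_eq_pow_val, ← map_pow,
      show μ (w ^ 2) = MonoidHom.domRestrictHom sq.range ℂˣ μ (sq.rangeRestrict w) from rfl, hμ]
    simp only [ν, MonoidHom.liftOfSurjective, MonoidHom.liftOfRightInverse_comp_apply]
    exact linearOfDegreeOne_apply _ _ w
  refine ⟨fun w => u w * conj ((μ w : ℂˣ) : ℂ), isGen_mul hu (isGen_conj hcomm
    (isGen_monoidHom ((Units.coeHom ℂ).comp μ))), by simp [hua, ha1], fun w => ?_⟩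
  refine mul_self_eq_mul_self_iff.1 ?_
  have hμn : conj ((μ w : ℂˣ) : ℂ) * ((μ w : ℂˣ) : ℂ) = 1 := by
    rw [mul_comm, Complex.mul_conj', linear_norm_eq_one]
    simp
  have h2 := hμ2 w
  simp only [hrdef] at h2
  simp only [hua]
  linear_combination (-(n w : ℂ) ^ 2 * conj ((μ w : ℂˣ) : ℂ) ^ 2) * h2 +
    (n w : ℂ) ^ 2 * (conj ((μ w : ℂˣ) : ℂ) * ((μ w : ℂˣ) : ℂ) + 1) * hμn

/-! ### Modulo four -/

theorem one_sub_mul_mod_four {e e' : ℤ} (he : e = 1 ∨ e = -1) (he' : e' = 1 ∨ e' = -1) :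
    (1 - e) + (1 - e') ≡ 1 - e * e' [ZMOD 4] := by
  rcases he with rfl | rfl <;> rcases he' with rfl | rfl <;> decide

/-- The sum of the values minus one over the powers of a linear character. -/
theorem sum_zpowers_linear {H : Type*} [Group H] [Fintype H] (ev : H →* ℂˣ) (l : H)
    [DecidablePred (· ∈ Subgroup.zpowers l)] :
    ∑ m ∈ Finset.univ.filter (· ∈ Subgroup.zpowers l), (((ev m : ℂˣ) : ℂ) - 1) =
      if ev l = 1 then 0 else -(orderOf l : ℂ) := by
  classical
  set S := Finset.univ.filter (· ∈ Subgroup.zpowers l)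
  have hcard : S.card = orderOf l := by
    rw [← Nat.card_zpowers, Nat.card_eq_fintype_card, Fintype.card_subtype]
  split_ifs with h
  · refine Finset.sum_eq_zero fun m hm => ?_
    obtain ⟨i, rfl⟩ := Subgroup.mem_zpowers_iff.1 (Finset.mem_filter.1 hm).2
    simp [h]
  · have hshift : ((ev l : ℂˣ) : ℂ) * ∑ m ∈ S, ((ev m : ℂˣ) : ℂ) =
        ∑ m ∈ S, ((ev m : ℂˣ) : ℂ) := by
      rw [Finset.mul_sum]
      refine Finset.sum_equiv (Equiv.mulLeft l) (fun m => ?_) fun m _ => by simp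
      simp only [S, Finset.mem_filter, Finset.mem_univ, true_and, Equiv.coe_mulLeft]
      exact ((Subgroup.zpowers l).mul_mem_cancel_left (Subgroup.mem_zpowers l)).symm
    have hzero : ∑ m ∈ S, ((ev m : ℂˣ) : ℂ) = 0 := by
      by_contra hne
      exact h (Units.ext ((mul_eq_right₀ hne).1 hshift))
    rw [Finset.sum_sub_distrib, hzero, Finset.sum_const, hcard, nsmul_one, zero_sub]

/-- The orbit of generators of a cyclic `2`-group of linear characters, modulo four. -/
theorem exists_orbit_sign {H : Type*} [CommGroup H] [Fintype H] (h2 : IsPGroup 2 H) (l : H) :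
    ∃ v : H, v ^ 2 = 1 ∧ ∀ (ev : H →* ℂˣ)
      [DecidablePred fun m : H => Subgroup.zpowers m = Subgroup.zpowers l],
      ∃ s e : ℤ, ∑ m ∈ Finset.univ.filter (fun m => Subgroup.zpowers m = Subgroup.zpowers l),
          (((ev m : ℂˣ) : ℂ) - 1) = (s : ℂ) ∧
        ((ev v : ℂˣ) : ℂ) = (e : ℂ) ∧ (e = 1 ∨ e = -1) ∧ (2 : ℤ) ∣ s ∧
          s ≡ 1 - e [ZMOD 4] := by
  classical
  obtain ⟨k, hk⟩ := IsPGroup.iff_orderOf.1 h2 l
  -- the filter is the cyclic group without the subgroup of squares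
  have key : 0 < k → ∀ (ev : H →* ℂˣ), ∑ m ∈ Finset.univ.filter
      (fun m => Subgroup.zpowers m = Subgroup.zpowers l), (((ev m : ℂˣ) : ℂ) - 1) =
        (if ev l = 1 then 0 else -(2 ^ k : ℂ)) - if ev (l ^ 2) = 1 then 0 else -(2 ^ (k - 1) : ℂ) := by
    intro hk0 ev
    have hsq : orderOf (l ^ 2) = 2 ^ (k - 1) := by
      rw [orderOf_pow' l two_ne_zero, hk, Nat.gcd_eq_right (dvd_pow_self 2 hk0.ne'),
        Nat.pow_div (Nat.one_le_iff_ne_zero.2 hk0.ne') two_pos |>.symm, pow_one]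
    have e1 : Finset.univ.filter (fun m => Subgroup.zpowers m = Subgroup.zpowers l) =
        Finset.univ.filter (· ∈ Subgroup.zpowers l) \
          Finset.univ.filter (· ∈ Subgroup.zpowers (l ^ 2)) := by
      ext m
      simp only [Finset.mem_filter, Finset.mem_univ, true_and, Finset.mem_sdiff]
      constructor
      · intro h
        refine ⟨h ▸ Subgroup.mem_zpowers m, fun hm => ?_⟩
        have h1 := Subgroup.card_le_of_le (Subgroup.zpowers_le.2 hm)
        rw [h, Nat.card_zpowers, Nat.card_zpowers, hk, hsq] at h1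
        exact absurd h1 (not_le.2 (Nat.pow_lt_pow_right one_lt_two (by omega)))
      · rintro ⟨hm, hn⟩
        obtain ⟨i, rfl⟩ := mem_powers_iff_mem_zpowers.2 hm
        have hi : ¬ 2 ∣ i := fun ⟨j, hj⟩ => hn (by
          show l ^ i ∈ Subgroup.zpowers (l ^ 2)
          rw [hj, pow_mul]
          exact Subgroup.pow_mem _ (Subgroup.mem_zpowers _) _)
        have hco : (orderOf l).Coprime i := by
          rw [hk]
          exact (Nat.prime_two.coprime_iff_not_dvd.2 hi).pow_left k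
        refine Subgroup.eq_of_le_of_card_ge (Subgroup.zpowers_le.2 hm) ?_
        rw [Nat.card_zpowers, Nat.card_zpowers]
        show orderOf l ≤ orderOf (l ^ i)
        rw [hco.orderOf_pow]
    rw [e1, Finset.sum_sdiff_eq_sub (Finset.monotone_filter_right _ fun m _ hm =>
      (Subgroup.zpowers_le.2 (Subgroup.pow_mem _ (Subgroup.mem_zpowers l) 2)) hm),
      sum_zpowers_linear, sum_zpowers_linear, hk, hsq]
    push_cast
    rfl
  rcases Nat.lt_or_ge k 3 with hk3 | hk3
  swap
  · refine ⟨1, one_pow _, fun ev _ => ?_⟩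
    have hd : ∀ j : ℕ, 2 ≤ j → (4 : ℤ) ∣ 2 ^ j := fun j hj => pow_dvd_pow (2 : ℤ) hj
    refine ⟨(if ev l = 1 then 0 else -(2 : ℤ) ^ k) - if ev (l ^ 2) = 1 then 0 else -(2 : ℤ) ^ (k - 1),
      1, ?_, by simp, Or.inl rfl, ?_, ?_⟩
    · rw [← Finset.sum_congr (Finset.filter_congr_decidable _ _ _) fun _ _ => rfl,
        key (by omega) ev]
      split_ifs <;> simp
    · refine (show (2 : ℤ) ∣ 4 by norm_num).trans ?_
      split_ifs <;> simp [hd k (by omega), hd (k - 1) (by omega)]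
      exact dvd_add (dvd_neg.2 (hd k (by omega))) (hd (k - 1) (by omega))
    · rw [sub_self, Int.modEq_zero_iff_dvd]
      split_ifs <;> simp [hd k (by omega), hd (k - 1) (by omega)]
      exact dvd_add (dvd_neg.2 (hd k (by omega))) (hd (k - 1) (by omega))
  have hl : l ^ 2 ^ k = 1 := hk ▸ pow_orderOf_eq_one l
  have hsgn : ∀ (ev : H →* ℂˣ) (v : H), v ^ 2 = 1 → ((ev v : ℂˣ) : ℂ) = 1 ∨ ((ev v : ℂˣ) : ℂ) = -1 :=
    fun ev v hv => sq_eq_one_iff.1 (by
      rw [← Units.val_pow_eq_pow_val, ← map_pow, hv, map_one, Units.val_one])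
  interval_cases k
  · -- the trivial character
    have hl1 : l = 1 := by simpa using hl
    subst hl1
    refine ⟨1, one_pow _, fun ev _ => ⟨0, 1, ?_, by simp, Or.inl rfl, dvd_zero _, rfl⟩⟩
    refine (Finset.sum_eq_zero fun m hm => ?_).trans Int.cast_zero.symm
    have hm1 : m ∈ Subgroup.zpowers (1 : H) :=
      (Finset.mem_filter.1 hm).2 ▸ Subgroup.mem_zpowers m
    rw [Subgroup.zpowers_one_eq_bot, Subgroup.mem_bot] at hm1
    simp [hm1]
  · have hl' : l ^ 2 = 1 := by simpa using hl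
    refine ⟨l, hl', fun ev _ => ?_⟩
    have hs := key one_pos ev
    rw [hl', map_one, if_pos rfl] at hs
    rcases hsgn ev l hl' with h | h
    · refine ⟨0, 1, ?_, by simpa using h, Or.inl rfl, dvd_zero _, rfl⟩
      rw [← Finset.sum_congr (Finset.filter_congr_decidable _ _ _) fun _ _ => rfl, hs,
        if_pos (Units.ext (by simpa using h))]
      simp
    · refine ⟨-2, -1, ?_, by simpa using h, Or.inr rfl, by norm_num, by decide⟩
      rw [← Finset.sum_congr (Finset.filter_congr_decidable _ _ _) fun _ _ => rfl, hs,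
        if_neg (fun hc => by rw [hc] at h; norm_num at h)]
      simp
  · have hl' : (l ^ 2) ^ 2 = 1 := by rw [← pow_mul]; simpa using hl
    refine ⟨l ^ 2, hl', fun ev _ => ?_⟩
    have hs := key two_pos ev
    rcases hsgn ev (l ^ 2) hl' with h | h
    · rw [if_pos (Units.ext (by simpa using h) : ev (l ^ 2) = 1)] at hs
      by_cases hv : ev l = 1
      · refine ⟨0, 1, ?_, by simpa using h, Or.inl rfl, dvd_zero _, rfl⟩
        rw [← Finset.sum_congr (Finset.filter_congr_decidable _ _ _) fun _ _ => rfl, hs, if_pos hv]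
        simp
      · refine ⟨-4, 1, ?_, by simpa using h, Or.inl rfl, by norm_num, by decide⟩
        rw [← Finset.sum_congr (Finset.filter_congr_decidable _ _ _) fun _ _ => rfl, hs, if_neg hv]
        norm_num
    · have hne : ev (l ^ 2) ≠ 1 := fun hc => by rw [hc] at h; norm_num at h
      have hv : ev l ≠ 1 := fun hc => hne (by rw [map_pow, hc, one_pow])
      refine ⟨-2, -1, ?_, by simpa using h, Or.inr rfl, by norm_num, by decide⟩
      rw [← Finset.sum_congr (Finset.filter_congr_decidable _ _ _) fun _ _ => rfl, hs, if_neg hne,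
        if_neg hv]
      norm_num

/-- An odd integer valued generalized character of an abelian `2`-group is a linear sign times a
constant modulo four. -/
theorem exists_quad_sign (hcomm : ∀ a b : A, a * b = b * a) (hA : IsPGroup 2 A) {ψ : A → ℂ}
    (hψ : Cfsg.IsGeneralizedCharacter A ψ) {z : A → ℤ} (hz : ∀ w, ψ w = (z w : ℂ))
    (h1 : ¬ (2 : ℤ) ∣ z 1) :
    ∃ η : A →* ℂ, ∀ w, ∃ e : ℤ, (e = 1 ∨ e = -1) ∧ η w = (e : ℂ) ∧ z w ≡ z 1 * e [ZMOD 4] := by
  classical
  letI : CommGroup A := { ‹Group A› with mul_comm := hcomm }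
  obtain ⟨d, hd⟩ := IsPGroup.iff_card.1 hA
  have hcard : Nat.card (A →* ℂˣ) = Nat.card A :=
    Nat.card_congr (CommGroup.monoidHom_mulEquiv_of_hasEnoughRootsOfUnity A ℂ).some.toEquiv
  haveI : Finite (A →* ℂˣ) := Nat.finite_of_card_ne_zero (hcard ▸ Nat.card_pos.ne')
  haveI := Fintype.ofFinite (A →* ℂˣ)
  have hH : IsPGroup 2 (A →* ℂˣ) := IsPGroup.of_card (hcard.trans hd)
  haveI := Fintype.ofFinite (Subgroup (A →* ℂˣ))
  -- integral coefficients
  choose B hB using fun l : A →* ℂˣ =>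
    linear_sum_of_gen hψ ((Units.coeHom ℂ).comp l⁻¹)
  have hexp : ∀ w, ψ w = ∑ l : A →* ℂˣ, (B l : ℂ) * ((l w : ℂˣ) : ℂ) := fun w => by
    refine mul_left_cancel₀ (natCard_ne_zero (G := A)) ?_
    rw [Finset.mul_sum]
    calc (Nat.card A : ℂ) * ψ w
        = ∑ a, ψ a * ∑ l : A →* ℂˣ, ((l (a⁻¹ * w) : ℂˣ) : ℂ) := by
          rw [Finset.sum_eq_single_of_mem w (Finset.mem_univ w) fun a _ hne => ?_]
          · simp only [inv_mul_cancel, map_one, Units.val_one, Finset.sum_const, Finset.card_univ,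
              nsmul_one]
            rw [← hcard, Nat.card_eq_fintype_card, mul_comm]
          · obtain ⟨ν, hν⟩ := CommGroup.exists_apply_ne_one_of_hasEnoughRootsOfUnity A ℂ
              (a := a⁻¹ * w) fun h => hne (inv_mul_eq_one.1 h)
            have h : ((ν (a⁻¹ * w) : ℂˣ) : ℂ) * ∑ l : A →* ℂˣ, ((l (a⁻¹ * w) : ℂˣ) : ℂ) =
                ∑ l : A →* ℂˣ, ((l (a⁻¹ * w) : ℂˣ) : ℂ) := by
              rw [Finset.mul_sum]
              exact Fintype.sum_equiv (Equiv.mulLeft ν) _ _ fun l => by simp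
            by_cases h0 : ∑ l : A →* ℂˣ, ((l (a⁻¹ * w) : ℂˣ) : ℂ) = 0
            · rw [h0, mul_zero]
            · exact absurd (Units.ext ((mul_eq_right₀ h0).1 h)) hν
      _ = ∑ l : A →* ℂˣ, (Nat.card A : ℂ) * ((B l : ℂ) * ((l w : ℂˣ) : ℂ)) := by
          simp only [Finset.mul_sum]
          rw [Finset.sum_comm]
          refine Finset.sum_congr rfl fun l _ => ?_
          rw [← mul_assoc, ← hB l, Finset.sum_mul]
          refine Finset.sum_congr rfl fun a _ => ?_
          simp [map_mul, map_inv]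
          ring
  have hBinv : ∀ l m : A →* ℂˣ, Subgroup.zpowers l = Subgroup.zpowers m → B l = B m := by
    intro l m hlm
    obtain ⟨i, rfl⟩ : ∃ i : ℕ, l ^ i = m :=
      mem_powers_iff_mem_zpowers.2 (hlm ▸ Subgroup.mem_zpowers m)
    by_cases hl : l = 1
    · subst hl; exact congrArg B (one_pow (M := A →* ℂˣ) i).symm
    have hord : orderOf (l ^ i) = orderOf l := by
      rw [← Nat.card_zpowers, ← hlm, Nat.card_zpowers]
    have hi : ¬ 2 ∣ i := by
      rintro ⟨r, rfl⟩
      obtain ⟨j, hj⟩ := IsPGroup.iff_orderOf.1 hH l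
      have hr0 : 2 * r ≠ 0 := fun h0 => hl (orderOf_eq_one_iff.1 (by
        rw [← hord, h0]; exact (congrArg orderOf (pow_zero l)).trans orderOf_one))
      have hord' := (orderOf_pow' l hr0).symm.trans hord
      rw [hj] at hord' 
      have hj0 : j ≠ 0 := fun h0 => hl (orderOf_eq_one_iff.1 (by rw [hj, h0, pow_zero]))
      have hg1 : 1 < Nat.gcd (2 ^ j) (2 * r) :=
        one_lt_two.trans_le (Nat.le_of_dvd (Nat.gcd_pos_of_pos_left _ (pow_pos two_pos j))
          (Nat.dvd_gcd (dvd_pow_self 2 hj0) (dvd_mul_right 2 r)))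
      exact absurd hord' (Nat.div_lt_self (pow_pos two_pos j) hg1).ne
    have hco : i.Coprime (Nat.card A) := by
      rw [hd]
      exact (Nat.prime_two.coprime_iff_not_dvd.2 hi).symm.pow_right d
    refine Int.cast_injective (α := ℂ) (mul_left_cancel₀ (natCard_ne_zero (G := A)) ?_)
    rw [← hB, ← hB]
    refine (Fintype.sum_equiv (powCoprime (G := A) hco.symm) _ _ fun a => ?_).symm
    show ψ a * ((((l ^ i)⁻¹ : A →* ℂˣ) a : ℂˣ) : ℂ) =
      ψ (a ^ i) * (((l⁻¹ : A →* ℂˣ) (a ^ i) : ℂˣ) : ℂ)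
    rw [gen_int_pow hψ (hz a) hco, hz a]
    simp [map_pow]
  -- per cyclic subgroup
  have hC : ∀ C : Subgroup (A →* ℂˣ), ∃ η : A →* ℂˣ, ∀ w, ∃ e S : ℤ, (e = 1 ∨ e = -1) ∧
      ((η w : ℂˣ) : ℂ) = (e : ℂ) ∧ S ≡ 1 - e [ZMOD 4] ∧
      ∑ l ∈ Finset.univ.filter (fun l => Subgroup.zpowers l = C),
        (B l : ℂ) * (((l w : ℂˣ) : ℂ) - 1) = (S : ℂ) := by
    intro C
    by_cases hne : ∃ l, Subgroup.zpowers l = C
    swap
    · refine ⟨1, fun w => ⟨1, 0, Or.inl rfl, by simp, rfl, ?_⟩⟩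
      rw [Finset.sum_eq_zero fun l hl => absurd ⟨l, (Finset.mem_filter.1 hl).2⟩ hne, Int.cast_zero]
    obtain ⟨l, rfl⟩ := hne
    obtain ⟨v, hv, hsum⟩ := exists_orbit_sign hH l
    have hcoef : ∀ w, ∑ m ∈ Finset.univ.filter (fun m => Subgroup.zpowers m = Subgroup.zpowers l),
        (B m : ℂ) * (((m w : ℂˣ) : ℂ) - 1) = (B l : ℂ) *
        ∑ m ∈ Finset.univ.filter (fun m => Subgroup.zpowers m = Subgroup.zpowers l),
          (((MonoidHom.eval w m : ℂˣ) : ℂ) - 1) := fun w => by
      rw [Finset.mul_sum]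
      exact Finset.sum_congr rfl fun m hm => by rw [hBinv m l (Finset.mem_filter.1 hm).2]; rfl
    by_cases hodd : (2 : ℤ) ∣ B l
    · refine ⟨1, fun w => ?_⟩
      obtain ⟨s, -, hs, -, -, hs2, -⟩ := hsum (MonoidHom.eval w)
      refine ⟨1, B l * s, Or.inl rfl, by simp, ?_, ?_⟩
      · rw [sub_self, Int.modEq_zero_iff_dvd]
        exact mul_dvd_mul hodd hs2
      · rw [hcoef w, hs]; push_cast; rfl
    · refine ⟨v, fun w => ?_⟩
      obtain ⟨s, e, hs, hv', he, ⟨s', hs2⟩, hse⟩ := hsum (MonoidHom.eval w)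
      refine ⟨e, B l * s, he, hv', ?_, by rw [hcoef w, hs]; push_cast; rfl⟩
      refine Int.ModEq.trans ?_ hse
      obtain ⟨b, hb⟩ := Int.not_even_iff_odd.1 (mt even_iff_two_dvd.1 hodd)
      rw [Int.modEq_iff_dvd]
      exact ⟨-b * s', by rw [hb, hs2]; ring⟩
  choose η hη using hC
  refine ⟨(Units.coeHom ℂ).comp (∏ C : Subgroup (A →* ℂˣ), η C), fun w => ?_⟩
  choose e S he hηe hS hsum using fun C => hη C w
  have hmain : ∀ T : Finset (Subgroup (A →* ℂˣ)),
      (∏ C ∈ T, e C = 1 ∨ ∏ C ∈ T, e C = -1) ∧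
        ∑ C ∈ T, S C ≡ 1 - ∏ C ∈ T, e C [ZMOD 4] := by
    intro T
    induction T using Finset.induction_on with
    | empty => exact ⟨Or.inl (by simp), by simp⟩
    | insert C T hC ih =>
      rw [Finset.prod_insert hC, Finset.sum_insert hC]
      refine ⟨?_, ((hS C).add ih.2).trans (one_sub_mul_mod_four (he C) ih.1)⟩
      rcases he C with h | h <;> rcases ih.1 with h' | h' <;> simp [h, h']
  obtain ⟨heu, hSu⟩ := hmain Finset.univ
  refine ⟨∏ C, e C, heu, ?_, ?_⟩
  · simp only [MonoidHom.comp_apply, Units.coeHom_apply, MonoidHom.finsetProd_apply,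
      Units.coe_prod, hηe, Int.cast_prod]
  · have hdiff : z w - z 1 = ∑ C, S C := by
      refine Int.cast_injective (α := ℂ) ?_
      simp only [Int.cast_sub, ← hz, Int.cast_sum, hexp, ← Finset.sum_sub_distrib, ← hsum]
      rw [Finset.sum_fiberwise Finset.univ (fun l : A →* ℂˣ => Subgroup.zpowers l)]
      exact Finset.sum_congr rfl fun l _ => by rw [map_one, Units.val_one]; ring
    have h4 : z w ≡ z 1 + (1 - ∏ C, e C) [ZMOD 4] := by
      rw [show z w = z 1 + ∑ C, S C by rw [← hdiff]; ring]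
      exact Int.ModEq.add_left _ hSu
    refine h4.trans ?_
    obtain ⟨b, hb⟩ := Int.not_even_iff_odd.1 (mt even_iff_two_dvd.1 h1)
    rw [Int.modEq_iff_dvd]
    rcases heu with h | h <;> rw [h, hb]
    · exact ⟨0, by ring⟩
    · exact ⟨-b - 1, by ring⟩

end Cfsg.Agent.Blocks.Star
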