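import Mathlib
import Cfsg.Agent.Lib.Blocks.Star.QuadSign

/-!
# Gluing compatible local multiplicities

Functions on the non-trivial subgroups of an abelian `p`-group satisfying the congruences of a
permutation character are the values of a generalized character off one; multiplicities with
local unit-modulus lifts can be given signs satisfying these congruences.
-/

set_option linter.style.haveILetI false
set_option linter.unusedSectionVars false

namespace Cfsg.Agent.Blocks.Star

open Cfsg.Agent.Blocks Cfsg.Agent.Characters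
open scoped ComplexConjugate

universe u

variable {A : Type u} [Group A] [Fintype A]

/-- Gluing along the lattice of subgroups. -/
theorem exists_glue (hcomm : ∀ a b : A, a * b = b * a) (Φ : Subgroup A → ℤ)
    (hC : ∀ L : Subgroup A, L ≠ ⊥ →
      (Nat.card A : ℤ) ∣ ∑ w : A, Φ (L ⊔ Subgroup.zpowers w)) :
    ∃ g : A → ℂ, Cfsg.IsGeneralizedCharacter A g ∧
      ∀ w : A, w ≠ 1 → g w = (Φ (Subgroup.zpowers w) : ℂ) := by
  classical
  haveI := Fintype.ofFinite (Subgroup A)
  have key : ∀ n : ℕ, ∃ c : Subgroup A → ℤ, ∀ L : Subgroup A, L ≠ ⊥ →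
      Nat.card A < Nat.card L + n →
      Φ L = ∑ J ∈ Finset.univ.filter (fun J => L ≤ J), c J * (J.index : ℤ) := by
    intro n
    induction n with
    | zero =>
      refine ⟨0, fun L _ h => absurd h ?_⟩
      have := Subgroup.card_le_card_group L
      omega
    | succ n ih =>
      obtain ⟨c, hc⟩ := ih
      let S : Subgroup A → ℤ := fun L => ∑ J ∈ Finset.univ.filter (fun J => L < J), c J * (J.index : ℤ)
      let c' : Subgroup A → ℤ := fun L =>
        if Nat.card L + n = Nat.card A then (Φ L - S L) / (L.index : ℤ) else c L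
      refine ⟨c', fun L hL hlt => ?_⟩
      have hsame : ∀ J : Subgroup A, Nat.card A < Nat.card J + n → c' J = c J := fun J hJ => by
        simp only [c', if_neg (show ¬ Nat.card J + n = Nat.card A by omega)]
      have hup : ∀ J : Subgroup A, L ≤ J → Nat.card L ≤ Nat.card J := fun J h => Subgroup.card_le_of_le h
      rcases Nat.lt_or_ge (Nat.card A) (Nat.card L + n) with h | h
      · rw [hc L hL h]
        refine Finset.sum_congr rfl fun J hJ => ?_
        have := hup J (Finset.mem_filter.1 hJ).2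
        rw [hsame J (by omega)]
      have heq : Nat.card L + n = Nat.card A := by omega
      have hbig : ∀ J : Subgroup A, L < J → Nat.card A < Nat.card J + n := fun J hJ => by
        have h1 : Nat.card L < Nat.card J := lt_of_le_of_ne (hup J hJ.le) fun e =>
          hJ.ne (Subgroup.eq_of_le_of_card_ge hJ.le e.ge)
        omega
      have hsplit : Finset.univ.filter (fun J => L ≤ J) =
          insert L (Finset.univ.filter (fun J => L < J)) := by
        ext J
        simp only [Finset.mem_filter, Finset.mem_univ, true_and, Finset.mem_insert]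
        exact ⟨fun h => h.eq_or_lt.imp Eq.symm id, fun h => h.elim (fun e => e.ge) le_of_lt⟩
      rw [hsplit, Finset.sum_insert (by simp),
        Finset.sum_congr rfl fun J hJ => by rw [hsame J (hbig J (Finset.mem_filter.1 hJ).2)]]
      show Φ L = c' L * (L.index : ℤ) + S L
      simp only [c', if_pos heq]
      have hdvd : (L.index : ℤ) ∣ Φ L - S L := by
        set m : Subgroup A → ℕ := fun J => (Finset.univ.filter fun w => w ∈ J ∧ w ∉ L).card
        have hw : ∀ w, w ∉ L → Φ (L ⊔ Subgroup.zpowers w) =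
            ∑ J ∈ Finset.univ.filter (fun J => L < J), if w ∈ J then c J * (J.index : ℤ) else 0 := by
          intro w hw
          have hwm : w ∈ L ⊔ Subgroup.zpowers w := Subgroup.mem_sup_right (Subgroup.mem_zpowers w)
          rw [hc _ (fun e => hL (le_bot_iff.1 (e ▸ le_sup_left)))
            (hbig _ (lt_of_le_of_ne le_sup_left fun e => hw (e.ge hwm))), ← Finset.sum_filter,
            Finset.filter_filter]
          refine Finset.sum_congr (Finset.filter_congr fun J _ => ?_) fun _ _ => rfl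
          constructor
          · exact fun h => ⟨lt_of_le_of_ne (le_sup_left.trans h) fun e => hw (e.ge (h hwm)), h hwm⟩
          · exact fun h => sup_le h.1.le (Subgroup.zpowers_le.2 h.2)
        have hcardL : ∀ J : Subgroup A, (Finset.univ.filter fun w => w ∈ J).card = Nat.card J := by
          intro J
          rw [Nat.card_eq_fintype_card, Fintype.card_subtype]
        have hm : ∀ J, L < J → (m J : ℤ) = (Nat.card J : ℤ) - Nat.card L := fun J hJ => by
          have h1 : (Finset.univ.filter fun w => w ∈ J ∧ w ∉ L).card +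
              (Finset.univ.filter fun w => w ∈ L).card = (Finset.univ.filter fun w => w ∈ J).card := by
            rw [← Finset.card_union_of_disjoint]
            · congr 1
              ext w
              simp only [Finset.mem_union, Finset.mem_filter, Finset.mem_univ, true_and]
              exact ⟨fun h => h.elim (fun h => h.1) (fun h => hJ.le h), fun h => by tauto⟩
            · rw [Finset.disjoint_filter]; exact fun w _ h h' => h.2 h'
          rw [hcardL, hcardL] at h1
          simp only [m]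
          omega
        have htot : ∑ w : A, Φ (L ⊔ Subgroup.zpowers w) =
            (Nat.card L : ℤ) * (Φ L - S L) +
              (Nat.card A : ℤ) * ∑ J ∈ Finset.univ.filter (fun J => L < J), c J := by
          rw [← Finset.sum_filter_add_sum_filter_not Finset.univ (fun w => w ∈ L)]
          rw [Finset.sum_congr rfl fun w hw' => by
              rw [sup_of_le_left (Subgroup.zpowers_le.2 (Finset.mem_filter.1 hw').2)],
            Finset.sum_const, hcardL, nsmul_eq_mul,
            Finset.sum_congr rfl fun w hw' => hw w (Finset.mem_filter.1 hw').2, Finset.sum_comm,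
            mul_sub, Finset.mul_sum]
          simp only [S, Finset.mul_sum]
          rw [sub_add_eq_add_sub, eq_sub_iff_add_eq, add_assoc, ← Finset.sum_add_distrib]
          congr 1
          refine Finset.sum_congr rfl fun J hJ => ?_
          rw [← Finset.sum_filter, Finset.filter_filter, Finset.sum_const, nsmul_eq_mul,
            show (Finset.univ.filter fun w => w ∉ L ∧ w ∈ J).card = m J from
              congrArg Finset.card (Finset.filter_congr fun w _ => and_comm),
            hm J (Finset.mem_filter.1 hJ).2, ← J.index_mul_card]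
          push_cast
          ring
        have h1 : (Nat.card A : ℤ) ∣ (Nat.card L : ℤ) * (Φ L - S L) :=
          (dvd_add_left (dvd_mul_right _ _)).1 (htot ▸ hC L hL)
        rw [← L.index_mul_card, Nat.cast_mul, mul_comm (L.index : ℤ)] at h1
        exact (mul_dvd_mul_iff_left (Int.natCast_ne_zero.2 Nat.card_pos.ne')).1 h1
      rw [Int.ediv_mul_cancel hdvd]
      ring
  obtain ⟨c, hc⟩ := key (Nat.card A + 1)
  let g : A → ℂ := fun w => ∑ J ∈ Finset.univ.filter (fun J : Subgroup A => J ≠ ⊥),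
    if w ∈ J then (c J : ℂ) * (J.index : ℂ) else 0
  refine ⟨g, gen_of_linear_sums hcomm fun μ => ?_, fun w hw => ?_⟩
  · have hJ : ∀ J : Subgroup A, ∃ z : ℤ,
        ∑ w : A, (if w ∈ J then (c J : ℂ) * (J.index : ℂ) else 0) * μ w =
          (Nat.card A : ℂ) * z := fun J => by
      obtain ⟨z, hz⟩ := linear_sum_of_gen (isGen_restrict J (isGen_monoidHom μ)) (1 : J →* ℂ)
      simp only [MonoidHom.one_apply, mul_one] at hz
      refine ⟨c J * z, ?_⟩
      simp only [ite_mul, zero_mul]
      rw [← Finset.sum_filter, ← Finset.mul_sum,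
        show ∑ w ∈ Finset.univ.filter (· ∈ J), μ w = ∑ w : J, μ w from
          Finset.sum_subtype _ (fun a => by simp) _, show ∑ w : J, μ w = _ from hz,
        ← J.index_mul_card]
      push_cast; ring
    choose z hz using hJ
    refine ⟨∑ J ∈ Finset.univ.filter (fun J : Subgroup A => J ≠ ⊥), z J, ?_⟩
    simp only [g, Finset.sum_mul]
    rw [Finset.sum_comm, Int.cast_sum, Finset.mul_sum]
    exact Finset.sum_congr rfl fun J _ => hz J
  · have hz : Subgroup.zpowers w ≠ ⊥ := fun e => hw (Subgroup.zpowers_eq_bot.1 e)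
    have hpos : 0 < Nat.card (Subgroup.zpowers w) := Nat.card_pos
    rw [hc _ hz (by omega)]
    push_cast
    simp only [g]
    rw [← Finset.sum_filter, Finset.filter_filter]
    refine Finset.sum_congr (Finset.filter_congr fun J _ => ?_) fun _ _ => rfl
    exact ⟨fun h => Subgroup.zpowers_le.2 h.2,
      fun h => ⟨fun e => hz (le_bot_iff.1 (e ▸ h)), h (Subgroup.mem_zpowers w)⟩⟩

variable {p : ℕ} {M : Ideal Cfsg.AlgInt}

/-- The modulus for signs. -/
def sgnMod (p : ℕ) : ℤ := if p = 2 then 4 else p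

theorem not_sgnMod_dvd (hp : p.Prime) {m : ℤ} (hm : ¬ (p : ℤ) ∣ m) : ¬ sgnMod p ∣ 2 * m := by
  unfold sgnMod
  split_ifs with h
  · subst h
    intro h4
    exact hm ((mul_dvd_mul_iff_left (two_ne_zero (α := ℤ))).1 (show (2 : ℤ) * 2 ∣ 2 * m from h4))
  · intro hd
    rcases (Nat.prime_iff_prime_int.1 hp).dvd_mul.1 hd with h2 | h2
    · exact h ((Nat.prime_dvd_prime_iff_eq hp Nat.prime_two).1 (Int.natCast_dvd_natCast.1 h2))
    · exact hm h2

/-- A generalized character with integer values is constant modulo `p`. -/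
theorem gen_int_cong (hp : p.Prime) (hcomm : ∀ a b : A, a * b = b * a) (hA : IsPGroup p A)
    {θ : A → ℂ} (hθ : Cfsg.IsGeneralizedCharacter A θ) {z : A → ℤ} (hz : ∀ w, θ w = (z w : ℂ))
    (w : A) : z w ≡ z 1 [ZMOD p] := by
  haveI := Fact.mk hp
  obtain ⟨k, h, hh, he⟩ := pow_card_cong hp hcomm hA hθ
  have hq : h w = ((((z w ^ p ^ k - z 1 : ℤ) : ℚ) / p : ℚ) : ℂ) := by
    push_cast
    rw [eq_div_iff (Nat.cast_ne_zero.2 hp.ne_zero), ← hz, ← hz, he w]
    ring
  obtain ⟨v, hv⟩ := exists_int_of_isIntegral_ratCast (hq ▸ gen_isIntegral hh w)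
  have hd : (p : ℤ) ∣ z w ^ p ^ k - z 1 := ⟨v, by
    rw [← Rat.cast_intCast (α := ℂ) v, Rat.cast_inj, div_eq_iff (Nat.cast_ne_zero.2 hp.ne_zero)] at hv
    rw [mul_comm]
    exact_mod_cast hv⟩
  rw [← ZMod.intCast_eq_intCast_iff]
  have h1 := (ZMod.intCast_zmod_eq_zero_iff_dvd _ p).2 hd
  push_cast at h1
  rwa [ZMod.pow_card_pow, sub_eq_zero] at h1

/-- Signs satisfying the congruences. -/
theorem exists_signs (hM : Cfsg.IsPModular p M) (hcomm : ∀ a b : A, a * b = b * a)
    (hA : IsPGroup p A) (m : Subgroup A → ℕ) (htop : ¬ p ∣ m ⊤)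
    (hloc : ∀ L : Subgroup A, L ≠ ⊥ → ∃ u a : A → ℂ, Cfsg.IsGeneralizedCharacter A u ∧
      (∀ w, IsIntegral ℤ (a w)) ∧ (∀ w, a w * conj (a w) = 1) ∧ a 1 = 1 ∧
      ∀ w, u w = a w * (m (L ⊔ Subgroup.zpowers w) : ℂ)) :
    ∃ (Φ : Subgroup A → ℤ) (s : ℤ),
      (∀ L, Φ L = (m L : ℤ) ∨ Φ L = -(m L : ℤ)) ∧
      (∀ L, L ≠ ⊥ → Φ L ≡ s [ZMOD (p : ℤ)]) ∧
      (∀ L, L ≠ ⊥ → ¬ p ∣ m L) ∧
      ∀ L : Subgroup A, L ≠ ⊥ → (Nat.card A : ℤ) ∣ ∑ w : A, Φ (L ⊔ Subgroup.zpowers w) := by
  classical
  have hp := hM.1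
  haveI := fact_prime_of_pm hM
  -- all multiplicities are prime to `p`
  have hdvd : ∀ n (L : Subgroup A), Nat.card A - Nat.card L = n → L ≠ ⊥ → ¬ p ∣ m L := by
    intro n
    induction n using Nat.strong_induction_on with
    | _ n ih =>
      intro L hn hL hd
      by_cases htopL : L = ⊤
      · exact htop (htopL ▸ hd)
      obtain ⟨w, -, hw⟩ := SetLike.exists_of_lt (lt_top_iff_ne_top.2 htopL)
      obtain ⟨u, a, hu, hai, habs, ha1, hua⟩ := hloc L hL
      set L' := L ⊔ Subgroup.zpowers w
      have hlt : L < L' := lt_of_le_of_ne le_sup_left fun e =>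
        hw (e.ge (Subgroup.mem_sup_right (Subgroup.mem_zpowers w)))
      have hlt' : Nat.card A - Nat.card L' < n := by
        have h1 : Nat.card L < Nat.card L' := lt_of_le_of_ne (Subgroup.card_le_of_le hlt.le)
          fun e => hlt.ne (Subgroup.eq_of_le_of_card_ge hlt.le e.ge)
        have h2 := Subgroup.card_le_card_group L'
        omega
      refine ih _ hlt' L' rfl (fun e => hL (le_bot_iff.1 (e ▸ le_sup_left))) ?_
      obtain ⟨k, h, hh, he⟩ := pow_card_cong hp hcomm hA hu
      have h1 : Cfsg.MemLocalIdeal M (u w) := by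
        refine ideal_of_pow hM (ring_gen hM hu w) (n := p ^ k) ?_
        rw [he w, hua 1, ha1, one_mul, Subgroup.zpowers_one_eq_bot, sup_bot_eq]
        exact ideal_add hM ((ideal_natCast_iff hM _).2 hd)
          (ideal_mul_right hM (ideal_p hM) (ring_gen hM hh w))
      have h2 : Cfsg.MemLocalIdeal M (conj (a w) * u w) := ideal_mul_left hM
        (ring_of_isIntegral hM ((hai w).map (starRingEnd ℂ).toIntAlgHom)) h1
      rw [hua, ← mul_assoc, mul_comm (conj (a w)), habs, one_mul] at h2
      exact (ideal_natCast_iff hM _).1 h2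
  have hnd : ∀ L : Subgroup A, L ≠ ⊥ → ¬ p ∣ m L := fun L => hdvd _ L rfl
  -- the real twists
  have htw : ∀ L : Subgroup A, L ≠ ⊥ → ∃ (ψ : A → ℂ) (z : A → ℤ),
      Cfsg.IsGeneralizedCharacter A ψ ∧ (∀ w, ψ w = (z w : ℂ)) ∧ z 1 = (m L : ℤ) ∧
      ∀ w, z w = (m (L ⊔ Subgroup.zpowers w) : ℤ) ∨ z w = -(m (L ⊔ Subgroup.zpowers w) : ℤ) := by
    intro L hL
    obtain ⟨u, a, hu, hai, habs, ha1, hua⟩ := hloc L hL
    have hne : ∀ w, L ⊔ Subgroup.zpowers w ≠ ⊥ := fun w e => hL (le_bot_iff.1 (e ▸ le_sup_left))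
    obtain ⟨ψ, hψ, hψ1, hψv⟩ := exists_real_twist hp hcomm hA
      (n := fun w => (m (L ⊔ Subgroup.zpowers w) : ℤ)) hu
      (fun v w e => by simp only [e])
      (fun w => Int.natCast_ne_zero.2 fun h0 => hnd _ (hne w) (h0 ▸ dvd_zero p))
      (fun h => hnd _ (hne 1) (Int.natCast_dvd_natCast.1 h))
      (fun w => by rw [hua w, Int.cast_natCast]) hai habs ha1
    have hv : ∀ w, ∃ z : ℤ, ψ w = (z : ℂ) ∧
        (z = (m (L ⊔ Subgroup.zpowers w) : ℤ) ∨ z = -(m (L ⊔ Subgroup.zpowers w) : ℤ)) := fun w => by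
      rcases hψv w with h | h
      · exact ⟨_, h, Or.inl rfl⟩
      · exact ⟨-(m (L ⊔ Subgroup.zpowers w) : ℤ), by rw [h]; push_cast; rfl, Or.inr rfl⟩
    choose z hz hzv using hv
    refine ⟨ψ, z, hψ, hz, Int.cast_injective (α := ℂ) ?_, hzv⟩
    rw [← hz, hψ1, Subgroup.zpowers_one_eq_bot, sup_bot_eq]
  set q := sgnMod p with hq
  set s : ℤ := if p = 2 then 1 else (m ⊤ : ℤ) with hs
  -- every multiplicity is the common residue up to sign
  have hres : ∀ n (L : Subgroup A), Nat.card A - Nat.card L = n → L ≠ ⊥ →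
      (m L : ℤ) ≡ s [ZMOD q] ∨ -(m L : ℤ) ≡ s [ZMOD q] := by
    intro n
    induction n using Nat.strong_induction_on with
    | _ n ih =>
      intro L hn hL
      by_cases h2 : p = 2
      · simp only [hq, sgnMod, hs, if_pos h2, Int.ModEq]
        have h := hnd L hL
        subst h2
        omega
      simp only [hq, sgnMod, hs, if_neg h2] at ih ⊢
      by_cases htopL : L = ⊤
      · exact Or.inl (by rw [htopL])
      obtain ⟨w, -, hw⟩ := SetLike.exists_of_lt (lt_top_iff_ne_top.2 htopL)
      obtain ⟨ψ, z, hψ, hz, hz1, hzv⟩ := htw L hL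
      set L' := L ⊔ Subgroup.zpowers w
      have hlt : L < L' := lt_of_le_of_ne le_sup_left fun e =>
        hw (e.ge (Subgroup.mem_sup_right (Subgroup.mem_zpowers w)))
      have hlt' : Nat.card A - Nat.card L' < n := by
        have h1 : Nat.card L < Nat.card L' := lt_of_le_of_ne (Subgroup.card_le_of_le hlt.le)
          fun e => hlt.ne (Subgroup.eq_of_le_of_card_ge hlt.le e.ge)
        have h2 := Subgroup.card_le_card_group L'
        omega
      have hI := ih _ hlt' L' rfl (fun e => hL (le_bot_iff.1 (e ▸ le_sup_left)))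
      have hc := (gen_int_cong hp hcomm hA hψ hz w).symm
      rw [hz1] at hc
      rcases hzv w with e | e <;> rw [e] at hc
      · exact hI.imp hc.trans fun h => hc.neg.trans h
      · rcases hI with h | h
        · exact Or.inr (((neg_neg (m L' : ℤ)) ▸ hc.neg).trans h)
        · exact Or.inl (hc.trans h)
  set Φ : Subgroup A → ℤ := fun L => if (m L : ℤ) ≡ s [ZMOD q] then (m L : ℤ) else -(m L : ℤ)
  have hΦ : ∀ L, L ≠ ⊥ → Φ L ≡ s [ZMOD q] := fun L hL => by
    simp only [Φ]
    split_ifs with h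
    · exact h
    · exact (hres _ L rfl hL).resolve_left h
  have huniq : ∀ L, L ≠ ⊥ → ∀ x : ℤ, (x = (m L : ℤ) ∨ x = -(m L : ℤ)) → x ≡ s [ZMOD q] →
      x = Φ L := fun L hL x hx hxs => by
    have hh := Int.modEq_iff_dvd.1 (hxs.trans (hΦ L hL).symm)
    have hn : ¬ q ∣ 2 * (m L : ℤ) := not_sgnMod_dvd hp fun h => hnd L hL (Int.natCast_dvd_natCast.1 h)
    rcases hx with rfl | rfl <;> simp only [Φ] at hh ⊢ <;> split_ifs at hh ⊢ with h <;>
      first
      | rfl
      | exact absurd (by simpa [two_mul] using hh) hn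
      | exact absurd (by simpa [two_mul, add_comm] using dvd_neg.2 hh) hn
  have hpq : (p : ℤ) ∣ q := by
    simp only [hq, sgnMod]
    split_ifs with h
    · subst h; norm_num
    · exact dvd_rfl
  refine ⟨Φ, s, fun L => ?_, fun L hL => (hΦ L hL).of_dvd hpq, hnd, fun L hL => ?_⟩
  · simp only [Φ]
    split_ifs
    exacts [Or.inl rfl, Or.inr rfl]
  obtain ⟨ψ, z, hψ, hz, hz1, hzv⟩ := htw L hL
  have hne : ∀ w, L ⊔ Subgroup.zpowers w ≠ ⊥ := fun w e => hL (le_bot_iff.1 (e ▸ le_sup_left))
  -- the global sign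
  obtain ⟨ε, hεu, hε⟩ : ∃ ε : ℤ, (ε = 1 ∨ ε = -1) ∧ ε * z 1 ≡ s [ZMOD q] := by
    rw [hz1]
    rcases hres _ L rfl hL with h | h
    · exact ⟨1, Or.inl rfl, by rwa [one_mul]⟩
    · exact ⟨-1, Or.inr rfl, by rwa [neg_one_mul]⟩
  obtain ⟨η, hη⟩ : ∃ η : A →* ℂ, ∀ w, ∃ e : ℤ, (e = 1 ∨ e = -1) ∧ η w = (e : ℂ) ∧
      z w ≡ z 1 * e [ZMOD q] := by
    by_cases h2 : p = 2
    · subst h2
      have h1 : ¬ (2 : ℤ) ∣ z 1 := by
        rw [hz1]; exact fun h => hnd L hL (Int.natCast_dvd_natCast.1 h)
      obtain ⟨η, h⟩ := exists_quad_sign hcomm hA hψ hz h1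
      exact ⟨η, fun w => by simpa [hq, sgnMod] using h w⟩
    · refine ⟨1, fun w => ⟨1, Or.inl rfl, by simp, ?_⟩⟩
      simp only [hq, sgnMod, if_neg h2, mul_one]
      exact gen_int_cong hp hcomm hA hψ hz w
  choose e heu heη hez using hη
  have hval : ∀ w, Φ (L ⊔ Subgroup.zpowers w) = ε * e w * z w := fun w => by
    refine (huniq _ (hne w) _ ?_ ?_).symm
    · rcases hεu with h | h <;> rcases heu w with h' | h' <;> rcases hzv w with h'' | h'' <;>
        simp [h, h', h'']
    · refine ((hez w).mul_left (ε * e w)).trans ?_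
      rw [show ε * e w * (z 1 * e w) = ε * z 1 * (e w * e w) by ring,
        show e w * e w = 1 by rcases heu w with h | h <;> simp [h], mul_one]
      exact hε
  obtain ⟨v, hv⟩ := linear_sum_of_gen hψ η
  refine ⟨ε * v, Int.cast_injective (α := ℂ) ?_⟩
  rw [Int.cast_sum, Int.cast_mul, Int.cast_mul, ← mul_assoc, mul_comm ((Nat.card A : ℤ) : ℂ),
    mul_assoc, Int.cast_natCast, ← hv, Finset.mul_sum]
  refine Finset.sum_congr rfl fun w _ => ?_
  rw [hval, hz, heη]
  push_cast
  ring

end Cfsg.Agent.Blocks.Star
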