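import Mathlib
import Cfsg.Agent.Lib.Blocks.LocalNilpotent
import Cfsg.Agent.Lib.Blocks.CentralDefect
import Cfsg.Agent.Lib.Blocks.Star.Nilpotent
import Cfsg.Agent.Lib.Blocks.Star.AbelianColumn

/-!
# The coefficient of a character at a pair with a nilpotent block

For an element `v` of an abelian defect group whose pair carries a nilpotent block, the part of a
character there is a multiple of the one Brauer character of that block.
-/

set_option linter.style.haveILetI false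
set_option linter.unusedSectionVars false

namespace Cfsg.Agent.Blocks.Star

open Cfsg.Agent.Blocks Cfsg.Agent.Characters
open Cfsg.Agent.BlockCharsA.BrauerPairs Cfsg.Agent.BlockCharsA.PairConj
open Cfsg.Agent.BlockCharsA.PairLocal Cfsg.Agent.BlockCharsA.PairFusion
open MonoidAlgebra
open scoped ComplexConjugate

universe u

variable {G : Type u} [Group G] [Finite G] {p : ℕ} {M : Ideal Cfsg.AlgInt}
  {B : Set (Cfsg.IrrCharacter G)} {P : Subgroup G}
  {e : Set (Cfsg.IrrCharacter (Subgroup.centralizer (P : Set G)))}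

theorem orbS_one : orbS p M P e (1 : G) = {1} := by
  ext w
  constructor
  · rintro ⟨t, -, rfl⟩; simp
  · rintro rfl; exact ⟨1, one_mem _, by simp⟩

/-- The orbit is counted by the stabiliser. -/
theorem card_orbS (v : G) :
    Nat.card (orbS p M P e v) = (CU v).relIndex (stab P e) := by
  rw [Subgroup.relIndex, Subgroup.index]
  refine (Nat.card_congr (Equiv.ofBijective
    (fun x => Quotient.liftOn' x
      (fun t : stab P e => (⟨t * v * (t : G)⁻¹, t, t.2, rfl⟩ : orbS p M P e v)) ?_) ?_)).symm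
  · intro a b hab
    rw [QuotientGroup.leftRel_apply, Subgroup.mem_subgroupOf] at hab
    have h := commute_of_mem_CU hab
    refine Subtype.ext ?_
    show (a : G) * v * (a : G)⁻¹ = (b : G) * v * (b : G)⁻¹
    have h' : v * ((a : G)⁻¹ * (b : G)) = ((a : G)⁻¹ * (b : G)) * v := by simpa using h.eq
    calc (a : G) * v * (a : G)⁻¹ = (a : G) * (v * ((a : G)⁻¹ * (b : G))) * (b : G)⁻¹ := by group
      _ = (b : G) * v * (b : G)⁻¹ := by rw [h']; group
  · constructor
    · intro x y hxy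
      induction x using Quotient.inductionOn' with | _ a =>
      induction y using Quotient.inductionOn' with | _ b =>
      have h : (a : G) * v * (a : G)⁻¹ = (b : G) * v * (b : G)⁻¹ := congrArg Subtype.val hxy
      refine Quotient.sound' ?_
      rw [QuotientGroup.leftRel_apply, Subgroup.mem_subgroupOf]
      refine mem_CU_of_commute ?_
      show v * ((a⁻¹ * b : stab P e) : G) = ((a⁻¹ * b : stab P e) : G) * v
      rw [Subgroup.coe_mul, Subgroup.coe_inv]
      calc v * ((a : G)⁻¹ * b) = (a : G)⁻¹ * ((a : G) * v * (a : G)⁻¹) * b := by group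
        _ = (a : G)⁻¹ * ((b : G) * v * (b : G)⁻¹) * b := by rw [h]
        _ = (a : G)⁻¹ * b * v := by group
    · rintro ⟨_, t, ht, rfl⟩
      exact ⟨Quotient.mk'' ⟨t, ht⟩, rfl⟩

variable [Fintype G]

/-- The characters of a nilpotent block with abelian defect group. -/
theorem nilpotent_abelian (hM : Cfsg.IsPModular p M) (hnil : Cfsg.IsNilpotentBlock p M B)
    (hmax : Cfsg.IsMaximalBrauerPair p M B P e) (hab : ∀ x ∈ P, ∀ y ∈ P, x * y = y * x) :
    Nat.card B = Nat.card P ∧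
    (∀ χ ψ : Cfsg.IrrCharacter G, χ ∈ B → ψ ∈ B → ∀ s : G, ¬ p ∣ orderOf s →
      (χ : G → ℂ) s = (ψ : G → ℂ) s) ∧
    (∀ χ : Cfsg.IrrCharacter G, χ ∈ B → Cfsg.blockHeight p B (χ : G → ℂ) = 0) ∧
    ∀ χ : Cfsg.IrrCharacter G, χ ∈ B →
      (Nat.card P : ℂ) * regSum p (χ : G → ℂ) (χ : G → ℂ) = (Nat.card G : ℂ) := by
  classical
  haveI := Fintype.ofFinite P
  obtain ⟨χ₀, -, Φ, hΦ⟩ := exists_bijection hM hnil hmax
  have hcomm : ∀ a b : P, a * b = b * a := fun a b => Subtype.ext (hab a a.2 b b.2)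
  have h1 : ∀ ζ : Cfsg.IrrCharacter P, (ζ : P → ℂ) 1 = 1 := fun ζ =>
    irr_degree_one_of_comm hcomm ζ.2
  have hd : ∀ ζ : Cfsg.IrrCharacter P, Cfsg.charDegree (ζ : P → ℂ) = 1 := fun ζ =>
    Nat.cast_injective (R := ℂ) (by rw [charDegree_cast, h1, Nat.cast_one])
  have hh0 : ∀ χ : Cfsg.IrrCharacter G, χ ∈ B → Cfsg.blockHeight p B (χ : G → ℂ) = 0 := by
    intro χ hχ
    obtain ⟨ζ, hζ⟩ := Φ.surjective ⟨χ, hχ⟩
    have h := (hΦ ζ).1
    rw [hζ, hd] at h
    simpa using h
  refine ⟨?_, fun χ ψ hχ hψ s hs => ?_, hh0, fun χ hχ => ?_⟩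
  · exact (NilpotentAbelian.blockRank_eq_one hM (BlockCharsA.PairMax.isDefectGroup_of_maximal hM hmax)
      hab hnil).2
  · obtain ⟨ζ, hζ⟩ := Φ.surjective ⟨χ, hχ⟩
    obtain ⟨ζ', hζ'⟩ := Φ.surjective ⟨ψ, hψ⟩
    have a := (hΦ ζ).2 s hs
    have b := (hΦ ζ').2 s hs
    rw [hζ, h1] at a
    rw [hζ', h1] at b
    exact a.trans b.symm
  · have h := pairing_nilpotent hM hnil hmax hχ (hh0 χ hχ) 1
    have hC : Nat.card (CU ((1 : P) : G)) = Nat.card G :=
      Nat.card_congr (Equiv.subtypeUnivEquiv fun x =>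
        mem_CU_of_commute (by simp : Commute ((1 : P) : G) x))
    rw [pairing_one hM hmax hχ hχ, nb_eq hM hmax hab, hC, OneMemClass.coe_one, orbS_one,
      Nat.card_eq_fintype_card (α := ({1} : Set G)), Fintype.card_unique, one_mul,
      mul_div_assoc', div_eq_one_iff_eq natCard_ne_zero] at h
    exact h

/-! ### The coefficient -/

variable (p M e) in
open scoped Classical in
/-- The block below the maximal pair at `v`. -/
noncomputable def gAt (v : G) : Set (Cfsg.IrrCharacter (CU v)) :=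
  if h : ∃ g : Set (Cfsg.IrrCharacter (CU v)),
    Cfsg.SubpairLE p M (Subgroup.zpowers v) g P e then h.choose else ∅

theorem gAt_spec (hM : Cfsg.IsPModular p M) (hmax : Cfsg.IsMaximalBrauerPair p M B P e) (v : P) :
    Cfsg.SubpairLE p M (Subgroup.zpowers (v : G)) (gAt p M e (v : G)) P e ∧
      Cfsg.IsPBlock M (gAt p M e (v : G)) ∧
      eps p M e v = elF (CU (v : G)) (gAt p M e (v : G)) := by
  obtain ⟨g, hg, hgB, he⟩ := eps_spec hM hmax v
  have h : ∃ g : Set (Cfsg.IrrCharacter (CU (v : G))),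
      Cfsg.SubpairLE p M (Subgroup.zpowers (v : G)) g P e := ⟨g, hg⟩
  have e1 : gAt p M e (v : G) = g := by
    rw [gAt, dif_pos h, subpair_unique hM _ _ P e rfl hmax.1.1 g h.choose hg h.choose_spec]
  rw [e1]
  exact ⟨hg, hgB, he⟩

variable (P e) in
/-- The inertial group fixing `v` centralises the defect group. -/
def FreeAt (v : G) : Prop :=
  ∀ x ∈ stab P e, x ∈ CU v → x ∈ Subgroup.centralizer (P : Set G)

theorem local_facts (hM : Cfsg.IsPModular p M) (hmax : Cfsg.IsMaximalBrauerPair p M B P e)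
    (hab : ∀ x ∈ P, ∀ y ∈ P, x * y = y * x) {v : P} (hv : FreeAt P e (v : G)) :
    Nat.card (gAt p M e (v : G)) = Nat.card P ∧
    (∀ ξ ξ' : Cfsg.IrrCharacter (CU (v : G)), ξ ∈ gAt p M e (v : G) → ξ' ∈ gAt p M e (v : G) →
      ∀ s : CU (v : G), ¬ p ∣ orderOf s → (ξ : CU (v : G) → ℂ) s = (ξ' : CU (v : G) → ℂ) s) ∧
    (∀ ξ : Cfsg.IrrCharacter (CU (v : G)), ξ ∈ gAt p M e (v : G) →
      Cfsg.blockHeight p (gAt p M e (v : G)) (ξ : CU (v : G) → ℂ) = 0) ∧
    ∀ ξ : Cfsg.IrrCharacter (CU (v : G)), ξ ∈ gAt p M e (v : G) →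
      (Nat.card P : ℂ) * regSum p (ξ : CU (v : G) → ℂ) (ξ : CU (v : G) → ℂ) =
        (Nat.card (CU (v : G)) : ℂ) := by
  obtain ⟨hle, -, -⟩ := gAt_spec hM hmax v
  haveI := Fintype.ofFinite (CU (v : G))
  obtain ⟨a, ha, -⟩ := LocalNilpotent.exists_maximal_local hM hmax hab hle
  have hPC : P ≤ CU (v : G) := fun x hx => mem_CU_of_commute (hab _ v.2 x hx)
  have hnil := (LocalNilpotent.isNilpotent_iff hM hmax hab hle).2 hv
  have h := nilpotent_abelian hM hnil ha fun x hx y hy => Subtype.ext (hab x hx y hy)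
  rwa [Nat.card_congr (Subgroup.subgroupOfEquivOfLe hPC).toEquiv] at h

variable (p M e) in
open scoped Classical in
/-- The coefficient of `f` at `v`. -/
noncomputable def coef [Fintype (Cfsg.IrrCharacter G)] (f : G → ℂ) (v : G) : ℂ :=
  haveI := Fintype.ofFinite (CU v)
  haveI := Fintype.ofFinite (Cfsg.IrrCharacter (CU v))
  ∑ ξ ∈ Finset.univ.filter (fun ξ => ξ ∈ gAt p M e v),
    Cfsg.classInner (shiftCU f v) (ξ : CU v → ℂ)

variable [Fintype (Cfsg.IrrCharacter G)]

theorem th_eq_coef (hM : Cfsg.IsPModular p M) (hmax : Cfsg.IsMaximalBrauerPair p M B P e)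
    (hab : ∀ x ∈ P, ∀ y ∈ P, x * y = y * x) {v : P} (hv : FreeAt P e (v : G)) {f : G → ℂ}
    (hf : Cfsg.IsClassFunction G f) {ξ : Cfsg.IrrCharacter (CU (v : G))}
    (hξ : ξ ∈ gAt p M e (v : G)) {s : CU (v : G)} (hs : ¬ p ∣ orderOf s) :
    th f (v : G) (eps p M e v) (s : G) =
      coef p M e f (v : G) * (ξ : CU (v : G) → ℂ) s := by
  classical
  haveI := Fintype.ofFinite (CU (v : G))
  haveI := Fintype.ofFinite (Cfsg.IrrCharacter (CU (v : G)))
  obtain ⟨-, -, he⟩ := gAt_spec hM hmax v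
  rw [he, th_eq hf, blockPart_eq_expand, coef, Finset.sum_mul]
  refine Finset.sum_congr (by congr!) fun η hη => ?_
  rw [(local_facts hM hmax hab hv).2.1 η ξ (Finset.mem_filter.1 hη).2 hξ s hs]
  congr!

theorem gAt_nonempty (hM : Cfsg.IsPModular p M) (hmax : Cfsg.IsMaximalBrauerPair p M B P e) (v : P) :
    ∃ ξ : Cfsg.IrrCharacter (CU (v : G)), ξ ∈ gAt p M e (v : G) :=
  block_nonempty hM (gAt_spec hM hmax v).2.1

theorem pairing_eq_coef (hM : Cfsg.IsPModular p M) (hmax : Cfsg.IsMaximalBrauerPair p M B P e)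
    (hab : ∀ x ∈ P, ∀ y ∈ P, x * y = y * x) {v : P} (hv : FreeAt P e (v : G)) {f f' : G → ℂ}
    (hf : Cfsg.IsClassFunction G f) (hf' : Cfsg.IsClassFunction G f') :
    (Nat.card P : ℂ) * (pairing p f f' (v : G) (eps p M e v) / (nb p M e v : ℂ)) =
      coef p M e f (v : G) * conj (coef p M e f' (v : G)) /
        (Nat.card (orbS p M P e (v : G)) : ℂ) := by
  classical
  haveI := Fintype.ofFinite (CU (v : G))
  obtain ⟨ξ, hξ⟩ := gAt_nonempty hM hmax v
  have h1 : pairing p f f' (v : G) (eps p M e v) =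
      coef p M e f (v : G) * conj (coef p M e f' (v : G)) *
        regSum p (ξ : CU (v : G) → ℂ) (ξ : CU (v : G) → ℂ) := by
    rw [pairing, sum_regAt, regSum_eq_sum, regSum_eq_sum, Finset.mul_sum]
    refine Finset.sum_congr rfl fun s _ => ?_
    by_cases hs : p ∣ orderOf s
    · simp [hs]
    · simp only [if_pos hs, th_eq_coef hM hmax hab hv hf hξ hs,
        th_eq_coef hM hmax hab hv hf' hξ hs, map_mul]
      ring
  have h2 := (local_facts hM hmax hab hv).2.2.2 ξ hξ
  rw [h1, nb_eq hM hmax hab, Nat.cast_mul, ← h2]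
  have hC : (Nat.card P : ℂ) * regSum p (ξ : CU (v : G) → ℂ) (ξ : CU (v : G) → ℂ) ≠ 0 := by
    rw [h2]; exact natCard_ne_zero
  obtain ⟨hP0, hR0⟩ := mul_ne_zero_iff.1 hC
  field_simp

theorem coef_isIntegral (hM : Cfsg.IsPModular p M) {χ : G → ℂ} (hχ : Cfsg.IsCharacter G χ)
    (v : G) : IsIntegral ℤ (coef p M e χ v) := by
  classical
  haveI := Fintype.ofFinite (CU v)
  haveI := Fintype.ofFinite (Cfsg.IrrCharacter (CU v))
  rw [coef]
  refine IsIntegral.sum _ fun ξ _ => ?_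
  let v' : CU v := ⟨v, mem_CU_of_commute (Commute.refl v)⟩
  have hv' : v'⁻¹ ∈ Subgroup.center (CU v) := (Subgroup.center _).inv_mem
    (Subgroup.mem_center_iff.2 fun x => Subtype.ext (commute_of_mem_CU x.2).eq.symm)
  obtain ⟨c, hc, hcs⟩ := exists_central_scalar ξ hv'
  obtain ⟨n, hn⟩ := classInner_gen_int
    (isGen_of_isCharacter (isCharacter_restrict (CU v) hχ))
    (isGen_of_isCharacter (irr_isCharacter ξ))
  have hint : IsIntegral ℤ c := by
    have h0 := irr_one_ne_zero ξ.2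
    have e1 : ∀ k : ℕ, (ξ : CU v → ℂ) (v'⁻¹ ^ k) = c ^ k * (ξ : CU v → ℂ) 1 := by
      intro k
      induction k with
      | zero => simp
      | succ k ih => rw [pow_succ, hcs, ih, pow_succ]; ring
    have h := e1 (orderOf v'⁻¹)
    rw [pow_orderOf_eq_one] at h
    exact isIntegral_of_pow_eq_one (orderOf_pos v'⁻¹).ne'
      ((mul_left_eq_self₀.1 h.symm).resolve_right h0)
  have e : Cfsg.classInner (shiftCU χ v) (ξ : CU v → ℂ) = conj c * (n : ℂ) := by
    rw [← hn, classInner_def, classInner_def, mul_left_comm, Finset.mul_sum _ _ (conj c)]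
    congr 1
    refine Fintype.sum_equiv (Equiv.mulLeft v') _ _ fun k => ?_
    show χ (v * (k : G)) * conj ((ξ : CU v → ℂ) k) =
      conj c * (χ ((v' * k : CU v) : G) * conj ((ξ : CU v → ℂ) (v' * k)))
    have hk : (ξ : CU v → ℂ) k = c * (ξ : CU v → ℂ) (v' * k) := by
      rw [← hcs]
      congr 1
      have h := Subgroup.mem_center_iff.1 hv' k
      rw [mul_assoc, h, mul_inv_cancel_left]
    rw [hk, map_mul]
    simp only [Subgroup.coe_mul, v']
    ring
  have key : IsIntegral ℤ (Cfsg.classInner (shiftCU χ v) (ξ : CU v → ℂ)) := by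
    rw [e]; exact (hint.map (starRingEnd ℂ).toIntAlgHom).mul isIntegral_algebraMap
  convert key using 1
  all_goals first | rfl | (simp only [classInner_def]; congr!)

/-- A height-zero character has a unit coefficient. -/
theorem coef_not_ideal (hM : Cfsg.IsPModular p M) (hmax : Cfsg.IsMaximalBrauerPair p M B P e)
    (hab : ∀ x ∈ P, ∀ y ∈ P, x * y = y * x) {v : P} (hv : FreeAt P e (v : G))
    {χ : Cfsg.IrrCharacter G} (hχ : χ ∈ B) (h0 : Cfsg.blockHeight p B (χ : G → ℂ) = 0) :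
    ¬ Cfsg.MemLocalIdeal M (coef p M e (χ : G → ℂ) (v : G)) := by
  classical
  haveI := Fintype.ofFinite (CU (v : G))
  obtain ⟨hle, hgB, he⟩ := gAt_spec hM hmax v
  obtain ⟨ξ, hξ⟩ := gAt_nonempty hM hmax v
  obtain ⟨hR, hU⟩ := pairing_unit hM (orderOf_top hM hmax v)
    ((block_of_subpairLE hM hle).2 hmax.1) hχ h0 hξ
  obtain ⟨hcard, -, hh, hreg⟩ := local_facts hM hmax hab hv
  have hval : regSum p (shiftCU (χ : G → ℂ) (v : G)) (ξ : CU (v : G) → ℂ) =
      coef p M e (χ : G → ℂ) (v : G) *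
        regSum p (ξ : CU (v : G) → ℂ) (ξ : CU (v : G) → ℂ) := by
    rw [regSum_shift_eq hM hgB (irr_isClassFunction χ) hξ, regSum_eq_sum, regSum_eq_sum,
      Finset.mul_sum]
    refine Finset.sum_congr rfl fun s _ => ?_
    by_cases hs : p ∣ orderOf s
    · simp [hs]
    · simp only [if_pos hs, ← he, th_eq_coef hM hmax hab hv (irr_isClassFunction χ) hξ hs]
      ring
  have hd := degree_factorization_eq hM hgB hξ
  rw [hh ξ hξ, Nat.add_zero] at hd
  have hdP : Cfsg.blockDefect p (gAt p M e (v : G)) = Cfsg.blockDefect p B :=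
    blockDefect_of_central hM hmax (fun x hx => hab x hx _ v.2) hgB hle
  have hP : Nat.card P = p ^ Cfsg.blockDefect p B :=
    card_defectGroup hM hmax.1.2.1 (BlockCharsA.PairMax.isDefectGroup_of_maximal hM hmax)
  intro hid
  refine hU ?_
  rw [hval]
  have hξ1 : (ξ : CU (v : G) → ℂ) 1 = (Cfsg.charDegree (ξ : CU (v : G) → ℂ) : ℂ) :=
    (charDegree_cast ξ).symm
  have hP0 : (Nat.card P : ℂ) ≠ 0 := natCard_ne_zero
  rw [show regSum p (ξ : CU (v : G) → ℂ) (ξ : CU (v : G) → ℂ) =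
    (Nat.card (CU (v : G)) : ℂ) / (Nat.card P : ℂ) by
      rw [eq_div_iff hP0, mul_comm, hreg ξ hξ], hξ1, mul_div_assoc, div_div, ← Nat.cast_mul]
  refine ideal_mul_right hM hid ?_
  have hd0 : Cfsg.charDegree (ξ : CU (v : G) → ℂ) ≠ 0 := (charDegree_pos ξ).ne'
  refine ring_natCast_div hM (mul_ne_zero Nat.card_pos.ne' hd0) ?_
  rw [Nat.factorization_mul Nat.card_pos.ne' hd0, Finsupp.add_apply, hP,
    hM.1.factorization_pow, Finsupp.single_eq_same]
  omega

/-- The coefficient at an element of the centre is never zero. -/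
theorem coef_ne_zero (hM : Cfsg.IsPModular p M) (hmax : Cfsg.IsMaximalBrauerPair p M B P e)
    (hab : ∀ x ∈ P, ∀ y ∈ P, x * y = y * x) {v : P} (hv : FreeAt P e (v : G))
    {χ : Cfsg.IrrCharacter G} (hχ : χ ∈ B) : coef p M e (χ : G → ℂ) (v : G) ≠ 0 := by
  obtain ⟨s, hs, hne⟩ := exists_th_ne_zero_center hM hmax (v := v) (fun y hy => hab y hy _ v.2) hχ
  obtain ⟨ξ, hξ⟩ := gAt_nonempty hM hmax v
  intro h0
  obtain ⟨h1, h2⟩ := mem_regAt.1 hs
  apply hne
  have hs' : ¬ p ∣ orderOf (⟨s, mem_CU_of_commute h1⟩ : CU (v : G)) := by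
    rwa [Subgroup.orderOf_mk]
  have h := th_eq_coef hM hmax hab hv (irr_isClassFunction χ) hξ hs'
  rw [h0, zero_mul] at h
  exact h

/-- The coefficient is constant on orbits of the inertial group. -/
theorem coef_conj (hM : Cfsg.IsPModular p M) (hmax : Cfsg.IsMaximalBrauerPair p M B P e)
    (hab : ∀ x ∈ P, ∀ y ∈ P, x * y = y * x) {t : G} (ht : t ∈ stab P e) {v w : P}
    (hw : (w : G) = t * v * t⁻¹) (hv : FreeAt P e (v : G)) {f : G → ℂ}
    (hf : Cfsg.IsClassFunction G f) : coef p M e f (w : G) = coef p M e f (v : G) := by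
  classical
  have hfw : FreeAt P e (w : G) := by
    intro x hx hxC
    have h1 : t⁻¹ * x * t ∈ stab P e := mul_mem (mul_mem (inv_mem ht) hx) ht
    have hxw := (commute_of_mem_CU hxC).eq
    rw [hw] at hxw
    have h2 := hv _ h1 (mem_CU_of_commute (by
      show (v : G) * (t⁻¹ * x * t) = t⁻¹ * x * t * (v : G)
      calc (v : G) * (t⁻¹ * x * t) = t⁻¹ * (t * v * t⁻¹ * x) * t := by group
        _ = t⁻¹ * (x * (t * v * t⁻¹)) * t := by rw [hxw]
        _ = t⁻¹ * x * t * (v : G) := by group))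
    refine fun y hy => ?_
    have hy' : t⁻¹ * y * t ∈ P := by
      have := conj_mem_top (P := P) (e := e) (inv_mem ht) hy
      simpa using this
    have h3 : (t⁻¹ * y * t) * (t⁻¹ * x * t) = (t⁻¹ * x * t) * (t⁻¹ * y * t) := h2 _ hy'
    calc y * x = t * ((t⁻¹ * y * t) * (t⁻¹ * x * t)) * t⁻¹ := by group
      _ = x * y := by rw [h3]; group
  obtain ⟨ξ, hξ⟩ := gAt_nonempty hM hmax v
  obtain ⟨η, hη⟩ := gAt_nonempty hM hmax w
  haveI := Fintype.ofFinite (CU (v : G))
  haveI := Fintype.ofFinite (CU (w : G))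
  have hp1 : ∀ {H : Subgroup G}, ¬ p ∣ orderOf (1 : H) := fun {H} => by simp [hM.1.ne_one]
  have hth : th f (w : G) (eps p M e w) 1 = th f (v : G) (eps p M e v) 1 := by
    rw [← eps_conj_stab hM hmax ht hw, hw, th, th,
      ← evalChar_cjE hf t (single ((v : G) * 1) 1 * eps p M e v), cjE_mul, cjE_single]
    congr 3
    group
  have hw1 := th_eq_coef hM hmax hab hfw hf hη (s := 1) hp1
  have hv1 := th_eq_coef hM hmax hab hv hf hξ (s := 1) hp1
  simp only [OneMemClass.coe_one] at hw1 hv1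
  rw [hw1, hv1] at hth
  -- the degrees agree
  have hC : Nat.card (CU (w : G)) = Nat.card (CU (v : G)) :=
    Nat.card_congr ((MulAut.conj t).toEquiv.subtypeEquiv fun x => by
      rw [MulEquiv.toEquiv_eq_coe, MulEquiv.coe_toEquiv, MulAut.conj_apply, hw, ← mem_CU_conj]
      simp [mul_assoc]).symm
  have hdeg : ∀ (u : P) (hu : FreeAt P e (u : G)) (θ : Cfsg.IrrCharacter (CU (u : G))),
      θ ∈ gAt p M e (u : G) → (Nat.card (CU (u : G)) : ℂ) * (eps p M e u).coeff 1 =
        (Nat.card P : ℂ) * ((Cfsg.charDegree (θ : CU (u : G) → ℂ) : ℂ) *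
          (Cfsg.charDegree (θ : CU (u : G) → ℂ) : ℂ)) := by
    intro u hu θ hθ
    haveI := Fintype.ofFinite (CU (u : G))
    haveI := Fintype.ofFinite (Cfsg.IrrCharacter (CU (u : G)))
    obtain ⟨-, -, he⟩ := gAt_spec hM hmax u
    obtain ⟨hcard, hreg, -, -⟩ := local_facts hM hmax hab hu
    rw [he, elF, coeff_inclEl_of_mem _ _ (one_mem (CU (u : G))), coeff_blockIdem, blockCoeff_eq_sum,
      ← mul_assoc, mul_inv_cancel₀ natCard_ne_zero, one_mul, ← Finset.sum_filter,
      Finset.sum_congr rfl fun (χ : Cfsg.IrrCharacter (CU (u : G))) hχ => show (χ : CU (u : G) → ℂ) 1 * conj ((χ : CU (u : G) → ℂ)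
        ⟨1, one_mem _⟩) = (Cfsg.charDegree (θ : CU (u : G) → ℂ) : ℂ) *
          (Cfsg.charDegree (θ : CU (u : G) → ℂ) : ℂ) by
        rw [show (⟨1, one_mem _⟩ : CU (u : G)) = 1 from rfl,
          hreg χ θ (Finset.mem_filter.1 hχ).2 hθ 1 hp1, ← charDegree_cast θ, Complex.conj_natCast],
      Finset.sum_const, nsmul_eq_mul, ← hcard, Nat.card_eq_fintype_card, Fintype.card_subtype]
  have e1 : (eps p M e w).coeff 1 = (eps p M e v).coeff 1 := by
    rw [← eps_conj_stab hM hmax ht hw, coeff_cjE]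
    simp
  have h2 := hdeg w hfw η hη
  rw [e1, hC, hdeg v hv ξ hξ] at h2
  have h3 : Cfsg.charDegree (ξ : CU (v : G) → ℂ) = Cfsg.charDegree (η : CU (w : G) → ℂ) := by
    have h4 : Cfsg.charDegree (ξ : CU (v : G) → ℂ) * Cfsg.charDegree (ξ : CU (v : G) → ℂ) =
        Cfsg.charDegree (η : CU (w : G) → ℂ) * Cfsg.charDegree (η : CU (w : G) → ℂ) := by
      exact_mod_cast mul_left_cancel₀ natCard_ne_zero h2
    exact Nat.mul_self_inj.1 h4
  rw [← charDegree_cast η, ← charDegree_cast ξ, h3] at hth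
  exact mul_right_cancel₀ (Nat.cast_ne_zero.2 (charDegree_pos η).ne') hth

end Cfsg.Agent.Blocks.Star
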