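import Mathlib
import Cfsg.Agent.Lib.Blocks.LocalNilpotent
import Cfsg.Agent.Lib.Blocks.Star.AbelianColumn

/-!
# Abelian defect groups: elements fixed by the inertial group

If `u` in the defect group is fixed by the inertial group then the block and its local block at
`u` have the same numbers of ordinary and of Brauer characters (Watanabe).
-/

set_option linter.style.haveILetI false
set_option linter.unusedSectionVars false

namespace Cfsg.Agent.Blocks.Star

open Cfsg.Agent.Blocks Cfsg.Agent.Characters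
open Cfsg.Agent.BlockCharsA.BrauerPairs Cfsg.Agent.BlockCharsA.PairConj
open Cfsg.Agent.BlockCharsA.PairLocal Cfsg.Agent.BlockCharsA.PairFusion
open Cfsg.Agent.BlockCharsA.PairReceptive Cfsg.Agent.BlockCharsA.Transport
open Cfsg.Agent.BlockCharsA.PairStab
open MonoidAlgebra
open scoped ComplexConjugate

universe u

variable {G : Type u} [Group G] [Finite G] {p : ℕ} {M : Ideal Cfsg.AlgInt}
  {B : Set (Cfsg.IrrCharacter G)} {P : Subgroup G}
  {e : Set (Cfsg.IrrCharacter (Subgroup.centralizer (P : Set G)))}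

/-- Orthogonality over the linear characters. -/
theorem sum_linear_apply {A : Type*} [CommGroup A] [Finite A] [Fintype (A →* ℂˣ)] {a : A}
    (ha : a ≠ 1) : ∑ μ : A →* ℂˣ, ((μ a : ℂˣ) : ℂ) = 0 := by
  obtain ⟨ν, hν⟩ := CommGroup.exists_apply_ne_one_of_hasEnoughRootsOfUnity A ℂ ha
  have h : ((ν a : ℂˣ) : ℂ) * ∑ μ : A →* ℂˣ, ((μ a : ℂˣ) : ℂ) =
      ∑ μ : A →* ℂˣ, ((μ a : ℂˣ) : ℂ) := by
    rw [Finset.mul_sum]
    exact Fintype.sum_equiv (Equiv.mulLeft ν) _ _ fun μ => by simp
  by_contra hne
  exact hν (Units.ext ((mul_eq_right₀ hne).1 h))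

/-- If the local ranks at `z r` and at `r` agree for all `r` moved by the inertial group, then
the local rank at the fixed element `z` is that of the block. -/
theorem lv_eq_rank_of_rest [Fintype G] (hM : Cfsg.IsPModular p M)
    (hmax : Cfsg.IsMaximalBrauerPair p M B P e) (hab : ∀ x ∈ P, ∀ y ∈ P, x * y = y * x) {z : P}
    (hz : ∀ t ∈ stab P e, t * (z : G) * t⁻¹ = (z : G))
    (hrest : ∀ r : P, (∃ t ∈ stab P e, t * (r : G) * t⁻¹ ≠ (r : G)) →
      lv p M e (Subgroup.zpowers ((z * r : P) : G)) = lv p M e (Subgroup.zpowers (r : G))) :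
    lv p M e (Subgroup.zpowers (z : G)) = Cfsg.blockRank p B := by
  classical
  haveI := fact_prime_of_pm hM
  haveI := Fintype.ofFinite P
  letI : CommGroup P :=
    { (inferInstance : Group P) with mul_comm := fun a b => Subtype.ext (hab a a.2 b b.2) }
  have hS := isBlockFusion_blockSystem hM hmax
  set A := (autHom P e).range
  haveI := Fintype.ofFinite A
  have hA : ¬ p ∣ Nat.card A := fun hdvd => by
    obtain ⟨α, hα⟩ := exists_prime_orderOf_dvd_card' p hdvd
    have h1 : (α : MulAut P) = 1 := Fusion.Abelian.eq_one_of_pow hmax.1.1.1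
      (isSaturated hM hS) hab
      ((autGroup_eq hM hS (Q := P) (f := e) Relation.ReflTransGen.refl).ge α.2) (k := 1)
      (by rw [pow_one, ← hα, ← Subgroup.orderOf_coe]; exact pow_orderOf_eq_one _)
    have h2 : orderOf α = 1 := orderOf_eq_one_iff.2 (Subtype.ext h1)
    exact hM.1.ne_one (hα.symm.trans h2)
  let N : P →* P :=
    { toFun := fun x => ∏ α : A, (α : MulAut P) x
      map_one' := Finset.prod_eq_one fun α _ => map_one _
      map_mul' := fun x y => by simp only [map_mul]; exact Finset.prod_mul_distrib }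
  have hNinv : ∀ t ∈ stab P e, ∀ x y : P, (y : G) = t * (x : G) * t⁻¹ → N x = N y := by
    intro t ht x y hy
    have hy' : y = (autHom P e ⟨t, ht⟩) x := Subtype.ext (by rw [coe_autHom]; exact hy)
    show ∏ α : A, (α : MulAut P) x = ∏ α : A, (α : MulAut P) y
    refine (Fintype.prod_equiv (Equiv.mulRight (⟨_, ⟨t, ht⟩, rfl⟩ : A)) _ _ fun α => ?_).symm
    rw [hy']
    rfl
  have hNfix : ∀ x : P, (∀ t ∈ stab P e, t * (x : G) * t⁻¹ = (x : G)) → N x = x ^ Nat.card A := by
    intro x hx
    show ∏ α : A, (α : MulAut P) x = _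
    rw [Finset.prod_congr rfl (g := fun _ => x) fun α _ => ?_, Finset.prod_const,
      Finset.card_univ, Nat.card_eq_fintype_card]
    obtain ⟨⟨t, ht⟩, he⟩ := α.2
    rw [← he]
    exact Subtype.ext (by rw [coe_autHom]; exact hx t ht)
  set g : P → ℂ := fun v =>
    (lv p M e (Subgroup.zpowers (v : G)) : ℂ) / (Nat.card (orbS p M P e (v : G)) : ℂ) with hg
  haveI : Fintype (N.range →* ℂˣ) := @Fintype.ofFinite _ (Finite.of_equiv _
    (CommGroup.monoidHom_mulEquiv_of_hasEnoughRootsOfUnity N.range ℂ).some.toEquiv.symm)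
  have hfib : ∀ a : N.range, ((Fintype.card (N.range →* ℂˣ) : ℕ) : ℂ) *
      ∑ v ∈ Finset.univ.filter (fun v => N.rangeRestrict v = a), g v = ∑ v, g v := by
    intro a
    have hlam : ∀ μ : N.range →* ℂˣ, μ ≠ 1 →
        ∑ v, ((μ (N.rangeRestrict v) : ℂˣ) : ℂ) * g v = 0 := by
      intro μ hμ
      obtain ⟨b, hb⟩ : ∃ b, μ b ≠ 1 := by
        by_contra hh
        push Not at hh
        exact hμ (MonoidHom.ext hh)
      obtain ⟨v₀, rfl⟩ := N.rangeRestrict_surjective b
      exact sum_linear_eq_zero hM hmax hab ((Units.coeHom ℂ).comp (μ.comp N.rangeRestrict))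
        (stable_of_inertial hM hmax hab fun t ht x y hy => by
          show ((μ (N.rangeRestrict x) : ℂˣ) : ℂ) = ((μ (N.rangeRestrict y) : ℂˣ) : ℂ)
          rw [show N.rangeRestrict x = N.rangeRestrict y from Subtype.ext (hNinv t ht x y hy)])
        (v₀ := v₀) fun h => hb (Units.ext h)
    calc ((Fintype.card (N.range →* ℂˣ) : ℕ) : ℂ) *
          ∑ v ∈ Finset.univ.filter (fun v => N.rangeRestrict v = a), g v
        = ∑ v, g v * ∑ μ : N.range →* ℂˣ, ((μ (N.rangeRestrict v * a⁻¹) : ℂˣ) : ℂ) := by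
          rw [Finset.sum_filter, Finset.mul_sum]
          refine Finset.sum_congr rfl fun v _ => ?_
          split
          · next h =>
            rw [h, mul_inv_cancel]
            simp only [map_one, Units.val_one, Finset.sum_const, Finset.card_univ, nsmul_one]
            ring
          · next h => rw [sum_linear_apply fun h' => h (mul_inv_eq_one.1 h')]; simp
      _ = ∑ μ : N.range →* ℂˣ, ((μ a⁻¹ : ℂˣ) : ℂ) *
            ∑ v, ((μ (N.rangeRestrict v) : ℂˣ) : ℂ) * g v := by
          simp only [Finset.mul_sum]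
          rw [Finset.sum_comm]
          refine Finset.sum_congr rfl fun μ _ => Finset.sum_congr rfl fun v _ => ?_
          rw [map_mul, Units.val_mul]
          ring
      _ = ∑ v, g v := by
          rw [Finset.sum_eq_single (1 : N.range →* ℂˣ)]
          · simp
          · intro μ _ hμ
            rw [hlam μ hμ, mul_zero]
          · simp
  set K := Finset.univ.filter (fun v => N.rangeRestrict v = 1) with hK
  have hKfix : ∀ r ∈ K, (∀ t ∈ stab P e, t * (r : G) * t⁻¹ = (r : G)) → r = 1 := by
    intro r hr hfix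
    have h1 : N r = 1 := congrArg Subtype.val (Finset.mem_filter.1 hr).2
    rw [hNfix r hfix] at h1
    obtain ⟨k, hk⟩ := IsPGroup.iff_orderOf.1 hmax.1.1.1 r
    have hco : (p ^ k).Coprime (Nat.card A) :=
      Nat.Coprime.pow_left k (hM.1.coprime_iff_not_dvd.2 hA)
    exact orderOf_eq_one_iff.1
      (Nat.eq_one_of_dvd_coprimes hco (hk ▸ dvd_rfl) (orderOf_dvd_of_pow_eq_one h1))
  have hshift : ∑ r ∈ K, g (z * r) = ∑ r ∈ K, g r := by
    have h1 : ∑ r ∈ K, g (z * r) =
        ∑ v ∈ Finset.univ.filter (fun v => N.rangeRestrict v = N.rangeRestrict z), g v := by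
      refine Finset.sum_equiv (Equiv.mulLeft z) (fun r => ?_) fun r _ => rfl
      simp only [hK, Finset.mem_filter, Finset.mem_univ, true_and, Equiv.coe_mulLeft, map_mul,
        mul_eq_left]
    rw [h1]
    exact mul_left_cancel₀ (Nat.cast_ne_zero.2 Fintype.card_ne_zero)
      ((hfib _).trans (hfib 1).symm)
  have horb : ∀ r : P, Nat.card (orbS p M P e ((z * r : P) : G)) =
      Nat.card (orbS p M P e (r : G)) := by
    intro r
    rw [show orbS p M P e ((z * r : P) : G) = (fun w => (z : G) * w) '' orbS p M P e (r : G) from ?_,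
      Nat.card_image_of_injective (mul_right_injective (z : G))]
    ext w
    constructor
    · rintro ⟨t, ht, rfl⟩
      refine ⟨t * (r : G) * t⁻¹, ⟨t, ht, rfl⟩, ?_⟩
      conv_lhs => rw [← hz t ht]
      rw [Subgroup.coe_mul]
      group
    · rintro ⟨_, ⟨t, ht, rfl⟩, rfl⟩
      refine ⟨t, ht, ?_⟩
      show (z : G) * (t * (r : G) * t⁻¹) = t * ((z * r : P) : G) * t⁻¹
      conv_lhs => rw [← hz t ht]
      rw [Subgroup.coe_mul]
      group
  have h1K : (1 : P) ∈ K := Finset.mem_filter.2 ⟨Finset.mem_univ _, map_one _⟩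
  have hrest' : ∀ r ∈ K, r ≠ 1 → g (z * r) = g r := by
    intro r hr hne
    have hmove : ∃ t ∈ stab P e, t * (r : G) * t⁻¹ ≠ (r : G) := by
      by_contra hh
      push Not at hh
      exact hne (hKfix r hr hh)
    simp only [g, horb, hrest r hmove]
  rw [← Finset.add_sum_erase _ _ h1K, ← Finset.add_sum_erase _ _ h1K,
    Finset.sum_congr rfl fun r hr => hrest' r (Finset.mem_of_mem_erase hr) (Finset.ne_of_mem_erase hr),
    add_right_cancel_iff, mul_one] at hshift
  have horb1 : Nat.card (orbS p M P e ((1 : P) : G)) = 1 := by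
    rw [show orbS p M P e ((1 : P) : G) = {1} from ?_]
    · simp
    ext w
    constructor
    · rintro ⟨t, -, rfl⟩; simp
    · rintro rfl; exact ⟨1, one_mem _, by simp⟩
  have h2 := horb 1
  rw [mul_one] at h2
  simp only [g, h2, horb1, Nat.cast_one, div_one] at hshift
  rw [← lv_one hM hmax]
  exact_mod_cast hshift

/-- The data of the local block at a subgroup `Q` of the top. -/
theorem exists_local_data (hM : Cfsg.IsPModular p M) (hmax : Cfsg.IsMaximalBrauerPair p M B P e)
    (hab : ∀ x ∈ P, ∀ y ∈ P, x * y = y * x) {Q : Subgroup G} (hQP : Q ≤ P) :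
    ∃ (f : Set (Cfsg.IrrCharacter (Subgroup.centralizer (Q : Set G))))
      (a : Set (Cfsg.IrrCharacter (Subgroup.centralizer
        (P.subgroupOf (Subgroup.centralizer (Q : Set G)) : Set (Subgroup.centralizer (Q : Set G)))))),
      Cfsg.SubpairLE p M Q f P e ∧
      Cfsg.IsMaximalBrauerPair p M f (P.subgroupOf (Subgroup.centralizer (Q : Set G))) a ∧
      (∀ y : Subgroup.centralizer (Q : Set G),
        y ∈ stab (P.subgroupOf (Subgroup.centralizer (Q : Set G))) a ↔ (y : G) ∈ stab P e) ∧
      ∀ v : P.subgroupOf (Subgroup.centralizer (Q : Set G)),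
        lv p M a (Subgroup.zpowers (v : Subgroup.centralizer (Q : Set G))) =
          lv p M e (Q ⊔ Subgroup.zpowers ((v : Subgroup.centralizer (Q : Set G)) : G)) := by
  classical
  obtain ⟨f, -, hle⟩ := exists_subpair hM _ Q P e rfl hmax.1.1 hQP
  obtain ⟨a, ha, hst, hm⟩ := LocalNilpotent.exists_maximal_local_match hM hmax hab hle
  refine ⟨f, a, hle, ha, fun y => (mem_stab (Q := P.subgroupOf _) (f := a)).trans (hst y),
    fun v => ?_⟩
  set v₀ : G := ((v : Subgroup.centralizer (Q : Set G)) : G) with hv₀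
  have hvP : v₀ ∈ P := Subgroup.mem_subgroupOf.1 v.2
  set L := Q ⊔ Subgroup.zpowers v₀ with hL
  have hLP : L ≤ P := sup_le hQP (Subgroup.zpowers_le.2 hvP)
  obtain ⟨g2, hg2, hle2⟩ := exists_subpair hM _ L P e rfl hmax.1.1 hLP
  have hPC : ∀ R : Subgroup G, R ≤ P → P ≤ Subgroup.centralizer (R : Set G) :=
    fun R hR x hx y hy => hab y (hR hy) x hx
  have hn2 : Cfsg.IsNormalSubpair p M L g2 P e := normal_of_subpairLE hM hle2 hmax.1.1
    ((hPC L hLP).trans (Subgroup.centralizer_le_normalizer _))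
  have hLC : ∀ x : G, x ∈ Subgroup.centralizer (L : Set G) ↔
      x ∈ Subgroup.centralizer (Q : Set G) ∧ v₀ * x = x * v₀ := by
    intro x
    constructor
    · exact fun hx => ⟨centralizer_le_centralizer le_sup_left hx,
        Subgroup.mem_centralizer_iff.1 hx v₀ (Subgroup.mem_sup_right (Subgroup.mem_zpowers v₀))⟩
    · rintro ⟨h1, h2⟩
      exact le_centralizer_iff_mem.1 (sup_le (le_centralizer_iff_mem.2 h1)
        (Subgroup.zpowers_le.2 (Subgroup.mem_centralizer_singleton_iff.2 h2)))
  let σ : Subgroup.centralizer (L : Set G) ≃* CU (v : Subgroup.centralizer (Q : Set G)) :=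
    { toFun := fun x => ⟨⟨(x : G), ((hLC _).1 x.2).1⟩,
        mem_CU_of_commute (Subtype.ext ((hLC _).1 x.2).2)⟩
      invFun := fun c => ⟨((c : Subgroup.centralizer (Q : Set G)) : G), (hLC _).2 ⟨(c : Subgroup.centralizer (Q : Set G)).2,
        congrArg Subtype.val (commute_of_mem_CU c.2).eq⟩⟩
      left_inv := fun _ => rfl
      right_inv := fun _ => rfl
      map_mul' := fun _ _ => rfl }
  set g3 := pullSet σ g2
  have hg3 : Cfsg.IsPBlock M g3 := isPBlock_pullSet hM σ hg2
  have hcoe : ∀ t : Subgroup.centralizer (Q : Set G), (elF (CU (v : Subgroup.centralizer (Q : Set G))) g3).coeff t =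
      (elF (Subgroup.centralizer (L : Set G)) g2).coeff (t : G) := by
    intro t
    by_cases ht : t ∈ CU (v : Subgroup.centralizer (Q : Set G))
    · rw [elF, elF, coeff_inclEl_of_mem _ _ ht,
        coeff_inclEl_of_mem _ _ (show (t : G) ∈ Subgroup.centralizer (L : Set G) from (σ.symm ⟨t, ht⟩).2), coeff_blockIdem, coeff_blockIdem]
      exact blockCoeff_pullSet σ g2 (σ.symm ⟨t, ht⟩)
    · rw [elF, elF, coeff_inclEl_notMem _ _ ht, coeff_inclEl_notMem]
      exact fun h => ht (σ ⟨t, h⟩).2
  have hPv : P.subgroupOf (Subgroup.centralizer (Q : Set G)) ≤ CU (v : Subgroup.centralizer (Q : Set G)) := fun x hx =>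
    mem_CU_of_commute (Subtype.ext (hab _ hvP _ hx))
  have hle3 : Cfsg.SubpairLE p M (Subgroup.zpowers (v : Subgroup.centralizer (Q : Set G))) g3 (P.subgroupOf (Subgroup.centralizer (Q : Set G))) a := by
    refine Relation.ReflTransGen.single ⟨⟨ha.1.1.1.to_le (Subgroup.zpowers_le.2 v.2), hg3⟩, ha.1.1,
      Subgroup.zpowers_le.2 v.2, hPv.trans (Subgroup.centralizer_le_normalizer _),
      fun x hx => stabilizes_self g3 (hPv hx), fun η hη => ?_⟩
    rw [brauerOmega_elF, omega_match hm.1 hm.2.1 hcoe]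
    simp only [mem_of_match hM hm hm.1 hm.2.1] at hη
    have h1 := hn2.2.2.2.2.2 _ hη
    rw [brauerOmega_elF] at h1
    exact h1
  rw [lv_eq hM ha hle3, lv_eq hM hmax hle2]
  exact NilpotentAbelian.blockRank_pullSet σ g2

/-- The local rank does not change on adding a fixed element. -/
theorem lv_sup_eq (hM : Cfsg.IsPModular p M) (hmax : Cfsg.IsMaximalBrauerPair p M B P e)
    (hab : ∀ x ∈ P, ∀ y ∈ P, x * y = y * x) : ∀ (n : ℕ) (Q : Subgroup G), Q ≤ P →
      Nat.card (Subgroup.centralizer (Q : Set G)) = n → ∀ z ∈ P,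
      (∀ t ∈ stab P e, t ∈ Subgroup.centralizer (Q : Set G) → t * z * t⁻¹ = z) →
      lv p M e Q = lv p M e (Q ⊔ Subgroup.zpowers z) := by
  intro n
  induction n using Nat.strong_induction_on with
  | _ n ih =>
    intro Q hQP hn z hzP hz
    obtain ⟨f, a, hle, ha, hst, hlv⟩ := exists_local_data hM hmax hab hQP
    haveI := Fintype.ofFinite (Subgroup.centralizer (Q : Set G))
    have habC : ∀ x ∈ P.subgroupOf (Subgroup.centralizer (Q : Set G)),
        ∀ y ∈ P.subgroupOf (Subgroup.centralizer (Q : Set G)), x * y = y * x :=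
      fun x hx y hy => Subtype.ext (hab x hx y hy)
    have hPC : P ≤ Subgroup.centralizer (Q : Set G) := fun x hx y hy => hab y (hQP hy) x hx
    set z' : P.subgroupOf (Subgroup.centralizer (Q : Set G)) := ⟨⟨z, hPC hzP⟩, hzP⟩
    have hmain := lv_eq_rank_of_rest hM ha habC (z := z')
      (fun t ht => Subtype.ext (hz (t : G) ((hst t).1 ht) t.2)) (fun r => by
        rintro ⟨t, ht, hne⟩
        rw [hlv, hlv]
        set r₀ : G := ((r : Subgroup.centralizer (Q : Set G)) : G)
        have hrP : r₀ ∈ P := Subgroup.mem_subgroupOf.1 r.2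
        have htne : (t : G) * r₀ * (t : G)⁻¹ ≠ r₀ := fun h => hne (Subtype.ext h)
        have key : ∀ w ∈ P, (t : G) * w * (t : G)⁻¹ ≠ w →
            lv p M e (Q ⊔ Subgroup.zpowers w) =
              lv p M e (Q ⊔ Subgroup.zpowers w ⊔ Subgroup.zpowers z) := by
          intro w hw htw
          refine ih _ ?_ (Q ⊔ Subgroup.zpowers w) (sup_le hQP (Subgroup.zpowers_le.2 hw)) rfl z hzP
            fun s hs hsC => hz s hs (centralizer_le_centralizer le_sup_left hsC)
          rw [← hn]
          refine lt_of_le_of_ne (Subgroup.card_le_of_le (centralizer_le_centralizer le_sup_left))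
            fun heq => htw ?_
          have := eq_of_le_of_card_le (centralizer_le_centralizer
            (le_sup_left : Q ≤ Q ⊔ Subgroup.zpowers w)) heq.ge
          have htC : (t : G) ∈ Subgroup.centralizer
              ((Q ⊔ Subgroup.zpowers w : Subgroup G) : Set G) := by rw [this]; exact t.2
          rw [← Subgroup.mem_centralizer_iff.1 htC w
            (Subgroup.mem_sup_right (Subgroup.mem_zpowers w)), mul_inv_cancel_right]
        rw [show (((z' * r : P.subgroupOf (Subgroup.centralizer (Q : Set G))) :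
          Subgroup.centralizer (Q : Set G)) : G) = z * r₀ from rfl,
          key (z * r₀) (P.mul_mem hzP hrP) ?_, key r₀ hrP htne]
        · congr 1
          rw [sup_assoc, sup_assoc]
          congr 1
          refine le_antisymm (sup_le (Subgroup.zpowers_le.2 ?_) le_sup_right)
            (sup_le (Subgroup.zpowers_le.2 ?_) le_sup_right)
          · exact mul_mem (Subgroup.mem_sup_right (Subgroup.mem_zpowers z))
              (Subgroup.mem_sup_left (Subgroup.mem_zpowers r₀))
          · have h := mul_mem (inv_mem (Subgroup.mem_sup_right (Subgroup.mem_zpowers z)))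
              (Subgroup.mem_sup_left (T := Subgroup.zpowers z) (Subgroup.mem_zpowers (z * r₀)))
            rwa [inv_mul_cancel_left] at h
        · intro h
          apply htne
          have h2 : (t : G) * (z * r₀) * (t : G)⁻¹ =
              ((t : G) * z * (t : G)⁻¹) * ((t : G) * r₀ * (t : G)⁻¹) := by group
          rw [h, hz (t : G) ((hst t).1 ht) t.2] at h2
          exact (mul_left_cancel h2).symm)
    rw [hlv] at hmain
    rw [lv_eq hM hmax hle, ← hmain]

/-- Watanabe's theorem on the numbers of characters. -/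
theorem rank_and_card_fixed [Fintype G] (hM : Cfsg.IsPModular p M)
    (hmax : Cfsg.IsMaximalBrauerPair p M B P e) (hab : ∀ x ∈ P, ∀ y ∈ P, x * y = y * x) {u : G}
    (hu : u ∈ P) (hfix : ∀ t ∈ stab P e, t * u * t⁻¹ = u)
    {f : Set (Cfsg.IrrCharacter (CU u))} (hle : Cfsg.SubpairLE p M (Subgroup.zpowers u) f P e) :
    Cfsg.blockRank p B = Cfsg.blockRank p f ∧ Nat.card B = Nat.card f := by
  classical
  haveI := Fintype.ofFinite P
  haveI := Fintype.ofFinite (CU u)
  have hQP : Subgroup.zpowers u ≤ P := Subgroup.zpowers_le.2 hu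
  obtain ⟨f', a, hle', ha, hst, hlv⟩ := exists_local_data hM hmax hab hQP
  obtain rfl := subpair_unique hM _ _ P e rfl hmax.1.1 f' f hle' hle
  haveI := Fintype.ofFinite (P.subgroupOf (CU u))
  have hbot : lv p M e ⊥ = Cfsg.blockRank p B := by
    rw [← lv_one hM hmax, show Subgroup.zpowers ((1 : P) : G) = ⊥ from by simp]
  refine ⟨?_, ?_⟩
  · rw [← lv_eq hM hmax hle, ← hbot,
      lv_sup_eq hM hmax hab _ ⊥ bot_le rfl u hu fun t ht _ => hfix t ht, bot_sup_eq]
  · apply Nat.cast_injective (R := ℂ)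
    have habC : ∀ x ∈ P.subgroupOf (CU u), ∀ y ∈ P.subgroupOf (CU u), x * y = y * x :=
      fun x hx y hy => Subtype.ext (hab x hx y hy)
    have hPC : P ≤ CU u := fun x hx => mem_CU_of_commute (hab u hu x hx)
    rw [card_eq_sum hM hmax hab, card_eq_sum hM ha habC]
    refine (Fintype.sum_equiv (Subgroup.subgroupOfEquivOfLe hPC).toEquiv _ _ fun v => ?_).symm
    simp only [MulEquiv.toEquiv_eq_coe, MulEquiv.coe_toEquiv]
    have horb : Nat.card (orbS p M (P.subgroupOf (CU u)) a (v : CU u)) =
        Nat.card (orbS p M P e ((v : CU u) : G)) := by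
      rw [← Nat.card_image_of_injective Subtype.val_injective
        (orbS p M (P.subgroupOf (CU u)) a (v : CU u))]
      congr 2
      ext w
      constructor
      · rintro ⟨_, ⟨t, ht, rfl⟩, rfl⟩
        exact ⟨t, (hst t).1 ht, rfl⟩
      · rintro ⟨t, ht, rfl⟩
        have htC : t ∈ CU u := mem_CU_of_commute
          (show u * t = t * u from (mul_inv_eq_iff_eq_mul.1 (hfix t ht)).symm)
        exact ⟨_, ⟨⟨t, htC⟩, (hst _).2 ht, rfl⟩, rfl⟩
    rw [horb, hlv v]
    show _ = (lv p M e (Subgroup.zpowers ((v : CU u) : G)) : ℂ) / _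
    rw [sup_comm, lv_sup_eq hM hmax hab _ (Subgroup.zpowers ((v : CU u) : G))
      (Subgroup.zpowers_le.2 (Subgroup.mem_subgroupOf.1 v.2)) rfl u hu fun t ht _ => hfix t ht]
    rfl

end Cfsg.Agent.Blocks.Star
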