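import Mathlib
import Cfsg.Agent.Lib.Blocks.Star.Coef
import Cfsg.Agent.Lib.Blocks.Star.Watanabe

/-!
# Multiplicities of a projective module at the subpairs of an abelian defect group

For an idempotent `π` fixed by the defect group and absorbed by every block below the maximal
pair, the multiplicity at a subgroup is the value of the one Brauer character of the nilpotent
block there at the Brauer image of `π`.
-/

set_option linter.style.haveILetI false
set_option linter.unusedSectionVars false

namespace Cfsg.Agent.Blocks.Star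

open Cfsg.Agent.Blocks Cfsg.Agent.Characters Cfsg.Agent.BlockCharsA
open Cfsg.Agent.BlockCharsA.BrauerPairs Cfsg.Agent.BlockCharsA.PairConj
open Cfsg.Agent.BlockCharsA.PairLocal Cfsg.Agent.BlockCharsA.PairFusion
open Cfsg.Agent.BlockCharsA.PairStab Cfsg.Agent.BlockCharsA.PairCorr
open Cfsg.Agent.BlockCharsA.PairReceptive Cfsg.Agent.BlockCharsA.Transport
open MonoidAlgebra
open scoped ComplexConjugate

universe u

section General

variable {K : Type u} [Group K] [Finite K] {p : ℕ} {M : Ideal Cfsg.AlgInt}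

/-- The value at an integral idempotent only depends on the values at regular elements. -/
theorem evalChar_idem_reg (hM : Cfsg.IsPModular p M) {f f' : K → ℂ}
    (hf : Cfsg.IsClassFunction K f) (hf' : Cfsg.IsClassFunction K f')
    (h : ∀ s, ¬ p ∣ orderOf s → f s = f' s) {E : MonoidAlgebra ℂ K} (hE : IntEl M E)
    (hid : E * E = E) : evalChar f E = evalChar f' E := by
  haveI := Fintype.ofFinite K
  have h0 : ∀ x : K, p ∣ orderOf x → ∑ v : K, E.coeff (v * x * v⁻¹) = 0 := by
    intro x hx
    obtain ⟨z, w, hzw, hc, hzo, hwo⟩ := exists_ppart hM.1 x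
    have h1 := sum_conj_shift_eq_zero hM hE hid (Commute.refl (1 : K)) hc ⟨0, by simp⟩
      (by simp [hM.1.ne_one]) hzo hwo (fun g => by simp) (fun g => by simp) fun hcj => by
        have hz1 : z = 1 := isConj_one_right.1 hcj
        rw [hz1, one_mul] at hzw
        exact absurd (hzw ▸ hx) hwo
    simpa [← hzw] using h1
  have key : ∀ φ : K → ℂ, Cfsg.IsClassFunction K φ →
      ∑ x : K, φ x * ∑ v : K, E.coeff (v * x * v⁻¹) = (Nat.card K : ℂ) * evalChar φ E := by
    intro φ hφ
    simp only [Finset.mul_sum]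
    rw [Finset.sum_comm]
    rw [Finset.sum_congr rfl (g := fun _ => evalChar φ E) fun v _ => ?_]
    · simp [Nat.card_eq_fintype_card]
    rw [evalChar_eq_sum]
    refine Fintype.sum_equiv (MulAut.conj v).toEquiv _ _ fun x => ?_
    rw [show (MulAut.conj v).toEquiv x = v * x * v⁻¹ from rfl, hφ x v, mul_comm]
  refine mul_left_cancel₀ (natCard_ne_zero (G := K)) ?_
  rw [← key f hf, ← key f' hf']
  refine Finset.sum_congr rfl fun x _ => ?_
  by_cases hx : p ∣ orderOf x
  · rw [h0 x hx, mul_zero, mul_zero]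
  · rw [h x hx]

/-- The value of a character at an idempotent is a natural number. -/
theorem evalChar_idem_nat {χ : K → ℂ} (hχ : Cfsg.IsCharacter K χ) {E : MonoidAlgebra ℂ K}
    (hid : E * E = E) : ∃ n : ℕ, evalChar χ E = (n : ℂ) := by
  have hinv : InvBy ((⊥ : Subgroup K) : Set K) E := by
    intro v hv g
    rw [Subgroup.mem_bot.1 hv]
    simp
  obtain ⟨n, hn⟩ := char_one_nat (isCharacter_shift hχ hinv hid)
  refine ⟨n, ?_⟩
  rw [← hn]
  simp only [OneMemClass.coe_one]
  rw [← MonoidAlgebra.one_def, one_mul]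

/-- The value at the product with a block idempotent is the value of the part in the block. -/
theorem evalChar_blockIdem_mul (g : Set (Cfsg.IrrCharacter K)) {f : K → ℂ}
    (hf : Cfsg.IsClassFunction K f) (y : MonoidAlgebra ℂ K) :
    evalChar f (blockIdem g * y) = evalChar (Cfsg.blockPart g f) y := by
  haveI := Fintype.ofFinite K
  rw [evalChar_eq_sum (χ := Cfsg.blockPart g f)]
  conv_lhs => rw [eq_sum_single y, Finset.mul_sum, evalChar_sum]
  refine Finset.sum_congr rfl fun z _ => ?_
  rw [show single z (y.coeff z) = y.coeff z • single z (1 : ℂ) by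
      rw [MonoidAlgebra.smul_single, smul_eq_mul, mul_one],
    mul_smul_comm, evalChar_smul, blockPart_eq_sum g hf, finsum_eq_sum_of_fintype, evalChar_eq_sum]
  congr 1
  symm
  refine Fintype.sum_equiv (Equiv.mulRight z) _ _ fun k => ?_
  rw [Equiv.coe_mulRight, coeff_mul_single', mul_inv_cancel_right, coeff_blockIdem, mul_one]

/-- Values at a combination with integral coefficients. -/
theorem ideal_evalChar (hM : Cfsg.IsPModular p M) {χ : K → ℂ} (hχ : Cfsg.IsCharacter K χ)
    {x : MonoidAlgebra ℂ K} (hx : IdealEl M x) : Cfsg.MemLocalIdeal M (evalChar χ x) := by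
  haveI := Fintype.ofFinite K
  rw [evalChar_eq_sum]
  exact Finset.sum_induction _ (Cfsg.MemLocalIdeal M) (fun _ _ => ideal_add hM) (ideal_zero hM)
    fun g _ => ideal_mul_right hM (hx g) (ring_of_isIntegral hM (char_value_isIntegral hχ g))

theorem cong_evalChar (hM : Cfsg.IsPModular p M) {χ : K → ℂ} (hχ : Cfsg.IsCharacter K χ)
    {x y : MonoidAlgebra ℂ K} (h : CongEl M x y) : Cong M (evalChar χ x) (evalChar χ y) := by
  unfold Cong
  rw [← evalChar_sub]
  exact ideal_evalChar hM hχ h

/-- The coefficient at one of an element in a block with one Brauer character. -/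
theorem coeff_one_eq (f : Set (Cfsg.IrrCharacter K)) {y : MonoidAlgebra ℂ K}
    (hfy : blockIdem f * y = y) {ξ : Cfsg.IrrCharacter K} (hξ : ξ ∈ f)
    (hdeg : ∀ η : Cfsg.IrrCharacter K, η ∈ f → (η : K → ℂ) 1 = (ξ : K → ℂ) 1)
    (hval : ∀ η : Cfsg.IrrCharacter K, η ∈ f →
      evalChar (η : K → ℂ) y = evalChar (ξ : K → ℂ) y) :
    (Nat.card K : ℂ) * y.coeff 1 =
      (Nat.card f : ℂ) * ((ξ : K → ℂ) 1 * evalChar (ξ : K → ℂ) y) := by
  classical
  haveI := Fintype.ofFinite K
  haveI := Fintype.ofFinite (Cfsg.IrrCharacter K)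
  conv_lhs => rw [← hfy, coeff_mul', Finset.mul_sum]
  calc ∑ k : K, (Nat.card K : ℂ) * ((blockIdem f).coeff k * y.coeff (k⁻¹ * 1))
      = ∑ k : K, ∑ η ∈ Finset.univ.filter (· ∈ f),
          (η : K → ℂ) 1 * (y.coeff k⁻¹ * (η : K → ℂ) k⁻¹) := by
        refine Finset.sum_congr rfl fun k _ => ?_
        rw [coeff_blockIdem, blockCoeff_eq_sum, ← mul_assoc, ← mul_assoc,
          mul_inv_cancel₀ natCard_ne_zero, one_mul, ← Finset.sum_filter, Finset.sum_mul, mul_one]
        refine Finset.sum_congr rfl fun η _ => ?_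
        rw [← char_inv (irr_isCharacter η)]
        ring
    _ = ∑ η ∈ Finset.univ.filter (· ∈ f), (η : K → ℂ) 1 * evalChar (η : K → ℂ) y := by
        rw [Finset.sum_comm]
        refine Finset.sum_congr rfl fun η _ => ?_
        rw [← Finset.mul_sum, evalChar_eq_sum]
        congr 1
        exact Fintype.sum_equiv (Equiv.inv K) _ _ fun k => rfl
    _ = _ := by
        rw [Finset.sum_congr rfl fun η hη => by
            rw [hdeg η (Finset.mem_filter.1 hη).2, hval η (Finset.mem_filter.1 hη).2],
          Finset.sum_const, nsmul_eq_mul, Nat.card_eq_fintype_card, Fintype.card_subtype]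

theorem evalChar_blockIdem_self {F : Set (Cfsg.IrrCharacter K)} {ζ : Cfsg.IrrCharacter K}
    (hζ : ζ ∈ F) : evalChar (ζ : K → ℂ) (blockIdem F) = (ζ : K → ℂ) 1 := by
  have h := omega_blockIdem_mem hζ
  rwa [omega, div_eq_one_iff_eq (irr_one_ne_zero ζ.2)] at h

/-- Two blocks with one Brauer character, alike at one, have the same value. -/
theorem value_transport {K' : Type u} [Group K'] [Finite K'] {F : Set (Cfsg.IrrCharacter K)}
    {F' : Set (Cfsg.IrrCharacter K')} {y : MonoidAlgebra ℂ K} {y' : MonoidAlgebra ℂ K'}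
    (hy : blockIdem F * y = y) (hy' : blockIdem F' * y' = y') {ξ : Cfsg.IrrCharacter K}
    {ξ' : Cfsg.IrrCharacter K'} (hξ : ξ ∈ F) (hξ' : ξ' ∈ F') {n n' : ℂ}
    (hdeg : ∀ η : Cfsg.IrrCharacter K, η ∈ F → (η : K → ℂ) 1 = (ξ : K → ℂ) 1)
    (hdeg' : ∀ η : Cfsg.IrrCharacter K', η ∈ F' → (η : K' → ℂ) 1 = (ξ' : K' → ℂ) 1)
    (hval : ∀ η : Cfsg.IrrCharacter K, η ∈ F → evalChar (η : K → ℂ) y = n)
    (hval' : ∀ η : Cfsg.IrrCharacter K', η ∈ F' → evalChar (η : K' → ℂ) y' = n')
    (hK : Nat.card K = Nat.card K') (hF : Nat.card F = Nat.card F') (hF0 : Nat.card F ≠ 0)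
    (hy1 : y.coeff 1 = y'.coeff 1) (hF1 : (blockIdem F).coeff 1 = (blockIdem F').coeff 1) :
    n = n' := by
  have e := coeff_one_eq F hy hξ hdeg fun η hη => by rw [hval η hη, hval ξ hξ]
  have e' := coeff_one_eq F' hy' hξ' hdeg' fun η hη => by rw [hval' η hη, hval' ξ' hξ']
  have b := coeff_one_eq F (blockIdem_mul_self _) hξ hdeg fun η hη => by
    rw [evalChar_blockIdem_self hη, evalChar_blockIdem_self hξ, hdeg η hη]
  have b' := coeff_one_eq F' (blockIdem_mul_self _) hξ' hdeg' fun η hη => by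
    rw [evalChar_blockIdem_self hη, evalChar_blockIdem_self hξ', hdeg' η hη]
  rw [hK, hy1, e', hF, hval ξ hξ, hval' ξ' hξ'] at e
  rw [hK, hF1, b', hF, evalChar_blockIdem_self hξ, evalChar_blockIdem_self hξ'] at b
  have hP0 : (Nat.card F' : ℂ) ≠ 0 := Nat.cast_ne_zero.2 (hF ▸ hF0)
  have hdd := mul_left_cancel₀ hP0 b
  have hk : Cfsg.charDegree (ξ' : K' → ℂ) = Cfsg.charDegree (ξ : K → ℂ) := Nat.mul_self_inj.1 (by
    rw [← charDegree_cast ξ, ← charDegree_cast ξ'] at hdd
    exact_mod_cast hdd)
  rw [show (ξ' : K' → ℂ) 1 = (ξ : K → ℂ) 1 by rw [← charDegree_cast ξ', ← charDegree_cast ξ, hk]] at e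
  exact (mul_left_cancel₀ (irr_one_ne_zero ξ.2) (mul_left_cancel₀ hP0 e)).symm

/-- The value at `v J` for an element `J` in a block of the centraliser of `v`. -/
theorem value_at {v : K} {g : Set (Cfsg.IrrCharacter (CU v))} [Fintype (CU v)]
    [Fintype (Cfsg.IrrCharacter (CU v))] {J : MonoidAlgebra ℂ K}
    (hJ : ∀ x ∉ CU v, J.coeff x = 0) (hgJ : elF (CU v) g * J = J) {n : ℂ}
    (hn : ∀ ξ : Cfsg.IrrCharacter (CU v), ξ ∈ g →
      evalChar (ξ : CU v → ℂ) (restrEl (CU v) J) = n) {f : K → ℂ}
    (hf : Cfsg.IsClassFunction K f) [DecidablePred (· ∈ g)] :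
    evalChar f (single v 1 * J) = (∑ ξ ∈ Finset.univ.filter (· ∈ g),
      Cfsg.classInner (shiftCU f v) (ξ : CU v → ℂ)) * n := by
  haveI := Fintype.ofFinite K
  set y := restrEl (CU v) J with hy
  have hJy : inclEl (CU v) y = J := inclEl_restrEl hJ
  have h1 : evalChar f (single v 1 * J) = evalChar (shiftCU f v) y := by
    rw [← hJy, evalChar_mul_comm hf, evalChar_inclEl_mul_single, finsum_eq_sum_of_fintype,
      evalChar_eq_sum]
    refine Finset.sum_congr rfl fun k _ => ?_
    rw [shiftCU, (commute_of_mem_CU k.2).eq]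
  have h2 : blockIdem g * y = y := by
    have h := congrArg (restrEl (CU v)) hgJ
    rw [← hy, ← hJy, elF, ← map_mul, restrEl_inclEl] at h
    exact h
  rw [h1, ← h2, evalChar_blockIdem_mul g (isClassFunction_shiftCU hf v),
    evalChar_eq_sum, Finset.sum_mul]
  simp only [blockPart_eq_expand, Finset.mul_sum]
  rw [Finset.sum_comm]
  refine Finset.sum_congr (by congr!) fun ξ hξ => ?_
  rw [← hn ξ (Finset.mem_filter.1 hξ).2, evalChar_eq_sum, Finset.mul_sum]
  exact Finset.sum_congr rfl fun k _ => by ring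

end General

/-! ### Below a maximal pair -/

variable {G : Type u} [Group G] [Finite G] {p : ℕ} {M : Ideal Cfsg.AlgInt}
  {B : Set (Cfsg.IrrCharacter G)} {P : Subgroup G}
  {e : Set (Cfsg.IrrCharacter (Subgroup.centralizer (P : Set G)))}

variable (p M e) in
open scoped Classical in
/-- The block below the maximal pair at a subgroup. -/
noncomputable def blk (L : Subgroup G) :
    Set (Cfsg.IrrCharacter (Subgroup.centralizer (L : Set G))) :=
  if h : ∃ g : Set (Cfsg.IrrCharacter (Subgroup.centralizer (L : Set G))),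
    Cfsg.SubpairLE p M L g P e then h.choose else ∅

theorem blk_zpowers (v : G) : blk p M e (Subgroup.zpowers v) = gAt p M e v := rfl

variable (p M e) in
/-- The idempotent of the block below the maximal pair at a subgroup. -/
noncomputable def epsL (L : Subgroup G) : MonoidAlgebra ℂ G :=
  elF (Subgroup.centralizer (L : Set G)) (blk p M e L)

variable (P e) in
/-- The inertial group meets the centralizer of `L` in the centralizer of the top. -/
def BelowFree (L : Subgroup G) : Prop :=
  ∀ x ∈ stab P e, x ∈ Subgroup.centralizer (L : Set G) → x ∈ Subgroup.centralizer (P : Set G)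

theorem blk_spec (hM : Cfsg.IsPModular p M) (hmax : Cfsg.IsMaximalBrauerPair p M B P e)
    {L : Subgroup G} (hL : L ≤ P) :
    Cfsg.SubpairLE p M L (blk p M e L) P e ∧ Cfsg.IsPBlock M (blk p M e L) := by
  obtain ⟨g, -, hg⟩ := exists_subpair hM _ L P e rfl hmax.1.1 hL
  have h : ∃ g : Set (Cfsg.IrrCharacter (Subgroup.centralizer (L : Set G))),
      Cfsg.SubpairLE p M L g P e := ⟨g, hg⟩
  rw [blk, dif_pos h]
  exact ⟨h.choose_spec, ((subpairLE_facts hM h.choose_spec).2 hmax.1.1).2⟩

theorem blk_eq (hM : Cfsg.IsPModular p M) (hmax : Cfsg.IsMaximalBrauerPair p M B P e)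
    {L : Subgroup G} {g : Set (Cfsg.IrrCharacter (Subgroup.centralizer (L : Set G)))}
    (hg : Cfsg.SubpairLE p M L g P e) : blk p M e L = g :=
  subpair_unique hM _ L P e rfl hmax.1.1 _ g
    (blk_spec hM hmax (subpairLE_facts hM hg).1).1 hg

theorem blk_facts (hM : Cfsg.IsPModular p M) (hmax : Cfsg.IsMaximalBrauerPair p M B P e)
    (hab : ∀ x ∈ P, ∀ y ∈ P, x * y = y * x) {L : Subgroup G} (hL : L ≤ P)
    (hfr : BelowFree P e L) :
    Nat.card (blk p M e L) = Nat.card P ∧
    (∀ ξ ξ' : Cfsg.IrrCharacter (Subgroup.centralizer (L : Set G)),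
      ξ ∈ blk p M e L → ξ' ∈ blk p M e L → ∀ s : Subgroup.centralizer (L : Set G),
        ¬ p ∣ orderOf s → (ξ : Subgroup.centralizer (L : Set G) → ℂ) s =
          (ξ' : Subgroup.centralizer (L : Set G) → ℂ) s) ∧
    ∀ ξ : Cfsg.IrrCharacter (Subgroup.centralizer (L : Set G)), ξ ∈ blk p M e L →
      Cfsg.blockHeight p (blk p M e L) (ξ : Subgroup.centralizer (L : Set G) → ℂ) = 0 := by
  haveI := Fintype.ofFinite (Subgroup.centralizer (L : Set G))
  obtain ⟨hle, -⟩ := blk_spec hM hmax hL
  obtain ⟨a, ha, -⟩ := LocalNilpotent.exists_maximal_local hM hmax hab hle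
  have hPC : P ≤ Subgroup.centralizer (L : Set G) := fun x hx y hy => hab y (hL hy) x hx
  have hnil := (LocalNilpotent.isNilpotent_iff hM hmax hab hle).2 hfr
  have h := nilpotent_abelian hM hnil ha fun x hx y hy => Subtype.ext (hab x hx y hy)
  rw [Nat.card_congr (Subgroup.subgroupOfEquivOfLe hPC).toEquiv] at h
  exact ⟨h.1, h.2.1, h.2.2.1⟩

/-! ### The lifted images and the multiplicities -/

variable (p M e) in
/-- A lift of the Brauer image of `π` at `L`, inside the block there. -/
def IsImage (π : MonoidAlgebra ℂ G) (L : Subgroup G) (J : MonoidAlgebra ℂ G) : Prop :=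
  IsFix M P (Subgroup.centralizer (L : Set G)) J ∧ J * J = J ∧ epsL p M e L * J = J ∧
    CongEl M J (cutEl L π)

variable (p M e) in
open scoped Classical in
/-- The chosen lift. -/
noncomputable def img (π : MonoidAlgebra ℂ G) (L : Subgroup G) : MonoidAlgebra ℂ G :=
  if h : ∃ J, IsImage p M e π L J then h.choose else 0

variable (p M e) in
open scoped Classical in
/-- The multiplicity at `L`. -/
noncomputable def mult (π : MonoidAlgebra ℂ G) (L : Subgroup G) : ℕ :=
  if h : ∃ n : ℕ, ∀ ξ : Cfsg.IrrCharacter (Subgroup.centralizer (L : Set G)),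
    ξ ∈ blk p M e L → evalChar (ξ : Subgroup.centralizer (L : Set G) → ℂ)
      (restrEl (Subgroup.centralizer (L : Set G)) (img p M e π L)) = (n : ℂ)
  then h.choose else 0

variable (p M e) in
/-- An idempotent absorbed by all the blocks below the maximal pair. -/
structure IsAnchor (π : MonoidAlgebra ℂ G) : Prop where
  fix : IsFix M P ⊤ π
  idem : π * π = π
  absorb : ∀ L : Subgroup G, L ≤ P → CongEl M (epsL p M e L * cutEl L π) (cutEl L π)

theorem exists_image (hM : Cfsg.IsPModular p M) (hmax : Cfsg.IsMaximalBrauerPair p M B P e)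
    (hab : ∀ x ∈ P, ∀ y ∈ P, x * y = y * x) {π : MonoidAlgebra ℂ G} (hπ : IsAnchor p M e π)
    {L : Subgroup G} (hL : L ≤ P) : IsImage p M e π L (img p M e π L) := by
  suffices h : ∃ J, IsImage p M e π L J by
    rw [img, dif_pos h]
    exact h.choose_spec
  obtain ⟨hle, hgB⟩ := blk_spec hM hmax hL
  set C := Subgroup.centralizer (L : Set G)
  have hPC : P ≤ C := fun x hx y hy => hab y (hL hy) x hx
  have hPN : P ≤ Subgroup.normalizer (L : Set G) :=
    hPC.trans (Subgroup.centralizer_le_normalizer _)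
  have hcut : IsFix M P C (cutEl L π) := ⟨intEl_cutEl hM L hπ.fix.int,
    fun v hv x => cutEl_invariant (hPN hv) (hπ.fix.inv v hv) x, fun _ => cutEl_coeff_notMem π⟩
  have hε : IsFix M P C (epsL p M e L) := ⟨intEl_elF hM hgB, invBy_mono hPC (invBy_elF_self _),
    fun _ h => coeff_inclEl_notMem _ _ h⟩
  have hsq : CongEl M (cutEl L π * cutEl L π) (cutEl L π) := by
    have h := cut_mul hM (hmax.1.1.1.to_le hL) hL hπ.fix hπ.fix
    rw [hπ.idem] at h
    exact congEl_symm hM h
  obtain ⟨q, hq, hqc⟩ := exists_lift hM hcut hsq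
  set j := Polynomial.aeval (cutEl L π) q
  have hj : IsFix M P C j := isFix_aeval hM hcut q
  have hcomm : Commute (epsL p M e L) j := commute_of_supp (invBy_elF_self _) hj.supp
  have hεε : epsL p M e L * epsL p M e L = epsL p M e L := elF_mul_self C _
  refine ⟨epsL p M e L * j, hε.mul hM hj, ?_, by rw [← mul_assoc, hεε], ?_⟩
  · rw [mul_assoc, ← mul_assoc j, ← hcomm.eq, mul_assoc _ j, hq, ← mul_assoc, hεε]
  · exact congEl_trans hM (congEl_mul hM (congEl_refl hM _) hqc hε.int hcut.int)
      (hπ.absorb L hL)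

theorem restr_img_idem (hM : Cfsg.IsPModular p M) (hmax : Cfsg.IsMaximalBrauerPair p M B P e)
    (hab : ∀ x ∈ P, ∀ y ∈ P, x * y = y * x) {π : MonoidAlgebra ℂ G} (hπ : IsAnchor p M e π)
    {L : Subgroup G} (hL : L ≤ P) :
    IntEl M (restrEl (Subgroup.centralizer (L : Set G)) (img p M e π L)) ∧
      restrEl (Subgroup.centralizer (L : Set G)) (img p M e π L) *
        restrEl (Subgroup.centralizer (L : Set G)) (img p M e π L) =
          restrEl (Subgroup.centralizer (L : Set G)) (img p M e π L) ∧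
      blockIdem (blk p M e L) * restrEl (Subgroup.centralizer (L : Set G)) (img p M e π L) =
          restrEl (Subgroup.centralizer (L : Set G)) (img p M e π L) := by
  obtain ⟨hf, hid, hε, -⟩ := exists_image hM hmax hab hπ hL
  refine ⟨intEl_restrEl _ hf.int, by rw [← restrEl_mul _ hf.supp, hid], ?_⟩
  conv_rhs => rw [← hε, epsL, elF]
  rw [restrEl_mul _ (fun g hg => coeff_inclEl_notMem _ _ hg), restrEl_inclEl]

theorem mult_spec (hM : Cfsg.IsPModular p M) (hmax : Cfsg.IsMaximalBrauerPair p M B P e)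
    (hab : ∀ x ∈ P, ∀ y ∈ P, x * y = y * x) {π : MonoidAlgebra ℂ G} (hπ : IsAnchor p M e π)
    {L : Subgroup G} (hL : L ≤ P) (hfr : BelowFree P e L)
    {ξ : Cfsg.IrrCharacter (Subgroup.centralizer (L : Set G))} (hξ : ξ ∈ blk p M e L) :
    evalChar (ξ : Subgroup.centralizer (L : Set G) → ℂ)
      (restrEl (Subgroup.centralizer (L : Set G)) (img p M e π L)) = (mult p M e π L : ℂ) := by
  obtain ⟨hint, hid, -⟩ := restr_img_idem hM hmax hab hπ hL
  obtain ⟨-, hreg, -⟩ := blk_facts hM hmax hab hL hfr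
  obtain ⟨n, hn⟩ := evalChar_idem_nat (irr_isCharacter ξ) hid
  have h : ∃ n : ℕ, ∀ η : Cfsg.IrrCharacter (Subgroup.centralizer (L : Set G)),
      η ∈ blk p M e L → evalChar (η : Subgroup.centralizer (L : Set G) → ℂ)
        (restrEl (Subgroup.centralizer (L : Set G)) (img p M e π L)) = (n : ℂ) :=
    ⟨n, fun η hη => (evalChar_idem_reg hM (irr_isClassFunction η) (irr_isClassFunction ξ)
      (hreg η ξ hη hξ) hint hid).trans hn⟩
  rw [mult, dif_pos h]
  exact h.choose_spec ξ hξ

variable [Fintype G] [Fintype (Cfsg.IrrCharacter G)]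

/-- The value at `v π` is the coefficient times the multiplicity. -/
theorem shift_value (hM : Cfsg.IsPModular p M) (hmax : Cfsg.IsMaximalBrauerPair p M B P e)
    (hab : ∀ x ∈ P, ∀ y ∈ P, x * y = y * x) {π : MonoidAlgebra ℂ G} (hπ : IsAnchor p M e π)
    {v : P} (hv : FreeAt P e (v : G)) {f : G → ℂ} (hf : Cfsg.IsClassFunction G f) :
    evalChar f (single (v : G) 1 * π) =
      coef p M e f (v : G) * (mult p M e π (Subgroup.zpowers (v : G)) : ℂ) := by
  classical
  haveI := Fintype.ofFinite (CU (v : G))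
  haveI := Fintype.ofFinite (Cfsg.IrrCharacter (CU (v : G)))
  have hL : Subgroup.zpowers (v : G) ≤ P := Subgroup.zpowers_le.2 v.2
  obtain ⟨hJ, hJid, hJε, hJc⟩ := exists_image hM hmax hab hπ hL
  rw [evalChar_shift_eq hM hf (exists_orderOf_coe hM hmax.1.1.1 v) (hπ.fix.mono hL le_rfl) hπ.idem
    (j := img p M e π (Subgroup.zpowers (v : G))) ⟨hJ.mono hL le_rfl, hJid, hJc⟩]
  rw [value_at (g := gAt p M e (v : G)) hJ.supp hJε
    (fun ξ hξ => mult_spec hM hmax hab hπ hL hv hξ) hf, coef]
  congr 1
  refine Finset.sum_congr (by congr!) fun ξ _ => ?_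
  congr!

set_option maxHeartbeats 1600000 in
/-- The local character at a subgroup. -/
theorem local_char (hM : Cfsg.IsPModular p M) (hmax : Cfsg.IsMaximalBrauerPair p M B P e)
    (hab : ∀ x ∈ P, ∀ y ∈ P, x * y = y * x) {π : MonoidAlgebra ℂ G} (hπ : IsAnchor p M e π)
    [Fintype P] {L : Subgroup G} (hL : L ≤ P)
    (hfr : ∀ R : Subgroup G, R ≤ P → L ≤ R → BelowFree P e R) :
    ∃ u a : P → ℂ, Cfsg.IsGeneralizedCharacter P u ∧ (∀ w, IsIntegral ℤ (a w)) ∧
      (∀ w, a w * conj (a w) = 1) ∧ a 1 = 1 ∧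
      ∀ w : P, u w = a w * (mult p M e π (L ⊔ Subgroup.zpowers (w : G)) : ℂ) := by
  classical
  obtain ⟨hle, hfB⟩ := blk_spec hM hmax hL
  haveI := Fintype.ofFinite (Subgroup.centralizer (L : Set G))
  haveI := Fintype.ofFinite (Cfsg.IrrCharacter (Subgroup.centralizer (L : Set G)))
  have hfrL := hfr L hL le_rfl
  obtain ⟨ap, hap, hst, hm⟩ := LocalNilpotent.exists_maximal_local_match hM hmax hab hle
  have hnil := (LocalNilpotent.isNilpotent_iff hM hmax hab hle).2 hfrL
  have hPH : P ≤ Subgroup.centralizer (L : Set G) := fun x hx y hy => hab y (hL hy) x hx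
  haveI := Fintype.ofFinite (P.subgroupOf (Subgroup.centralizer (L : Set G)))
  have habK : ∀ x ∈ (P.subgroupOf (Subgroup.centralizer (L : Set G))), ∀ y ∈ (P.subgroupOf (Subgroup.centralizer (L : Set G))), x * y = y * x := fun x hx y hy =>
    Subtype.ext (hab x hx y hy)
  have hstK : ∀ t : Subgroup.centralizer (L : Set G), t ∈ stab (P.subgroupOf (Subgroup.centralizer (L : Set G))) ap →
      t ∈ Subgroup.centralizer ((P.subgroupOf (Subgroup.centralizer (L : Set G))) : Set (Subgroup.centralizer (L : Set G))) := fun t ht =>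
    (mem_centralizer_subgroupOf (P := P) hPH).2
      (hfrL (t : G) ((hst t).1 ((mem_stab (Q := (P.subgroupOf (Subgroup.centralizer (L : Set G)))) (f := ap)).1 ht)) t.2)
  obtain ⟨hcardL, -, hh0⟩ := blk_facts hM hmax hab hL hfrL
  obtain ⟨ξ, hξ⟩ := block_nonempty hM hfB
  obtain ⟨hJ, hJid, hJε, hJc⟩ := exists_image hM hmax hab hπ hL
  obtain ⟨hyi, hyid, -⟩ := restr_img_idem hM hmax hab hπ hL
  set y := restrEl (Subgroup.centralizer (L : Set G)) (img p M e π L) with hydef
  have hyinv : InvBy ((P.subgroupOf (Subgroup.centralizer (L : Set G))) : Set (Subgroup.centralizer (L : Set G))) y := fun v hv g => by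
    rw [hydef, coeff_restrEl, coeff_restrEl, Subgroup.coe_mul, Subgroup.coe_mul, Subgroup.coe_inv]
    exact hJ.inv _ hv _
  have hyfix : IsFix M (P.subgroupOf (Subgroup.centralizer (L : Set G))) ⊤ y := ⟨hyi, hyinv, fun g hg => absurd (Subgroup.mem_top g) hg⟩
  set φ : P ≃* (P.subgroupOf (Subgroup.centralizer (L : Set G))) := (Subgroup.subgroupOfEquivOfLe hPH).symm with hφ
  have hφv : ∀ w : P, ((φ w : (P.subgroupOf (Subgroup.centralizer (L : Set G)))) : Subgroup.centralizer (L : Set G)) = ⟨(w : G), hPH w.2⟩ :=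
    fun w => rfl
  set u : P → ℂ := fun w => evalChar (ξ : Subgroup.centralizer (L : Set G) → ℂ)
    (single ((φ w : (P.subgroupOf (Subgroup.centralizer (L : Set G)))) : Subgroup.centralizer (L : Set G)) 1 * y) with hu
  set a : P → ℂ := fun w => if w = 1 then 1 else
    coef p M ap (ξ : Subgroup.centralizer (L : Set G) → ℂ)
      ((φ w : (P.subgroupOf (Subgroup.centralizer (L : Set G)))) : Subgroup.centralizer (L : Set G)) with ha
  have hfree : ∀ v : (P.subgroupOf (Subgroup.centralizer (L : Set G))), FreeAt (P.subgroupOf (Subgroup.centralizer (L : Set G))) ap (v : Subgroup.centralizer (L : Set G)) :=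
    fun v x hx _ => hstK x hx
  refine ⟨u, a, isGen_comp φ.toMonoidHom
    (isGen_of_isCharacter (isCharacter_shift (irr_isCharacter ξ) hyinv hyid)),
    fun w => ?_, fun w => ?_, if_pos rfl, fun w => ?_⟩
  · simp only [ha]
    split
    · exact isIntegral_one
    · exact coef_isIntegral hM (irr_isCharacter ξ) _
  · simp only [ha]
    split
    · simp
    have horb : orbS p M (P.subgroupOf (Subgroup.centralizer (L : Set G))) ap ((φ w : (P.subgroupOf (Subgroup.centralizer (L : Set G)))) : Subgroup.centralizer (L : Set G)) =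
        {((φ w : (P.subgroupOf (Subgroup.centralizer (L : Set G)))) : Subgroup.centralizer (L : Set G))} := by
      ext z
      constructor
      · rintro ⟨t, ht, rfl⟩
        rw [Set.mem_singleton_iff, ← hstK t ht _ (φ w).2, mul_inv_cancel_right]
      · rintro rfl
        exact ⟨1, one_mem _, by simp⟩
    have h := pairing_eq_coef hM hap habK (hfree (φ w)) (irr_isClassFunction ξ)
      (irr_isClassFunction ξ)
    rw [pairing_nilpotent hM hnil hap hξ (hh0 ξ hξ) (φ w), horb,
      Nat.card_unique, Nat.cast_one, div_one] at h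
    exact h.symm
  · by_cases hw : w = 1
    · subst hw
      simp only [ha, hu, if_pos, one_mul, map_one, OneMemClass.coe_one, Subgroup.zpowers_one_eq_bot,
        sup_bot_eq]
      rw [← MonoidAlgebra.one_def, one_mul]
      exact mult_spec hM hmax hab hπ hL hfrL hξ
    simp only [ha, if_neg hw, hu]
    set v : (P.subgroupOf (Subgroup.centralizer (L : Set G))) := φ w with hvdef
    have hv0 : ((v : Subgroup.centralizer (L : Set G)) : G) = (w : G) := rfl
    set L2 := L ⊔ Subgroup.zpowers (w : G) with hL2def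
    have hL2 : L2 ≤ P := sup_le hL (Subgroup.zpowers_le.2 w.2)
    have hfr2 := hfr L2 hL2 le_sup_left
    have hLC : ∀ x : G, x ∈ Subgroup.centralizer (L2 : Set G) ↔
        x ∈ Subgroup.centralizer (L : Set G) ∧ (w : G) * x = x * (w : G) := by
      intro x
      constructor
      · exact fun hx => ⟨centralizer_le_centralizer le_sup_left hx,
          Subgroup.mem_centralizer_iff.1 hx _ (Subgroup.mem_sup_right (Subgroup.mem_zpowers _))⟩
      · rintro ⟨h1, h2⟩
        exact le_centralizer_iff_mem.1 (sup_le (le_centralizer_iff_mem.2 h1)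
          (Subgroup.zpowers_le.2 (Subgroup.mem_centralizer_singleton_iff.2 h2)))
    let σ : Subgroup.centralizer (L2 : Set G) ≃* CU (v : Subgroup.centralizer (L : Set G)) :=
      { toFun := fun x => ⟨⟨(x : G), ((hLC _).1 x.2).1⟩,
          mem_CU_of_commute (Subtype.ext ((hLC _).1 x.2).2)⟩
        invFun := fun c => ⟨((c : Subgroup.centralizer (L : Set G)) : G), (hLC _).2
          ⟨(c : Subgroup.centralizer (L : Set G)).2,
            congrArg Subtype.val (commute_of_mem_CU c.2).eq⟩⟩
        left_inv := fun _ => rfl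
        right_inv := fun _ => rfl
        map_mul' := fun _ _ => rfl }
    obtain ⟨hle2, hg2⟩ := blk_spec hM hmax hL2
    have hn2 : Cfsg.IsNormalSubpair p M L2 (blk p M e L2) P e := normal_of_subpairLE hM hle2
      hmax.1.1 ((show P ≤ Subgroup.centralizer (L2 : Set G) from
        fun x hx y hy => hab y (hL2 hy) x hx).trans (Subgroup.centralizer_le_normalizer _))
    set g3 := pullSet σ (blk p M e L2)
    have hg3 : Cfsg.IsPBlock M g3 := isPBlock_pullSet hM σ hg2
    have hcoe : ∀ t : Subgroup.centralizer (L : Set G),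
        (elF (CU (v : Subgroup.centralizer (L : Set G))) g3).coeff t =
          (epsL p M e L2).coeff (t : G) := by
      intro t
      by_cases ht : t ∈ CU (v : Subgroup.centralizer (L : Set G))
      · rw [epsL, elF, elF, coeff_inclEl_of_mem _ _ ht,
          coeff_inclEl_of_mem _ _
            (show (t : G) ∈ Subgroup.centralizer (L2 : Set G) from (σ.symm ⟨t, ht⟩).2),
          coeff_blockIdem, coeff_blockIdem]
        exact blockCoeff_pullSet σ _ (σ.symm ⟨t, ht⟩)
      · rw [epsL, elF, elF, coeff_inclEl_notMem _ _ ht, coeff_inclEl_notMem]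
        exact fun h => ht (σ ⟨t, h⟩).2
    have hPv : (P.subgroupOf (Subgroup.centralizer (L : Set G))) ≤ CU (v : Subgroup.centralizer (L : Set G)) := fun x hx =>
      mem_CU_of_commute (habK _ v.2 x hx)
    have hle3 : Cfsg.SubpairLE p M (Subgroup.zpowers (v : Subgroup.centralizer (L : Set G)))
        g3 (P.subgroupOf (Subgroup.centralizer (L : Set G))) ap := by
      refine Relation.ReflTransGen.single ⟨⟨hap.1.1.1.to_le (Subgroup.zpowers_le.2 v.2), hg3⟩,
        hap.1.1, Subgroup.zpowers_le.2 v.2, hPv.trans (Subgroup.centralizer_le_normalizer _),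
        fun x hx => stabilizes_self g3 (hPv hx), fun η hη => ?_⟩
      rw [brauerOmega_elF, omega_match hm.1 hm.2.1 hcoe]
      simp only [mem_of_match hM hm hm.1 hm.2.1] at hη
      have h1 := hn2.2.2.2.2.2 _ hη
      rw [brauerOmega_elF] at h1
      exact h1
    obtain ⟨hspec, -, -⟩ := gAt_spec hM hap v
    have hgeq : gAt p M ap (v : Subgroup.centralizer (L : Set G)) = g3 :=
      subpair_unique hM _ _ (P.subgroupOf (Subgroup.centralizer (L : Set G))) ap rfl hap.1.1 _ g3 hspec hle3
    obtain ⟨hJ2, hJ2id, hJ2ε, hJ2c⟩ := exists_image hM hmax hab hπ hL2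
    have hC2 : Subgroup.centralizer (L2 : Set G) ≤ Subgroup.centralizer (L : Set G) :=
      centralizer_le_centralizer le_sup_left
    have hJ2s : ∀ g, g ∉ Subgroup.centralizer (L : Set G) → (img p M e π L2).coeff g = 0 :=
      fun g hg => hJ2.supp g fun h => hg (hC2 h)
    set J2 := restrEl (Subgroup.centralizer (L : Set G)) (img p M e π L2) with hJ2def
    have hJ2supp : ∀ x ∉ CU (v : Subgroup.centralizer (L : Set G)), J2.coeff x = 0 := fun x hx => by
      rw [hJ2def, coeff_restrEl]
      exact hJ2.supp _ fun h => hx (σ ⟨x, h⟩).2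
    have hJ2ii : J2 * J2 = J2 := by rw [hJ2def, ← restrEl_mul _ hJ2s, hJ2id]
    have hlift : IsLift M (v : Subgroup.centralizer (L : Set G)) y J2 := by
      refine ⟨⟨intEl_restrEl _ hJ2.int, invBy_of_supp_cent hJ2supp, hJ2supp⟩, hJ2ii,
        congEl_iff.2 fun t => ?_⟩
      have h2 : Cong M ((img p M e π L2).coeff (t : G)) ((cutEl L2 π).coeff (t : G)) :=
        congEl_iff.1 hJ2c _
      rw [hJ2def, coeff_restrEl]
      by_cases ht : t ∈ CU (v : Subgroup.centralizer (L : Set G))
      · have ht2 : (t : G) ∈ Subgroup.centralizer (L2 : Set G) := (σ.symm ⟨t, ht⟩).2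
        have h1 : Cong M ((img p M e π L).coeff (t : G)) ((cutEl L π).coeff (t : G)) :=
          congEl_iff.1 hJc _
        rw [cutEl_coeff_mem _ ht, hydef, coeff_restrEl]
        rw [cutEl_coeff_mem _ ht2] at h2
        rw [cutEl_coeff_mem _ t.2] at h1
        exact cong_trans hM h2 (cong_symm hM h1)
      · rw [cutEl_coeff_notMem _ ht, hJ2.supp _ fun h => ht (σ ⟨t, h⟩).2]
        exact cong_refl hM 0
    have heps : elF (CU (v : Subgroup.centralizer (L : Set G))) g3 =
        restrEl (Subgroup.centralizer (L : Set G)) (epsL p M e L2) :=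
      el_ext fun t => by rw [hcoe, coeff_restrEl]
    have hgJ : elF (CU (v : Subgroup.centralizer (L : Set G))) g3 * J2 = J2 := by
      rw [heps, hJ2def, ← restrEl_mul _ (x := epsL p M e L2) (fun g hg =>
        coeff_inclEl_notMem _ _ fun h => hg (hC2 h)), hJ2ε]
    obtain ⟨hcard3, hreg3, -, -⟩ := local_facts hM hap habK (hfree v)
    haveI := Fintype.ofFinite (CU (v : Subgroup.centralizer (L : Set G)))
    haveI := Fintype.ofFinite (Cfsg.IrrCharacter (CU (v : Subgroup.centralizer (L : Set G))))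
    obtain ⟨η, hη⟩ := gAt_nonempty hM hap v
    set y3 := restrEl (CU (v : Subgroup.centralizer (L : Set G))) J2 with hy3def
    have hy3i : IntEl M y3 := intEl_restrEl _ (intEl_restrEl _ hJ2.int)
    have hy3id : y3 * y3 = y3 := by rw [hy3def, ← restrEl_mul _ hJ2supp, hJ2ii]
    have hval : ∀ η' : Cfsg.IrrCharacter (CU (v : Subgroup.centralizer (L : Set G))),
        η' ∈ gAt p M ap (v : Subgroup.centralizer (L : Set G)) →
          evalChar (η' : CU (v : Subgroup.centralizer (L : Set G)) → ℂ) y3 =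
            evalChar (η : CU (v : Subgroup.centralizer (L : Set G)) → ℂ) y3 := fun η' hη' =>
      evalChar_idem_reg hM (irr_isClassFunction η') (irr_isClassFunction η)
        (hreg3 η' η hη' hη) hy3i hy3id
    rw [evalChar_shift_eq hM (irr_isClassFunction ξ) (exists_orderOf_coe hM hap.1.1.1 v)
      (hyfix.mono (Subgroup.zpowers_le.2 v.2) le_rfl) hyid hlift,
      value_at (g := gAt p M ap (v : Subgroup.centralizer (L : Set G))) hJ2supp (hgeq ▸ hgJ) hval
        (irr_isClassFunction ξ)]
    congr 1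
    · rw [coef]
      refine Finset.sum_congr (by congr!) fun ξ' _ => ?_
      congr!
    -- the multiplicity, read off at one
    obtain ⟨hcard2, hreg2, -⟩ := blk_facts hM hmax hab hL2 hfr2
    obtain ⟨η2, hη2⟩ := block_nonempty hM hg2
    obtain ⟨-, -, hε2⟩ := restr_img_idem hM hmax hab hπ hL2
    have hblk3 : blockIdem (gAt p M ap (v : Subgroup.centralizer (L : Set G))) * y3 = y3 := by
      rw [hgeq]
      conv_rhs => rw [hy3def, ← hgJ]
      rw [hy3def, elF, restrEl_mul _ (fun g hg => coeff_inclEl_notMem _ _ hg), restrEl_inclEl]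
    have hcardP : Nat.card (P.subgroupOf (Subgroup.centralizer (L : Set G))) = Nat.card P :=
      Nat.card_congr (Subgroup.subgroupOfEquivOfLe hPH).toEquiv
    refine value_transport hblk3 hε2 hη hη2
      (fun η' hη' => hreg3 η' η hη' hη 1 (by simp [hM.1.ne_one]))
      (fun η' hη' => hreg2 η' η2 hη' hη2 1 (by simp [hM.1.ne_one])) hval
      (fun η' hη' => mult_spec hM hmax hab hπ hL2 hfr2 hη')
      (Nat.card_congr σ.toEquiv).symm (by rw [hcard3, hcardP, hcard2])
      (by rw [hcard3]; exact Nat.card_pos.ne') ?_ ?_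
    · rw [hy3def, coeff_restrEl, hJ2def, coeff_restrEl, coeff_restrEl]
      simp
    · rw [hgeq]
      exact blockCoeff_pullSet σ _ 1

end Cfsg.Agent.Blocks.Star
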