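import Mathlib
import Cfsg.Agent.Lib.Blocks.Star.Local
import Cfsg.Agent.Lib.Blocks.Star.Glue
import Cfsg.Agent.Lib.Blocks.Star.Action

/-!
# Signed coefficients are good functions

For an abelian defect group on which the inertial quotient acts freely there are signs, invariant
under the inertial quotient, that make every coefficient function agree off one with a
generalized character up to the congruences of good functions.
-/

set_option linter.style.haveILetI false
set_option linter.unusedSectionVars false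

namespace Cfsg.Agent.Blocks.Star

open Cfsg.Agent.Blocks Cfsg.Agent.Characters
open Cfsg.Agent.BlockCharsA.BrauerPairs Cfsg.Agent.BlockCharsA.PairConj
open Cfsg.Agent.BlockCharsA.PairLocal Cfsg.Agent.BlockCharsA.PairFusion
open Cfsg.Agent.BlockCharsA.PairStab Cfsg.Agent.BlockCharsA.RegularPart
open MonoidAlgebra
open scoped ComplexConjugate

universe u

/-! ### Idempotents of a cyclic group of regular order -/

section Cyclic

variable {K : Type u} [Group K] [Finite K] {p : ℕ} {M : Ideal Cfsg.AlgInt}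

theorem exists_cyclic_idem (hM : Cfsg.IsPModular p M) {χ : K → ℂ}
    (hχ : Cfsg.IsCharacter K χ) {s : K} (hs : ¬ p ∣ orderOf s)
    (hu : ¬ Cfsg.MemLocalIdeal M (χ s)) :
    ∃ y : MonoidAlgebra ℂ K, IntEl M y ∧ y * y = y ∧
      ¬ Cfsg.MemLocalIdeal M (evalChar χ y) := by
  classical
  set o := orderOf s with ho
  have ho0 : 0 < o := orderOf_pos s
  have hoC : (o : ℂ) ≠ 0 := Nat.cast_ne_zero.2 ho0.ne'
  set ζ : ℂ := Complex.exp (2 * Real.pi * Complex.I / o)
  have hζ : IsPrimitiveRoot ζ o := Complex.isPrimitiveRoot_exp o ho0.ne'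
  let X : ℕ → MonoidAlgebra ℂ K := fun i => single s (ζ ^ i)
  let E : ℕ → MonoidAlgebra ℂ K := fun i => (o : ℂ)⁻¹ • ∑ j ∈ Finset.range o, X i ^ j
  have hX : ∀ i j, X i ^ j = single (s ^ j) (ζ ^ (i * j)) := fun i j => by
    simp only [X, MonoidAlgebra.single_pow, ← pow_mul]
  have hXG : ∀ i, X i * ∑ j ∈ Finset.range o, X i ^ j = ∑ j ∈ Finset.range o, X i ^ j := by
    intro i
    have h1 : X i ^ o = 1 := by
      rw [hX, ho, pow_orderOf_eq_one, ← ho, mul_comm, pow_mul, hζ.pow_eq_one, one_pow,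
        MonoidAlgebra.one_def]
    have h2 := mul_geom_sum (X i) o
    rw [h1, sub_self, sub_mul, one_mul, sub_eq_zero] at h2
    exact h2
  have hpow : ∀ i k, X i ^ k * ∑ j ∈ Finset.range o, X i ^ j = ∑ j ∈ Finset.range o, X i ^ j := by
    intro i k
    induction k with
    | zero => rw [pow_zero, one_mul]
    | succ k ih => rw [pow_succ, mul_assoc, hXG, ih]
  have hinv : Cfsg.MemLocalRing M ((o : ℂ)⁻¹) :=
    ring_inv hM (ring_natCast hM o) fun h => hs ((ideal_natCast_iff hM o).1 h)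
  have hEint : ∀ i, IntEl M (E i) := fun i => intEl_smul hM hinv (intEl_sum hM fun j _ => by
    rw [hX]
    exact intEl_single hM _ (ring_of_isIntegral hM
      (isIntegral_of_pow_eq_one ho0.ne' (by rw [← pow_mul, mul_comm, pow_mul, hζ.pow_eq_one, one_pow]))))
  have hEE : ∀ i, E i * E i = E i := fun i => by
    simp only [E, smul_mul_smul_comm, Finset.sum_mul, hpow, Finset.sum_const, Finset.card_range,
      ← Nat.cast_smul_eq_nsmul ℂ, smul_smul]
    congr 1
    field_simp
  have hsum : ∑ i ∈ Finset.range o, E i = 1 := by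
    simp only [E, ← Finset.smul_sum, hX]
    rw [Finset.sum_comm, Finset.sum_eq_single_of_mem 0 (Finset.mem_range.2 ho0)]
    · simp only [mul_zero, pow_zero, Finset.sum_const, Finset.card_range,
        ← Nat.cast_smul_eq_nsmul ℂ, ← MonoidAlgebra.one_def, smul_smul, inv_mul_cancel₀ hoC,
        one_smul]
    · intro j hj hj0
      show ∑ i ∈ Finset.range o, MonoidAlgebra.singleAddHom (s ^ j) (ζ ^ (i * j)) = 0
      rw [← map_sum]
      have hne : ζ ^ j ≠ 1 := hζ.pow_ne_one_of_pos_of_lt hj0 (Finset.mem_range.1 hj)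
      have h0 : ∑ i ∈ Finset.range o, ζ ^ (i * j) = 0 := by
        rw [Finset.sum_congr rfl fun i _ => show ζ ^ (i * j) = (ζ ^ j) ^ i by
          rw [mul_comm, pow_mul]]
        rw [geom_sum_eq hne, ← pow_mul, mul_comm, pow_mul, hζ.pow_eq_one, one_pow, sub_self,
          zero_div]
      rw [h0]
      exact map_zero _
  have hsE : ∀ i, single s (1 : ℂ) * E i = (ζ ^ i)⁻¹ • E i := fun i => by
    have h0 : ζ ^ i ≠ 0 := pow_ne_zero _ (hζ.ne_zero ho0.ne')
    have h1 : single s (1 : ℂ) = (ζ ^ i)⁻¹ • X i := by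
      simp only [X, MonoidAlgebra.smul_single, smul_eq_mul, inv_mul_cancel₀ h0]
    simp only [E, h1, smul_mul_assoc, mul_smul_comm, hXG, smul_smul, mul_comm]
  by_contra hcon
  push Not at hcon
  refine hu ?_
  have h : χ s = ∑ i ∈ Finset.range o, (ζ ^ i)⁻¹ * evalChar χ (E i) := by
    simp only [← evalChar_smul, ← hsE, ← evalChar_sum, ← Finset.mul_sum, hsum, mul_one,
      evalChar_single, one_mul]
  rw [h]
  exact Finset.sum_induction _ (Cfsg.MemLocalIdeal M) (fun _ _ => ideal_add hM) (ideal_zero hM)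
    fun i _ => ideal_mul_left hM (ring_of_isIntegral hM (isIntegral_of_pow_eq_one ho0.ne' (by
      rw [inv_pow, ← pow_mul, mul_comm, pow_mul, hζ.pow_eq_one, one_pow, inv_one])))
      (hcon _ (hEint i) (hEE i))

/-- A character of height zero has a unit value at some regular element. -/
theorem exists_unit_value [Fintype K] (hM : Cfsg.IsPModular p M) {f : Set (Cfsg.IrrCharacter K)}
    (hf : Cfsg.IsPBlock M f) {θ : Cfsg.IrrCharacter K} (hθ : θ ∈ f)
    (h0 : Cfsg.blockHeight p f (θ : K → ℂ) = 0) :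
    ∃ s : K, ¬ p ∣ orderOf s ∧ ¬ Cfsg.MemLocalIdeal M ((θ : K → ℂ) s) := by
  by_contra hcon
  push Not at hcon
  refine omega_regEl_unit hM hf hθ hθ h0
    (omega_ideal hM θ (central_regEl (irr_isClassFunction θ)) fun x => ?_)
  rw [coeff_regEl]
  split
  · exact ideal_zero hM
  · next hx => exact hcon _ (by rwa [orderOf_inv])

end Cyclic

variable {G : Type u} [Group G] [Finite G] {p : ℕ} {M : Ideal Cfsg.AlgInt}
  {B : Set (Cfsg.IrrCharacter G)} {P : Subgroup G}
  {e : Set (Cfsg.IrrCharacter (Subgroup.centralizer (P : Set G)))}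

theorem exists_anchor (hM : Cfsg.IsPModular p M) (hmax : Cfsg.IsMaximalBrauerPair p M B P e)
    (hab : ∀ x ∈ P, ∀ y ∈ P, x * y = y * x) :
    ∃ π : MonoidAlgebra ℂ G, IsAnchor p M e π ∧ ¬ p ∣ mult p M e π P := by
  classical
  haveI := fact_prime_of_pm hM
  haveI := Fintype.ofFinite (Subgroup.centralizer (P : Set G))
  have heB : Cfsg.IsPBlock M e := hmax.1.1.2
  have hblk : blk p M e P = e := blk_eq hM hmax Relation.ReflTransGen.refl
  have hfr : BelowFree P e P := fun x _ hx => hx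
  obtain ⟨-, -, hh0⟩ := blk_facts hM hmax hab le_rfl hfr
  rw [hblk] at hh0
  obtain ⟨θ, hθ⟩ := block_nonempty hM heB
  obtain ⟨s, hs, hsu⟩ := exists_unit_value hM heB hθ (hh0 θ hθ)
  obtain ⟨y, hyi, hyy, hyu⟩ := exists_cyclic_idem hM (irr_isCharacter θ) hs hsu
  set x := inclEl (Subgroup.centralizer (P : Set G)) y
  have hxs : ∀ g ∉ (Subgroup.centralizer (P : Set G)), x.coeff g = 0 := fun g hg => coeff_inclEl_notMem _ _ hg
  have hxfix : IsFix M P ⊤ x := ⟨intEl_inclEl hM (Subgroup.centralizer (P : Set G)) hyi, invBy_of_supp_cent hxs,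
    fun g hg => absurd (Subgroup.mem_top g) hg⟩
  have hxx : x * x = x := by rw [← map_mul, hyy]
  obtain ⟨J, hJ⟩ := exists_decomp (Loc hM) (e := (⟨x, hxfix⟩ : fixAlg hM P ⊤)) (Subtype.ext hxx)
  obtain ⟨π, hπJ, hπu⟩ : ∃ π ∈ J, ¬ Cfsg.MemLocalIdeal M
      (evalChar (θ : (Subgroup.centralizer (P : Set G)) → ℂ) (restrEl (Subgroup.centralizer (P : Set G)) π.1)) := by
    by_contra hcon
    push Not at hcon
    refine hyu ?_
    have hy : y = restrEl (Subgroup.centralizer (P : Set G)) (∑ j ∈ J, j.1) := by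
      rw [← AddSubmonoidClass.coe_finsetSum, hJ.sum]
      exact (restrEl_inclEl (Subgroup.centralizer (P : Set G)) y).symm
    rw [hy, restrEl_sum, evalChar_sum]
    exact Finset.sum_induction _ (Cfsg.MemLocalIdeal M) (fun _ _ => ideal_add hM) (ideal_zero hM)
      hcon
  have hπ := hJ.prim π hπJ
  have hrc : restrEl (Subgroup.centralizer (P : Set G)) (cutEl P π.1) = restrEl (Subgroup.centralizer (P : Set G)) π.1 := el_ext fun c => by
    rw [coeff_restrEl, coeff_restrEl, cutEl_coeff_mem _ c.2]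
  have hne : ¬ IdealEl M (elF (Subgroup.centralizer (P : Set G)) e * cutEl P π.1) := by
    intro h
    refine hπu ?_
    have h1 : restrEl (Subgroup.centralizer (P : Set G)) (elF (Subgroup.centralizer (P : Set G)) e * cutEl P π.1) = blockIdem e * restrEl (Subgroup.centralizer (P : Set G)) π.1 := by
      rw [elF, restrEl_mul _ (fun g hg => coeff_inclEl_notMem _ _ hg), restrEl_inclEl, hrc]
    have h2 := ideal_evalChar hM (irr_isCharacter θ) (x := blockIdem e * restrEl (Subgroup.centralizer (P : Set G)) π.1)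
      (h1 ▸ fun c => by rw [coeff_restrEl]; exact h _)
    rw [evalChar_blockIdem_mul e (irr_isClassFunction θ)] at h2
    rwa [show Cfsg.blockPart e (θ : (Subgroup.centralizer (P : Set G)) → ℂ) = (θ : (Subgroup.centralizer (P : Set G)) → ℂ) from funext fun c => by
      rw [blockPart_irr, if_pos hθ]] at h2
  have hanch : IsAnchor p M e π.1 := ⟨π.2, congrArg Subtype.val hπ.idem, fun L hL =>
    cut_absorb hmax.1.1.1 hπ heB hne _ L _ rfl (blk_spec hM hmax hL).1⟩
  refine ⟨π.1, hanch, fun hdvd => hπu ?_⟩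
  obtain ⟨-, -, -, hc⟩ := exists_image hM hmax hab hanch le_rfl
  have hm := mult_spec hM hmax hab hanch le_rfl hfr (ξ := θ) (by rw [hblk]; exact hθ)
  have hcong := cong_evalChar hM (irr_isCharacter θ) (congEl_restrEl (Subgroup.centralizer (P : Set G)) hc)
  rw [hm, hrc] at hcong
  exact (ideal_iff_of_cong hM hcong).1 ((ideal_natCast_iff hM _).2 hdvd)

/-! ### The inertial quotient -/

variable (P e) in
/-- The inertial group acts freely. -/
def Frees : Prop :=
  ∀ x ∈ stab P e, ∀ v ∈ P, v ≠ 1 → x * v * x⁻¹ = v → x ∈ Subgroup.centralizer (P : Set G)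

variable (P e) in
/-- The action of the inertial group on the top. -/
def inertAct : stab P e →* MulAut P where
  toFun t :=
    { toFun := fun v => ⟨(t : G) * v * (t : G)⁻¹, conj_mem_top t.2 v.2⟩
      invFun := fun v => ⟨(t : G)⁻¹ * v * ((t : G)⁻¹)⁻¹, conj_mem_top (inv_mem t.2) v.2⟩
      left_inv := fun v => Subtype.ext (by simp [mul_assoc])
      right_inv := fun v => Subtype.ext (by simp [mul_assoc])
      map_mul' := fun v w => Subtype.ext (by simp [mul_assoc]) }
  map_one' := MulEquiv.ext fun v => Subtype.ext (by simp)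
  map_mul' t t' := MulEquiv.ext fun v => Subtype.ext (by simp [mul_assoc])

variable (P e) in
/-- The inertial quotient, as automorphisms of the top. -/
def inertR : Subgroup (MulAut P) := (inertAct P e).range

theorem inertR_exists {β : MulAut P} (hβ : β ∈ inertR P e) :
    ∃ t ∈ stab P e, ∀ v : P, ((β v : P) : G) = t * v * t⁻¹ := by
  obtain ⟨t, rfl⟩ := hβ
  exact ⟨t, t.2, fun v => rfl⟩

theorem inertAct_mem {t : G} (ht : t ∈ stab P e) : inertAct P e ⟨t, ht⟩ ∈ inertR P e :=
  ⟨⟨t, ht⟩, rfl⟩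

theorem card_inertR :
    Nat.card (inertR P e) = (Subgroup.centralizer (P : Set G)).relIndex (stab P e) := by
  rw [inertR, ← Subgroup.index_ker, Subgroup.relIndex]
  congr 1
  ext t
  rw [MonoidHom.mem_ker, Subgroup.mem_subgroupOf, Subgroup.mem_centralizer_iff]
  constructor
  · intro h v hv
    have h1 : (t : G) * v * (t : G)⁻¹ = v :=
      congrArg Subtype.val (DFunLike.congr_fun h (⟨v, hv⟩ : P))
    conv_lhs => rw [← h1]
    group
  · intro h
    refine MulEquiv.ext fun v => Subtype.ext ?_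
    show (t : G) * v * (t : G)⁻¹ = v
    rw [← h v v.2, mul_inv_cancel_right]

theorem Frees.eq_one (hfree : Frees P e) {β : MulAut P} (hβ : β ∈ inertR P e) {v : P} (hv : v ≠ 1)
    (h : β v = v) : β = 1 := by
  obtain ⟨t, ht, htv⟩ := inertR_exists hβ
  have hC := hfree t ht v v.2 (fun e => hv (Subtype.ext e)) (by rw [← htv, h])
  refine MulEquiv.ext fun w => Subtype.ext ?_
  rw [htv w, ← hC w w.2, mul_inv_cancel_right]
  rfl

/-- The order of the inertial quotient divides the number of non-trivial elements. -/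
theorem Frees.card_dvd (hfree : Frees P e) : Nat.card (inertR P e) ∣ Nat.card P - 1 := by
  classical
  haveI := Fintype.ofFinite P
  letI : MulAction (inertR P e) {v : P // v ≠ 1} :=
    { smul := fun β v => ⟨(β : MulAut P) v.1, fun h =>
        v.2 ((β : MulAut P).injective (h.trans (map_one (β : MulAut P)).symm))⟩
      one_smul := fun v => rfl
      mul_smul := fun β β' v => rfl }
  have h := dvd_card_of_stabilizer (X := {v : P // v ≠ 1}) (⊥ : Subgroup (inertR P e))
    fun v β hβ => Subgroup.mem_bot.2 (Subtype.ext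
      (hfree.eq_one β.2 v.2 (congrArg Subtype.val (MulAction.mem_stabilizer_iff.1 hβ))))
  rw [Subgroup.index_bot] at h
  rwa [Nat.card_eq_fintype_card (α := {v : P // v ≠ 1}), Fintype.card_subtype_compl,
    Fintype.card_subtype_eq, ← Nat.card_eq_fintype_card] at h

theorem Frees.not_dvd_card (hM : Cfsg.IsPModular p M) (hP : IsPGroup p P) (hP1 : P ≠ ⊥)
    (hfree : Frees P e) : ¬ p ∣ Nat.card (inertR P e) := by
  intro h
  haveI := fact_prime_of_pm hM
  obtain ⟨k, hk⟩ := IsPGroup.iff_card.1 hP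
  have hk0 : k ≠ 0 := fun h0 => hP1 (Subgroup.eq_bot_of_card_eq _ (by rw [hk, h0, pow_zero]))
  have h1 : p ∣ Nat.card P := hk ▸ dvd_pow_self _ hk0
  have h2 := Nat.dvd_sub h1 (h.trans hfree.card_dvd)
  rw [show Nat.card P - (Nat.card P - 1) = 1 by
    have : 0 < Nat.card P := Nat.card_pos
    omega] at h2
  exact hM.1.ne_one (Nat.dvd_one.1 h2)

theorem Frees.belowFree (hfree : Frees P e) {L : Subgroup G} (hL : L ≤ P) (hL1 : L ≠ ⊥) :
    BelowFree P e L := by
  intro x hx hxL
  obtain ⟨v, hv, hv1⟩ := L.bot_or_exists_ne_one.resolve_left hL1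
  exact hfree x hx v (hL hv) hv1 (by rw [← hxL v hv, mul_inv_cancel_right])

theorem Frees.freeAt (hfree : Frees P e) {v : P} (hv : v ≠ 1) : FreeAt P e (v : G) :=
  hfree.belowFree (Subgroup.zpowers_le.2 v.2) fun h => hv (Subtype.ext (Subgroup.zpowers_eq_bot.1 h))

variable [Fintype G] [Fintype (Cfsg.IrrCharacter G)]

theorem coef_inertR (hM : Cfsg.IsPModular p M) (hmax : Cfsg.IsMaximalBrauerPair p M B P e)
    (hab : ∀ x ∈ P, ∀ y ∈ P, x * y = y * x) (hfree : Frees P e) {β : MulAut P}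
    (hβ : β ∈ inertR P e) {v : P} (hv : v ≠ 1) {f : G → ℂ} (hf : Cfsg.IsClassFunction G f) :
    coef p M e f ((β v : P) : G) = coef p M e f (v : G) := by
  obtain ⟨t, ht, htv⟩ := inertR_exists hβ
  exact coef_conj hM hmax hab ht (htv v) (hfree.freeAt hv) hf

/-- Invariant signs making every coefficient function good. -/
theorem exists_good (hM : Cfsg.IsPModular p M) (hmax : Cfsg.IsMaximalBrauerPair p M B P e)
    (hab : ∀ x ∈ P, ∀ y ∈ P, x * y = y * x) (hP1 : P ≠ ⊥) (hfree : Frees P e) [Fintype P] :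
    ∃ σ : P → ℂ, (∀ v, σ v = 1 ∨ σ v = -1) ∧ (∀ β ∈ inertR P e, ∀ v, σ (β v) = σ v) ∧
      ∀ χ : Cfsg.IrrCharacter G, χ ∈ B →
        Good M (fun v : P => σ v * coef p M e (χ : G → ℂ) (v : G)) := by
  classical
  haveI := fact_prime_of_pm hM
  have hA : IsPGroup p P := hmax.1.1.1
  have hcomm : ∀ a b : P, a * b = b * a := fun a b => Subtype.ext (hab a a.2 b b.2)
  obtain ⟨π, hπ, hπtop⟩ := exists_anchor hM hmax hab
  set m : Subgroup P → ℕ := fun L => mult p M e π (L.map P.subtype) with hm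
  have hmapz : ∀ w : P, (Subgroup.zpowers w).map P.subtype = Subgroup.zpowers (w : G) :=
    fun w => MonoidHom.map_zpowers _ w
  have hloc : ∀ L : Subgroup P, L ≠ ⊥ → ∃ u a : P → ℂ, Cfsg.IsGeneralizedCharacter P u ∧
      (∀ w, IsIntegral ℤ (a w)) ∧ (∀ w, a w * conj (a w) = 1) ∧ a 1 = 1 ∧
      ∀ w, u w = a w * (m (L ⊔ Subgroup.zpowers w) : ℂ) := by
    intro L hL
    have hL0 : L.map P.subtype ≠ ⊥ := fun h =>
      hL ((Subgroup.map_eq_bot_iff_of_injective _ P.subtype_injective).1 h)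
    obtain ⟨u, a, hu, hai, habs, ha1, hua⟩ := local_char hM hmax hab hπ
      (Subgroup.map_subtype_le L) fun R hR hLR => hfree.belowFree hR fun h => hL0 (le_bot_iff.1 (h ▸ hLR))
    exact ⟨u, a, hu, hai, habs, ha1, fun w => by rw [hua, hm]; simp only [Subgroup.map_sup, hmapz]⟩
  have htopm : ¬ p ∣ m ⊤ := by
    simp only [hm, ← MonoidHom.range_eq_map, Subgroup.range_subtype]
    exact hπtop
  obtain ⟨Φ, c, hΦm, -, hnd, hC⟩ := exists_signs hM hcomm hA m htopm hloc
  obtain ⟨g, hg, hgv⟩ := exists_glue hcomm Φ hC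
  have hzne : ∀ w : P, w ≠ 1 → Subgroup.zpowers w ≠ ⊥ := fun w hw h =>
    hw (Subgroup.zpowers_eq_bot.1 h)
  have hgu : ∀ w : P, w ≠ 1 → ¬ Cfsg.MemLocalIdeal M (g w) := fun w hw h => by
    rw [hgv w hw] at h
    have h1 := (ideal_intCast_iff hM _).1 h
    rcases hΦm (Subgroup.zpowers w) with e | e <;> rw [e] at h1
    · exact hnd _ (hzne w hw) (Int.natCast_dvd_natCast.1 h1)
    · exact hnd _ (hzne w hw) (Int.natCast_dvd_natCast.1 (dvd_neg.1 h1))
  obtain ⟨w₀, hw₀⟩ : ∃ w₀ : P, w₀ ≠ 1 := by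
    obtain ⟨v, hv, hv1⟩ := P.bot_or_exists_ne_one.resolve_left hP1
    exact ⟨⟨v, hv⟩, fun h => hv1 (congrArg Subtype.val h)⟩
  set σ₀ : P → ℂ := fun w => if w = 1 then 1 else
    if Φ (Subgroup.zpowers w) = (m (Subgroup.zpowers w) : ℤ) then 1 else -1 with hσ₀
  have hσv : ∀ w, σ₀ w = 1 ∨ σ₀ w = -1 := fun w => by
    simp only [hσ₀]; split_ifs <;> simp
  have hgood : ∀ χ : Cfsg.IrrCharacter G, χ ∈ B →
      Good M (fun v : P => σ₀ v * coef p M e (χ : G → ℂ) (v : G)) := by
    intro χ _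
    refine ((good_of_gen hM (isGen_of_isCharacter
      (isCharacter_shift (irr_isCharacter χ) hπ.fix.inv hπ.idem))).mul hM
      ((good_of_gen hM hg).inv hM hcomm hA hw₀ (hgu w₀ hw₀))).congr fun w hw => ?_
    show _ = evalChar (χ : G → ℂ) (single (w : G) 1 * π) * (g w)⁻¹
    rw [shift_value hM hmax hab hπ (hfree.freeAt hw) (irr_isClassFunction χ), hgv w hw, ← hmapz]
    have hm0 : (m (Subgroup.zpowers w) : ℂ) ≠ 0 :=
      Nat.cast_ne_zero.2 fun h => hnd _ (hzne w hw) (h ▸ dvd_zero p)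
    show _ = coef p M e (χ : G → ℂ) (w : G) * (m (Subgroup.zpowers w) : ℂ) * _
    simp only [hσ₀, if_neg hw]
    split_ifs with h
    · rw [h, Int.cast_natCast, one_mul, mul_assoc, mul_inv_cancel₀ hm0, mul_one]
    · rw [(hΦm _).resolve_left h, Int.cast_neg, Int.cast_natCast, inv_neg, mul_neg, mul_assoc,
        mul_inv_cancel₀ hm0, mul_one, neg_one_mul]
  obtain ⟨χ₀, hχ₀, h00⟩ := exists_height_zero hM hmax.1.2.1
  have ha0 : ∀ w : P, w ≠ 1 →
      ¬ Cfsg.MemLocalIdeal M (coef p M e (χ₀ : G → ℂ) (w : G)) := fun w hw =>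
    coef_not_ideal hM hmax hab (hfree.freeAt hw) hχ₀ h00
  have hF0u : ∀ w : P, w ≠ 1 →
      ¬ Cfsg.MemLocalIdeal M (σ₀ w * coef p M e (χ₀ : G → ℂ) (w : G)) := fun w hw h => by
    rcases hσv w with e | e <;> rw [e] at h
    · exact ha0 w hw (by simpa using h)
    · exact ha0 w hw (by simpa using ideal_neg hM h)
  by_cases hp2 : p = 2
  swap
  · refine ⟨σ₀, hσv, fun β hβ v => ?_, hgood⟩
    rcases eq_or_ne v 1 with rfl | hv
    · rw [map_one]
    have hβv : β v ≠ 1 := fun h => hv (β.injective (h.trans (map_one β).symm))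
    obtain ⟨f, z, hf, hz, -, -, hFf⟩ := (hgood χ₀ hχ₀).unit hM hcomm hA hw₀ (hF0u w₀ hw₀)
    obtain ⟨j, h, hh, he⟩ := pow_card_cong hM.1 hcomm hA hf
    have hPp : p ∣ Nat.card P := by
      obtain ⟨k, hk⟩ := IsPGroup.iff_card.1 hA
      rw [hk]
      exact dvd_pow_self _ fun h0 => hP1 (Subgroup.eq_bot_of_card_eq _ (by rw [hk, h0, pow_zero]))
    have key : ∀ w : P, w ≠ 1 →
        Cong M ((σ₀ w * coef p M e (χ₀ : G → ℂ) (w : G)) ^ p ^ j) (f 1) := by
      intro w hw
      obtain ⟨k, hk, hFk⟩ := hFf w hw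
      have h1 : Cong M (σ₀ w * coef p M e (χ₀ : G → ℂ) (w : G)) (f w) := by
        show Cfsg.MemLocalIdeal M _
        rw [hFk, add_sub_cancel_left]
        exact ideal_mul_right hM ((ideal_natCast_iff hM _).2 hPp) hk
      refine cong_trans hM (cong_pow hM h1 ?_ _) ?_
      · exact ring_gen hM hf w
      · show Cfsg.MemLocalIdeal M _
        rw [he w, add_sub_cancel_left]
        exact ideal_mul_right hM (ideal_p hM) (ring_gen hM hh w)
    have h1 := cong_trans hM (key _ hβv) (cong_symm hM (key _ hv))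
    rw [coef_inertR hM hmax hab hfree hβ hv (irr_isClassFunction χ₀)] at h1
    have hodd : Odd (p ^ j) := (hM.1.odd_of_ne_two hp2).pow
    have h2u : ¬ Cfsg.MemLocalIdeal M ((2 : ℕ) : ℂ) := fun h2 =>
      hp2 ((Nat.prime_dvd_prime_iff_eq hM.1 Nat.prime_two).1 ((ideal_natCast_iff hM 2).1 h2))
    have hbad : ∀ x : ℂ, Cfsg.MemLocalRing M x → ¬ Cfsg.MemLocalIdeal M x →
        Cong M ((-x) ^ p ^ j) (x ^ p ^ j) → False := by
      intro x hxr hx hc
      rw [hodd.neg_pow] at hc
      have hc' : Cfsg.MemLocalIdeal M (((2 : ℕ) : ℂ) * x ^ p ^ j) := by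
        have := ideal_neg hM (hc : Cfsg.MemLocalIdeal M _)
        convert this using 1
        push_cast; ring
      exact hx (ideal_of_pow hM hxr (((ideal_mul_iff hM (ring_natCast hM 2) (ring_pow hM hxr _)).1
        hc').resolve_left h2u))
    have ha := ha0 v hv
    have har : Cfsg.MemLocalRing M (coef p M e (χ₀ : G → ℂ) (v : G)) :=
      ring_of_isIntegral hM (coef_isIntegral hM (irr_isCharacter χ₀) _)
    rcases hσv (β v) with e1 | e1 <;> rcases hσv v with e2 | e2 <;> rw [e1, e2] at h1 ⊢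
    · refine (hbad _ har ha ?_).elim
      simpa using cong_symm hM h1
    · refine (hbad _ har ha ?_).elim
      simpa using h1
  · -- the norm of the signs
    haveI := Fintype.ofFinite (inertR P e)
    set r := Nat.card (inertR P e) with hr
    have hodd : Odd r := Nat.odd_iff.2 (by
      have h := hfree.not_dvd_card hM hA hP1
      subst hp2
      omega)
    set σ : P → ℂ := fun w => ∏ β : inertR P e, σ₀ ((β : MulAut P) w) with hσ
    refine ⟨σ, fun w => ?_, fun β hβ v => ?_, fun χ hχ => ?_⟩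
    · exact Finset.prod_induction _ (fun x => x = 1 ∨ x = -1)
        (fun a b ha hb => by rcases ha with rfl | rfl <;> rcases hb with rfl | rfl <;> simp)
        (Or.inl rfl) fun β _ => hσv _
    · exact Fintype.prod_equiv (Equiv.mulRight (⟨β, hβ⟩ : inertR P e)) _ _ fun γ => rfl
    · have hF' : Good M fun w : P => σ w * coef p M e (χ₀ : G → ℂ) (w : G) := by
        refine (((Good.prod hM (Finset.univ : Finset (inertR P e))
          (fun β w => σ₀ ((β : MulAut P) w) * coef p M e (χ₀ : G → ℂ) (((β : MulAut P) w : P) : G))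
          fun β _ => (hgood χ₀ hχ₀).comp hM (β : MulAut P))).mul hM
          (((hgood χ₀ hχ₀).inv hM hcomm hA hw₀ (hF0u w₀ hw₀)).pow hM (r - 1))).congr fun w hw => ?_
        rw [Finset.prod_mul_distrib, Finset.prod_congr rfl fun β _ =>
            coef_inertR hM hmax hab hfree β.2 hw (irr_isClassFunction χ₀),
          Finset.prod_const, Finset.card_univ, ← Nat.card_eq_fintype_card, ← hr]
        obtain ⟨k, hk⟩ := hodd
        rw [hk, Nat.add_sub_cancel, inv_pow, mul_pow, pow_mul (σ₀ w),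
          show σ₀ w ^ 2 = 1 by rcases hσv w with e | e <;> simp [e], one_pow, one_mul, pow_succ']
        have hne : coef p M e (χ₀ : G → ℂ) (w : G) ^ (2 * k) ≠ 0 :=
          pow_ne_zero _ (ne_zero_of_not_ideal hM (ha0 w hw))
        field_simp
        exact mul_comm _ _
      refine ((hF'.mul hM (hgood χ hχ)).mul hM
        ((hgood χ₀ hχ₀).inv hM hcomm hA hw₀ (hF0u w₀ hw₀))).congr fun w hw => ?_
      have hne := ne_zero_of_not_ideal hM (ha0 w hw)
      have hs : σ₀ w ≠ 0 := by rcases hσv w with e | e <;> simp [e]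
      field_simp

end Cfsg.Agent.Blocks.Star
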