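import Mathlib
import Cfsg.Agent.Lib.Blocks.Star.Anchor
import Cfsg.Agent.Lib.Blocks.Orthogonality

/-!
# The singular columns of a block with free inertial quotient

At a singular element the values of the characters of the block are integral combinations of the
columns of coefficients, and those columns are integral combinations of columns of values.
-/

set_option linter.style.haveILetI false
set_option linter.unusedSectionVars false

namespace Cfsg.Agent.Blocks.Star

open Cfsg.Agent.Blocks Cfsg.Agent.Characters Cfsg.Agent.BlockCharsA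
open Cfsg.Agent.BlockCharsA.BrauerPairs Cfsg.Agent.BlockCharsA.PairConj
open Cfsg.Agent.BlockCharsA.PairLocal Cfsg.Agent.BlockCharsA.PairFusion
open MonoidAlgebra
open scoped ComplexConjugate

universe u

variable {G : Type u} [Group G] [Finite G] {p : ℕ} {M : Ideal Cfsg.AlgInt}
  {B : Set (Cfsg.IrrCharacter G)} {P : Subgroup G}
  {e : Set (Cfsg.IrrCharacter (Subgroup.centralizer (P : Set G)))}

/-- The column sums of a block are divisible by the order of a centralizer. -/
theorem column_div_ring (hM : Cfsg.IsPModular p M) [Fintype (Cfsg.IrrCharacter G)]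
    (hB : Cfsg.IsPBlock M B) [DecidablePred (· ∈ B)] (y z : G) :
    Cfsg.MemLocalRing M ((∑ χ ∈ Finset.univ.filter (fun χ => χ ∈ B),
      (χ : G → ℂ) z * (χ : G → ℂ) y) / (Nat.card (Subgroup.centralizer ({y} : Set G)) : ℂ)) := by
  classical
  haveI := Fintype.ofFinite G
  have h : Cfsg.MemLocalRing M ((classSum y * blockIdem B).coeff z⁻¹) :=
    intEl_mul hM (intEl_classSum hM y) (intEl_blockIdem hM hB) _
  rw [← fourier_omega (central_mul (central_classSum y) (central_blockIdem B)), coeff_fourier] at h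
  convert h using 1
  have hidx : ((Subgroup.centralizer ({y} : Set G)).index : ℂ) *
      (Nat.card (Subgroup.centralizer ({y} : Set G)) : ℂ) = (Nat.card G : ℂ) := by
    exact_mod_cast Subgroup.index_mul_card _
  rw [div_eq_iff natCard_ne_zero, mul_assoc]
  rw [eq_inv_mul_iff_mul_eq₀ natCard_ne_zero, ← hidx, Finset.sum_filter, Finset.mul_sum,
    Finset.sum_mul]
  refine Finset.sum_congr rfl fun χ _ => ?_
  rw [omega_mul χ (central_classSum y), omega_classSum (irr_isClassFunction χ), omega_blockIdem]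
  by_cases hχ : χ ∈ B
  · rw [if_pos hχ, if_pos hχ, Cfsg.centralChar, char_inv (irr_isCharacter χ),
      Complex.conj_conj]
    field_simp [irr_one_ne_zero χ.2]
  · rw [if_neg hχ, if_neg hχ]
    ring

variable [Fintype (Cfsg.IrrCharacter G)]

theorem coef_sum {ι : Type*} (s : Finset ι) (a : ι → ℂ) (f : ι → G → ℂ) (v : G) :
    coef p M e (fun g => ∑ i ∈ s, a i * f i g) v = ∑ i ∈ s, a i * coef p M e (f i) v := by
  classical
  haveI := Fintype.ofFinite (CU v)
  haveI := Fintype.ofFinite (Cfsg.IrrCharacter (CU v))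
  simp only [coef, Finset.mul_sum]
  rw [Finset.sum_comm]
  refine Finset.sum_congr (by congr!) fun ξ _ => ?_
  simp only [classInner_def, shiftCU, Finset.mul_sum, Finset.sum_mul]
  rw [Finset.sum_comm]
  refine Finset.sum_congr rfl fun i _ => Finset.sum_congr rfl fun k _ => ?_
  ring

theorem singular_mul (hM : Cfsg.IsPModular p M) {v c : G} (hv : ∃ k : ℕ, orderOf v = p ^ k)
    (hv1 : v ≠ 1) (hcomm : Commute v c) (hc : ¬ p ∣ orderOf c) : p ∣ orderOf (v * c) := by
  obtain ⟨k, hk⟩ := hv
  have hk0 : k ≠ 0 := fun h => hv1 (orderOf_eq_one_iff.1 (by rw [hk, h, pow_zero]))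
  rw [hcomm.orderOf_mul_eq_mul_orderOf_of_coprime
    (by rw [hk]; exact ((hM.1.coprime_iff_not_dvd).2 hc).pow_left k), hk]
  exact dvd_mul_of_dvd_left (dvd_pow_self p hk0) _

/-- The regular values are orthogonal to the columns of coefficients. -/
theorem sum_val_coef_eq_zero (hM : Cfsg.IsPModular p M)
    (hmax : Cfsg.IsMaximalBrauerPair p M B P e) (hab : ∀ x ∈ P, ∀ y ∈ P, x * y = y * x)
    [DecidablePred (· ∈ B)] {v : P} (hv : FreeAt P e (v : G)) (hv1 : v ≠ 1) {x : G}
    (hx : ¬ p ∣ orderOf x) :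
    ∑ χ ∈ Finset.univ.filter (fun χ => χ ∈ B),
      (χ : G → ℂ) x * coef p M e (χ : G → ℂ) (v : G) = 0 := by
  classical
  haveI := Fintype.ofFinite G
  set F : G → ℂ := fun g => ∑ χ ∈ Finset.univ.filter (fun χ => χ ∈ B),
    (χ : G → ℂ) x * (χ : G → ℂ) g with hF
  have hFc : Cfsg.IsClassFunction G F := fun g a =>
    Finset.sum_congr rfl fun χ _ => by rw [irr_isClassFunction χ g a]
  have hF0 : ∀ g, p ∣ orderOf g → F g = 0 := by
    intro g hg
    have h := sum_block_reg_sing hM (intEl_blockIdem hM hmax.1.2.1) hx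
      (show p ∣ orderOf g⁻¹ by rwa [orderOf_inv])
    rw [finsum_mem_def, finsum_eq_sum_of_fintype] at h
    rw [← h]
    simp only [hF, Finset.sum_filter]
    refine Finset.sum_congr rfl fun χ _ => ?_
    by_cases hχ : χ ∈ B
    · rw [if_pos hχ, Set.indicator_of_mem hχ, char_inv (irr_isCharacter χ), Complex.conj_conj]
    · rw [if_neg hχ, Set.indicator_of_notMem hχ]
  rw [← coef_sum]
  obtain ⟨ξ, hξ⟩ := gAt_nonempty hM hmax v
  obtain ⟨-, hgB, he⟩ := gAt_spec hM hmax v
  haveI := Fintype.ofFinite (CU (v : G))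
  haveI := Fintype.ofFinite (Cfsg.IrrCharacter (CU (v : G)))
  have hp1 : ¬ p ∣ orderOf (1 : CU (v : G)) := by simp [hM.1.ne_one]
  have h := th_eq_coef hM hmax hab hv hFc hξ hp1
  rw [he, th_eq hFc, blockPart_congr_reg hM hgB (F' := fun _ => 0) (fun c hc => ?_) hp1,
    blockPart_eq_expand] at h
  · simp only [classInner_def, zero_mul, Finset.sum_const_zero, mul_zero] at h
    exact (mul_eq_zero.1 h.symm).resolve_right (irr_one_ne_zero ξ.2)
  · refine hF0 _ (singular_mul hM (orderOf_top hM hmax v)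
      (fun h => hv1 (Subtype.ext h)) (commute_of_mem_CU c.2) ?_)
    rwa [Subgroup.orderOf_coe]

/-- A column of coefficients is an integral combination of columns of values. -/
theorem exists_coef_comb (hM : Cfsg.IsPModular p M) (hmax : Cfsg.IsMaximalBrauerPair p M B P e)
    (hab : ∀ x ∈ P, ∀ y ∈ P, x * y = y * x) [Fintype G] {v : P} (hv : FreeAt P e (v : G)) :
    ∃ b : G → ℂ, (∀ z, Cfsg.MemLocalRing M (b z)) ∧
      ∀ f : G → ℂ, Cfsg.IsClassFunction G f → coef p M e f (v : G) = ∑ z, b z * f z := by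
  classical
  haveI := Fintype.ofFinite (CU (v : G))
  obtain ⟨ξ, hξ⟩ := gAt_nonempty hM hmax v
  obtain ⟨-, hgB, he⟩ := gAt_spec hM hmax v
  obtain ⟨s, hs, hu⟩ := exists_unit_value hM hgB hξ ((local_facts hM hmax hab hv).2.2.1 ξ hξ)
  set c := (ξ : CU (v : G) → ℂ) s with hc
  have hcR : Cfsg.MemLocalRing M c :=
    ring_of_isIntegral hM (char_value_isIntegral (irr_isCharacter ξ) s)
  have hint : IntEl M (single ((v : G) * (s : G)) (1 : ℂ) * eps p M e v) := by
    refine intEl_mul hM (fun z => ?_) (by rw [he]; exact intEl_elF hM hgB)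
    rw [MonoidAlgebra.coeff_single, Finsupp.single_apply]
    split
    exacts [ring_one hM, ring_zero hM]
  refine ⟨fun z => c⁻¹ * (single ((v : G) * (s : G)) (1 : ℂ) * eps p M e v).coeff z,
    fun z => ring_mul hM (ring_inv hM hcR hu) (hint z), fun f hf => ?_⟩
  have h := th_eq_coef hM hmax hab hv hf hξ hs
  rw [th, evalChar_eq_sum] at h
  simp only [mul_assoc, ← Finset.mul_sum]
  rw [h, ← hc, ← mul_assoc, mul_comm c⁻¹, mul_assoc,
    inv_mul_cancel₀ (ne_zero_of_not_ideal hM hu), mul_one]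

/-- The values at a singular element are integral combinations of the columns. -/
theorem exists_value_comb (hM : Cfsg.IsPModular p M) (hmax : Cfsg.IsMaximalBrauerPair p M B P e)
    (hab : ∀ x ∈ P, ∀ y ∈ P, x * y = y * x) (hfree : Frees P e) [Fintype P] {x : G}
    (hx : p ∣ orderOf x) :
    ∃ a : P → ℂ, (∀ v, Cfsg.MemLocalRing M (a v)) ∧ a 1 = 0 ∧
      ∀ χ ∈ B, (χ : G → ℂ) x = ∑ v : P, a v * coef p M e (χ : G → ℂ) (v : G) := by
  classical
  haveI := Fintype.ofFinite G
  obtain ⟨u, hu⟩ := exists_ppart hM.1 x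
  obtain ⟨s, hxs, hcomm, huk, hs⟩ := id hu
  have hu1 : u ≠ 1 := by
    rintro rfl
    rw [one_mul] at hxs
    exact hs (hxs ▸ hx)
  have key : ∀ ε ∈ BI M u, ∃ a : P → ℂ, (∀ v, Cfsg.MemLocalRing M (a v)) ∧ a 1 = 0 ∧
      ∀ χ ∈ B, th ((χ : Cfsg.IrrCharacter G) : G → ℂ) u ε s =
        ∑ v : P, a v * coef p M e (χ : G → ℂ) (v : G) := by
    intro ε hε
    obtain ⟨g, hg, rfl⟩ := mem_BI.1 hε
    by_cases hpair : Cfsg.IsBrauerPairOf p M B (Subgroup.zpowers u) g
    · obtain ⟨v, y, hv, hεv⟩ := (witness_iff hM hmax huk hg).2 hpair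
      have hv1 : v ≠ 1 := fun h => hu1 (conj_eq_one_iff.1 (by rw [← hv, h]; rfl))
      obtain ⟨ξ, hξ⟩ := gAt_nonempty hM hmax v
      have hs' : y * s * y⁻¹ ∈ CU (v : G) := mem_CU_of_commute (by
        rw [hv]; exact hcomm.map (MulAut.conj y).toMonoidHom)
      set t : CU (v : G) := ⟨y * s * y⁻¹, hs'⟩ with ht
      have htr : ¬ p ∣ orderOf t := by
        rw [ht, Subgroup.orderOf_mk, ← MulAut.conj_apply, MulEquiv.orderOf_eq]
        exact hs
      refine ⟨fun w => if w = v then (ξ : CU (v : G) → ℂ) t else 0, fun w => ?_,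
        if_neg (Ne.symm hv1), fun χ hχ => ?_⟩
      · dsimp only
        split
        exacts [ring_of_isIntegral hM (char_value_isIntegral (irr_isCharacter ξ) _), ring_zero hM]
      simp only [ite_mul, zero_mul, Finset.sum_ite_eq', Finset.mem_univ, if_true]
      rw [mul_comm, ← th_eq_coef hM hmax hab (hfree.freeAt hv1) (irr_isClassFunction χ) hξ htr,
        th, th, ← hεv, ← evalChar_cjE (irr_isClassFunction χ) y (single (u * s) 1 * _), cjE_mul,
        cjE_single]
      congr 3
      simp only [ht, hv]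
      group
    · refine ⟨0, fun _ => ring_zero hM, rfl, fun χ hχ => ?_⟩
      rw [th_eq_zero hM hmax.1.2.1 hχ huk hg hpair (mem_regAt.2 ⟨hcomm, hs⟩)]
      simp
  choose! a haR ha1 ha using key
  refine ⟨fun v => ∑ ε ∈ BI M u, a ε v, fun v => ring_sum hM fun ε hε => haR ε hε v,
    Finset.sum_eq_zero fun ε hε => ha1 ε hε, fun χ hχ => ?_⟩
  rw [← hxs, eq_sum_th hM (χ : G → ℂ) u s, Finset.sum_congr rfl fun ε hε => ha ε hε χ hχ,
    Finset.sum_comm]
  simp only [Finset.sum_mul]

/-- An integral coefficient at an involution. -/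
theorem coef_exists_int (hM : Cfsg.IsPModular p M) {χ : G → ℂ} (hχ : Cfsg.IsCharacter G χ)
    {v : G} (hv : v * v = 1) : ∃ n : ℤ, coef p M e χ v = n := by
  classical
  haveI := Fintype.ofFinite (CU v)
  haveI := Fintype.ofFinite (Cfsg.IrrCharacter (CU v))
  rw [coef]
  have key : ∀ ξ : Cfsg.IrrCharacter (CU v),
      ∃ n : ℤ, Cfsg.classInner (shiftCU χ v) (ξ : CU v → ℂ) = n := by
    intro ξ
    let v' : CU v := ⟨v, mem_CU_of_commute (Commute.refl v)⟩
    have hvc : v' ∈ Subgroup.center (CU v) :=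
      Subgroup.mem_center_iff.2 fun x => Subtype.ext (commute_of_mem_CU x.2).eq.symm
    obtain ⟨c, hc, hcs⟩ := exists_central_scalar ξ hvc
    have h0 := irr_one_ne_zero ξ.2
    have hvv : v' * v' = 1 := Subtype.ext hv
    have hc2 : c * c = 1 := by
      have h1 := hcs v'
      have h2 := hcs 1
      rw [one_mul] at h2
      rw [hvv, h2, ← mul_assoc] at h1
      exact (mul_left_eq_self₀.1 h1.symm).resolve_right h0
    obtain ⟨n, hn⟩ := classInner_gen_int
      (isGen_of_isCharacter (isCharacter_restrict (CU v) hχ))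
      (isGen_of_isCharacter (irr_isCharacter ξ))
    have e1 : Cfsg.classInner (shiftCU χ v) (ξ : CU v → ℂ) = conj c * (n : ℂ) := by
      rw [← hn, classInner_def, classInner_def, mul_left_comm, Finset.mul_sum _ _ (conj c)]
      congr 1
      refine Fintype.sum_equiv (Equiv.mulLeft v') _ _ fun k => ?_
      show χ (v * (k : G)) * conj ((ξ : CU v → ℂ) k) =
        conj c * (χ ((v' * k : CU v) : G) * conj ((ξ : CU v → ℂ) (v' * k)))
      rw [← Subgroup.mem_center_iff.1 hvc k, hcs, map_mul, Subgroup.mem_center_iff.1 hvc k]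
      simp only [Subgroup.coe_mul, v']
      have : conj c * conj c = 1 := by rw [← map_mul, hc2, map_one]
      linear_combination (-(χ (v * (k : G)) * conj ((ξ : CU v → ℂ) k))) * this
    rcases mul_self_eq_one_iff.1 hc2 with rfl | rfl
    · refine ⟨n, ?_⟩
      rw [show (Cfsg.classInner (shiftCU χ v) (ξ : CU v → ℂ)) = conj (1 : ℂ) * (n : ℂ) from e1,
        map_one, one_mul]
    · refine ⟨-n, ?_⟩
      rw [show (Cfsg.classInner (shiftCU χ v) (ξ : CU v → ℂ)) = conj (-1 : ℂ) * (n : ℂ) from e1,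
        map_neg, map_one]
      push_cast
      ring
  choose n hn using key
  refine ⟨∑ ξ ∈ Finset.univ.filter (fun ξ => ξ ∈ gAt p M e v), n ξ, ?_⟩
  rw [Int.cast_sum]
  refine Finset.sum_congr (by congr!) fun ξ _ => ?_
  rw [← hn ξ]
  congr!

end Cfsg.Agent.Blocks.Star
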