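import Mathlib
import Cfsg.Prelude.Def_BlockLocal
import Cfsg.Agent.Lib.Blocks.Star.SingularSpan

/-!
# Perfect isometries from matching columns of coefficients

A signed bijection between two blocks with free inertial quotients is a perfect isometry as soon
as it carries each column of coefficients to a multiple of a column of the other block.
-/

set_option linter.style.haveILetI false
set_option linter.unusedSectionVars false

namespace Cfsg.Agent.Blocks.Star

open Cfsg.Agent.Blocks Cfsg.Agent.Characters Cfsg.Agent.BlockCharsA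
open Cfsg.Agent.BlockCharsA.BrauerPairs Cfsg.Agent.BlockCharsA.PairConj
open Cfsg.Agent.BlockCharsA.PairLocal Cfsg.Agent.BlockCharsA.PairFusion
open scoped ComplexConjugate

universe u w

variable {G : Type u} [Group G] [Finite G] {p : ℕ} {M : Ideal Cfsg.AlgInt}
  {B : Set (Cfsg.IrrCharacter G)} {P : Subgroup G}
  {e : Set (Cfsg.IrrCharacter (Subgroup.centralizer (P : Set G)))}

/-- Pairings with a combination of columns vanish at regular elements and are divisible by the
orders of the centralizers at singular ones. -/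
theorem comb_pairing (hM : Cfsg.IsPModular p M) (hmax : Cfsg.IsMaximalBrauerPair p M B P e)
    (hab : ∀ x ∈ P, ∀ y ∈ P, x * y = y * x) (hfree : Frees P e) [Fintype P]
    [Fintype (Cfsg.IrrCharacter G)] [DecidablePred (· ∈ B)] (k : P → ℂ)
    (hk : ∀ v, Cfsg.MemLocalRing M (k v)) (hk1 : k 1 = 0) (a : Cfsg.IrrCharacter G → ℂ)
    (ha : ∀ χ ∈ B, a χ = ∑ v : P, k v * coef p M e (χ : G → ℂ) (v : G)) (y : G) :
    (¬ p ∣ orderOf y →
      ∑ χ ∈ Finset.univ.filter (fun χ => χ ∈ B), a χ * (χ : G → ℂ) y = 0) ∧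
    Cfsg.MemLocalRing M ((∑ χ ∈ Finset.univ.filter (fun χ => χ ∈ B), a χ * (χ : G → ℂ) y) /
      (Nat.card (Subgroup.centralizer ({y} : Set G)) : ℂ)) := by
  classical
  haveI := Fintype.ofFinite G
  have hexp : ∑ χ ∈ Finset.univ.filter (fun χ => χ ∈ B), a χ * (χ : G → ℂ) y =
      ∑ v : P, k v * ∑ χ ∈ Finset.univ.filter (fun χ => χ ∈ B),
        (χ : G → ℂ) y * coef p M e (χ : G → ℂ) (v : G) := by
    simp only [Finset.mul_sum]
    rw [Finset.sum_comm]
    refine Finset.sum_congr rfl fun χ hχ => ?_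
    rw [ha χ (Finset.mem_filter.1 hχ).2, Finset.sum_mul]
    exact Finset.sum_congr rfl fun v _ => by ring
  refine ⟨fun hy => ?_, ?_⟩
  · rw [hexp]
    refine Finset.sum_eq_zero fun v _ => ?_
    rcases eq_or_ne v 1 with rfl | hv
    · rw [hk1, zero_mul]
    · rw [sum_val_coef_eq_zero hM hmax hab (hfree.freeAt hv) hv hy, mul_zero]
  · rw [hexp, Finset.sum_div]
    refine ring_sum hM fun v _ => ?_
    rcases eq_or_ne v 1 with rfl | hv
    · rw [hk1, zero_mul, zero_div]; exact ring_zero hM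
    obtain ⟨b, hb, hbc⟩ := exists_coef_comb hM hmax hab (hfree.freeAt hv)
    rw [mul_div_assoc]
    refine ring_mul hM (hk v) ?_
    simp only [fun χ : Cfsg.IrrCharacter G => hbc _ (irr_isClassFunction χ), Finset.mul_sum]
    rw [Finset.sum_comm, Finset.sum_div]
    refine ring_sum hM fun z _ => ?_
    rw [show ∑ χ ∈ Finset.univ.filter (fun χ => χ ∈ B), (χ : G → ℂ) y * (b z * (χ : G → ℂ) z) =
        b z * ∑ χ ∈ Finset.univ.filter (fun χ => χ ∈ B), (χ : G → ℂ) z * (χ : G → ℂ) y by
      rw [Finset.mul_sum]; exact Finset.sum_congr rfl fun χ _ => by ring, mul_div_assoc]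
    exact ring_mul hM (hb z) (column_div_ring hM hmax.1.2.1 y z)

/-- An integral combination of characters vanishing at singular elements is divisible by the order
of the centralizer at a regular element. -/
theorem regular_div_ring (hM : Cfsg.IsPModular p M) [Fintype (Cfsg.IrrCharacter G)]
    [DecidablePred (· ∈ B)] (a : Cfsg.IrrCharacter G → ℂ) (ha : ∀ χ, Cfsg.MemLocalRing M (a χ))
    (hvan : ∀ g, p ∣ orderOf g →
      ∑ χ ∈ Finset.univ.filter (fun χ => χ ∈ B), a χ * (χ : G → ℂ) g = 0)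
    {y : G} (hy : ¬ p ∣ orderOf y) :
    Cfsg.MemLocalRing M ((∑ χ ∈ Finset.univ.filter (fun χ => χ ∈ B), a χ * (χ : G → ℂ) y) /
      (Nat.card (Subgroup.centralizer ({y} : Set G)) : ℂ)) := by
  classical
  haveI := Fintype.ofFinite G
  haveI := fact_prime_of_pm hM
  set C := Subgroup.centralizer ({y} : Set G) with hC
  obtain ⟨S⟩ : Nonempty (Sylow p C) := inferInstance
  set D : Subgroup G := (S : Subgroup C).map C.subtype with hD
  haveI := Fintype.ofFinite D
  have hyD : y ∈ Subgroup.centralizer (D : Set G) := by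
    rintro _ ⟨c, -, rfl⟩
    exact Subgroup.mem_centralizer_singleton_iff.1 c.2
  set c : Cfsg.IrrCharacter G → ℂ := fun χ => if χ ∈ B then a χ else 0 with hc
  have hsum : ∀ g, ∑ χ : Cfsg.IrrCharacter G, c χ * (χ : G → ℂ) g =
      ∑ χ ∈ Finset.univ.filter (fun χ => χ ∈ B), a χ * (χ : G → ℂ) g := fun g => by
    simp only [hc, ite_mul, zero_mul, ← Finset.sum_filter]
  have h := value_div_card_ring hM hyD c (fun χ => by
    simp only [hc]; split
    exacts [ha χ, ring_zero hM]) fun t ht ht1 => by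
      rw [hsum]
      refine hvan _ ?_
      obtain ⟨s, hs, rfl⟩ := ht
      obtain ⟨k, hk⟩ := (IsPGroup.iff_orderOf.1 S.isPGroup') ⟨s, hs⟩
      rw [Subgroup.orderOf_mk] at hk
      have hcomm : Commute (s : G) y := Subgroup.mem_centralizer_singleton_iff.1 s.2
      show p ∣ orderOf (y * (s : G))
      rw [← hcomm.eq]
      exact singular_mul hM ⟨k, by rw [Subgroup.orderOf_coe]; exact hk⟩ ht1 hcomm hy
  rw [hsum] at h
  have hcard : Nat.card C = Nat.card D * (S : Subgroup C).index := by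
    rw [hD, Subgroup.card_map_of_injective C.subtype_injective, Subgroup.card_mul_index]
  rw [hcard, Nat.cast_mul, ← div_div, div_eq_mul_inv]
  exact ring_mul hM h (ring_inv_natCast hM S.not_dvd_index)

variable {H : Type w} [Group H] [Finite H] {c : Set (Cfsg.IrrCharacter H)} {A : Subgroup H}
  {a : Set (Cfsg.IrrCharacter (Subgroup.centralizer (A : Set H)))}

/-- Matching columns give a perfect isometry. -/
theorem isPerfectIsometry_of_columns (hM : Cfsg.IsPModular p M)
    (hmax : Cfsg.IsMaximalBrauerPair p M B P e) (hab : ∀ x ∈ P, ∀ y ∈ P, x * y = y * x)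
    (hfree : Frees P e) (hmax' : Cfsg.IsMaximalBrauerPair p M c A a)
    (hab' : ∀ x ∈ A, ∀ y ∈ A, x * y = y * x) (hfree' : Frees A a)
    [Fintype (Cfsg.IrrCharacter G)] [Fintype (Cfsg.IrrCharacter H)]
    (I : Cfsg.IrrCharacter H → Cfsg.IrrCharacter G) (ε : Cfsg.IrrCharacter H → ℤ)
    (hI : Set.BijOn I c B) (hε : ∀ η ∈ c, ε η = 1 ∨ ε η = -1) (σ : P → A) (τ : P → ℤ)
    (hσ : Function.Surjective σ) (hσ1 : ∀ v, σ v = 1 ↔ v = 1) (hτ : ∀ v, τ v = 1 ∨ τ v = -1)
    (hcol : ∀ η ∈ c, ∀ v : P, v ≠ 1 → (ε η : ℂ) * coef p M e (I η : G → ℂ) (v : G) =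
      (τ v : ℂ) * coef p M a (η : H → ℂ) (σ v : H)) :
    Cfsg.IsPerfectIsometry p M c B I ε := by
  classical
  haveI := Fintype.ofFinite P
  haveI := Fintype.ofFinite A
  haveI := Fintype.ofFinite G
  haveI := Fintype.ofFinite H
  refine ⟨hI, hε, fun x y => ?_⟩
  obtain ⟨η₀, hη₀⟩ := block_nonempty hM hmax'.1.2.1
  haveI : Nonempty (Cfsg.IrrCharacter H) := ⟨η₀⟩
  set J := Function.invFunOn I c with hJ
  have hJc : ∀ χ ∈ B, J χ ∈ c ∧ I (J χ) = χ := fun χ hχ =>
    ⟨Function.invFunOn_mem (hI.surjOn hχ), Function.invFunOn_eq (hI.surjOn hχ)⟩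
  have hkey : ∀ (x : G) (y : H), Cfsg.signedBijectionKernel c I ε x y =
      (∑ η ∈ Finset.univ.filter (fun η => η ∈ c),
        ((ε η : ℂ) * (I η : G → ℂ) x) * (η : H → ℂ) y) ∧
      Cfsg.signedBijectionKernel c I ε x y =
      ∑ χ ∈ Finset.univ.filter (fun χ => χ ∈ B),
        ((ε (J χ) : ℂ) * (J χ : H → ℂ) y) * (χ : G → ℂ) x := by
    intro x y
    have h1 : Cfsg.signedBijectionKernel c I ε x y = ∑ η ∈ Finset.univ.filter (fun η => η ∈ c),
        ((ε η : ℂ) * (I η : G → ℂ) x) * (η : H → ℂ) y := by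
      rw [Cfsg.signedBijectionKernel, ZStar.Principal.finsum_mem_eq_sum_filter]
    refine ⟨h1, h1.trans (Finset.sum_bij' (fun η _ => I η) (fun χ _ => J χ) ?_ ?_ ?_ ?_ ?_)⟩
    · exact fun η hη => Finset.mem_filter.2 ⟨Finset.mem_univ _, hI.mapsTo (Finset.mem_filter.1 hη).2⟩
    · exact fun χ hχ => Finset.mem_filter.2 ⟨Finset.mem_univ _, (hJc χ (Finset.mem_filter.1 hχ).2).1⟩
    · exact fun η hη => hI.injOn.leftInvOn_invFunOn (Finset.mem_filter.1 hη).2
    · exact fun χ hχ => (hJc χ (Finset.mem_filter.1 hχ).2).2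
    · intro η hη
      rw [show J (I η) = η from hI.injOn.leftInvOn_invFunOn (Finset.mem_filter.1 hη).2]
      ring
  -- the side of `H`
  have side1 : ∀ (x : G) (y : H), p ∣ orderOf x →
      (¬ p ∣ orderOf y → Cfsg.signedBijectionKernel c I ε x y = 0) ∧
      Cfsg.MemLocalRing M (Cfsg.signedBijectionKernel c I ε x y /
        (Nat.card (Subgroup.centralizer ({y} : Set H)) : ℂ)) := by
    intro x y hx
    obtain ⟨k, hk, hk1, hkv⟩ := exists_value_comb hM hmax hab hfree hx
    rw [(hkey x y).1]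
    refine comb_pairing hM hmax' hab' hfree' (fun w => ∑ v ∈ Finset.univ.filter (fun v => σ v = w),
        (τ v : ℂ) * k v)
      (fun w => ring_sum hM fun v _ => ring_mul hM (ring_intCast hM _) (hk v))
      (Finset.sum_eq_zero fun v hv => by
        rw [(hσ1 v).1 (Finset.mem_filter.1 hv).2, hk1, mul_zero])
      (fun η => (ε η : ℂ) * (I η : G → ℂ) x) (fun η hη => ?_) y
    rw [hkv _ (hI.mapsTo hη), Finset.mul_sum, ← Finset.sum_fiberwise Finset.univ σ]
    refine Finset.sum_congr rfl fun w _ => ?_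
    rw [Finset.sum_mul]
    refine Finset.sum_congr rfl fun v hv => ?_
    rcases eq_or_ne v 1 with rfl | hv1
    · rw [hk1]; ring
    rw [← (Finset.mem_filter.1 hv).2]
    linear_combination k v * hcol η hη v hv1
  -- the side of `G`
  have side2 : ∀ (x : G) (y : H), p ∣ orderOf y →
      (¬ p ∣ orderOf x → Cfsg.signedBijectionKernel c I ε x y = 0) ∧
      Cfsg.MemLocalRing M (Cfsg.signedBijectionKernel c I ε x y /
        (Nat.card (Subgroup.centralizer ({x} : Set G)) : ℂ)) := by
    intro x y hy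
    obtain ⟨k, hk, hk1, hkv⟩ := exists_value_comb hM hmax' hab' hfree' hy
    choose ρ hρ using hσ
    have hρ1 : ρ 1 = 1 := (hσ1 _).1 (hρ 1)
    rw [(hkey x y).2]
    refine comb_pairing hM hmax hab hfree (fun v => ∑ w ∈ Finset.univ.filter (fun w => ρ w = v),
        (τ v : ℂ) * k w)
      (fun v => ring_sum hM fun w _ => ring_mul hM (ring_intCast hM _) (hk w))
      (Finset.sum_eq_zero fun w hw => by
        have h := (Finset.mem_filter.1 hw).2
        rw [show w = 1 by rw [← hρ w, h]; exact (hσ1 1).2 rfl, hk1, mul_zero])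
      (fun χ => (ε (J χ) : ℂ) * (J χ : H → ℂ) y) (fun χ hχ => ?_) x
    obtain ⟨hJm, hIJ⟩ := hJc χ hχ
    rw [hkv _ hJm, Finset.mul_sum, ← Finset.sum_fiberwise Finset.univ ρ]
    refine Finset.sum_congr rfl fun v _ => ?_
    rw [Finset.sum_mul]
    refine Finset.sum_congr rfl fun w hw => ?_
    have hwv := (Finset.mem_filter.1 hw).2
    rcases eq_or_ne w 1 with rfl | hw1
    · rw [hk1]; ring
    have hv1 : v ≠ 1 := fun h => hw1 (by rw [← hρ w, hwv]; exact (hσ1 v).2 h)
    have h := hcol _ hJm v hv1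
    rw [hIJ, show σ v = w by rw [← hwv]; exact hρ w] at h
    have he2 : (ε (J χ) : ℂ) * (ε (J χ) : ℂ) = 1 := by
      rcases hε _ hJm with e1 | e1 <;> rw [e1] <;> norm_num
    have ht2 : (τ v : ℂ) * (τ v : ℂ) = 1 := by
      rcases hτ v with e1 | e1 <;> rw [e1] <;> norm_num
    linear_combination (-(k w) * (ε (J χ) : ℂ) * (τ v : ℂ)) * h +
      (k w * (τ v : ℂ) * coef p M e (χ : G → ℂ) (v : G)) * he2 -
      (k w * (ε (J χ) : ℂ) * coef p M a (J χ : H → ℂ) (w : H)) * ht2
  by_cases hx : p ∣ orderOf x <;> by_cases hy : p ∣ orderOf y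
  · refine ⟨(side2 x y hy).2, (side1 x y hx).2, Or.inl ?_⟩
    simp [Cfsg.IsPRegular, hx, hy]
  · have h0 := (side1 x y hx).1 hy
    exact ⟨by rw [h0, zero_div]; exact ring_zero hM, by rw [h0, zero_div]; exact ring_zero hM,
      Or.inr h0⟩
  · have h0 := (side2 x y hy).1 hx
    exact ⟨by rw [h0, zero_div]; exact ring_zero hM, by rw [h0, zero_div]; exact ring_zero hM,
      Or.inr h0⟩
  · refine ⟨?_, ?_, Or.inl (by simp [Cfsg.IsPRegular, hx, hy])⟩
    · rw [(hkey x y).2]
      refine regular_div_ring hM _ (fun χ => ring_mul hM (ring_intCast hM _)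
        (ring_of_isIntegral hM (char_value_isIntegral (irr_isCharacter _) _))) (fun g hg => ?_) hx
      rw [← (hkey g y).2]
      exact (side1 g y hg).1 hy
    · rw [(hkey x y).1]
      refine regular_div_ring hM _ (fun η => ring_mul hM (ring_intCast hM _)
        (ring_of_isIntegral hM (char_value_isIntegral (irr_isCharacter _) _))) (fun g hg => ?_) hy
      rw [← (hkey x g).1]
      exact (side2 x g hg).1 hx

end Cfsg.Agent.Blocks.Star
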