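import Mathlib
import Cfsg.Agent.Lib.Blocks.Star.Watanabe

/-!
# Linear characters of a finite abelian group with values in the complex numbers
-/

set_option linter.style.haveILetI false
set_option linter.unusedSectionVars false

namespace Cfsg.Agent.Blocks.Star

open scoped ComplexConjugate

universe u

variable {A : Type u} [Group A] [Finite A]

theorem finite_dual (hcomm : ∀ a b : A, a * b = b * a) : Finite (A →* ℂ) := by
  letI : CommGroup A := { ‹Group A› with mul_comm := hcomm }
  haveI : Finite (A →* ℂˣ) := Finite.of_equiv _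
    (CommGroup.monoidHom_mulEquiv_of_hasEnoughRootsOfUnity A ℂ).some.toEquiv.symm
  exact Finite.of_equiv _ (MonoidHom.toHomUnitsMulEquiv (G := A) (M := ℂ)).toEquiv.symm

theorem card_dual (hcomm : ∀ a b : A, a * b = b * a) : Nat.card (A →* ℂ) = Nat.card A := by
  letI : CommGroup A := { ‹Group A› with mul_comm := hcomm }
  rw [Nat.card_congr (MonoidHom.toHomUnitsMulEquiv (G := A) (M := ℂ)).toEquiv]
  exact CommGroup.card_monoidHom_of_hasEnoughRootsOfUnity A ℂ

/-- The second orthogonality relation. -/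
theorem sum_dual_apply (hcomm : ∀ a b : A, a * b = b * a) [Fintype (A →* ℂ)] (a : A)
    [Decidable (a = 1)] : ∑ μ : A →* ℂ, μ a = if a = 1 then (Nat.card A : ℂ) else 0 := by
  letI : CommGroup A := { ‹Group A› with mul_comm := hcomm }
  haveI : Finite (A →* ℂˣ) := Finite.of_equiv _
    (CommGroup.monoidHom_mulEquiv_of_hasEnoughRootsOfUnity A ℂ).some.toEquiv.symm
  haveI := Fintype.ofFinite (A →* ℂˣ)
  have e : ∑ μ : A →* ℂ, μ a = ∑ φ : A →* ℂˣ, (φ a : ℂ) :=
    Fintype.sum_equiv (MonoidHom.toHomUnitsMulEquiv (G := A) (M := ℂ)).toEquiv _ _ fun μ => rfl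
  rw [e]
  split_ifs with h
  · subst h
    simp only [map_one, Units.val_one, Finset.sum_const, Finset.card_univ, nsmul_eq_mul, mul_one,
      ← Nat.card_eq_fintype_card]
    rw [CommGroup.card_monoidHom_of_hasEnoughRootsOfUnity]
  · exact sum_linear_apply h

variable [Fintype A]

theorem sum_hom_zero {μ : A →* ℂ} (h : μ ≠ 1) : ∑ a, μ a = 0 := by
  obtain ⟨b, hb⟩ : ∃ b, μ b ≠ 1 := by
    by_contra hc
    push Not at hc
    exact h (MonoidHom.ext hc)
  have e : μ b * ∑ a, μ a = ∑ a, μ a := by
    rw [Finset.mul_sum]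
    exact Fintype.sum_equiv (Equiv.mulLeft b) _ _ fun a => (map_mul μ b a).symm
  exact (mul_left_eq_self₀.1 e).resolve_left hb

/-- The first orthogonality relation. -/
theorem sum_hom_conj (μ ν : A →* ℂ) [Decidable (μ = ν)] :
    ∑ a, μ a * conj (ν a) = if μ = ν then (Nat.card A : ℂ) else 0 := by
  set χ : A →* ℂ :=
    { toFun := fun a => μ a * conj (ν a)
      map_one' := by simp
      map_mul' := fun a b => by simp [mul_mul_mul_comm] } with hχ
  have hun : ∀ a, ν a * conj (ν a) = 1 := fun a => by
    rw [conj_linear, ← map_mul, mul_inv_cancel, map_one]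
  split_ifs with h
  · subst h
    simp only [hun, Finset.sum_const, Finset.card_univ, nsmul_eq_mul, mul_one,
      Nat.card_eq_fintype_card]
  · refine sum_hom_zero (μ := χ) fun h1 => h (MonoidHom.ext fun a => ?_)
    have h2 : μ a * conj (ν a) = 1 := DFunLike.congr_fun h1 a
    calc μ a = μ a * (ν a * conj (ν a)) := by rw [hun, mul_one]
      _ = ν a := by rw [mul_left_comm, h2, mul_one]

end Cfsg.Agent.Blocks.Star
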