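import Mathlib

/-!
# Counting rows of integral vectors with Gram matrix `e J + I`

An integral matrix with non-zero rows, invariant under a free action on its columns and with the
column Gram matrix of a free inertial quotient, has at most `n + e` rows; for `e = 2, 3` exactly
`n + e` apart from a few small configurations.
-/

set_option linter.style.haveILetI false
set_option linter.unusedSectionVars false

namespace Cfsg.Agent.Blocks.Star.FreeCount

universe u v

/-- The bound on the number of rows. -/
theorem card_mul_le {ι : Type u} {D : Type v} [Fintype ι] [Fintype D] (x : ι → D → ℤ) {e : ℕ}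
    (he : e ≤ Fintype.card D) (hD : 0 < Fintype.card D)
    (hsupp : ∀ i, e ≤ (Finset.univ.filter fun d => x i d ≠ 0).card)
    (h2 : ∑ i, ∑ d, x i d ^ 2 = (Fintype.card D : ℤ) * (e + 1))
    (h1 : ∑ i, (∑ d, x i d) ^ 2 =
      (Fintype.card D : ℤ) * (Fintype.card D : ℤ) * e + (Fintype.card D : ℤ) * e) :
    Fintype.card ι * e ≤ Fintype.card D + e * e := by
  classical
  set N := Fintype.card D
  have hrow : ∀ i, (e : ℤ) * N ≤ ((N : ℤ) + e) * ∑ d, x i d ^ 2 - (∑ d, x i d) ^ 2 := by
    intro i
    set s := Finset.univ.filter fun d => x i d ≠ 0 with hs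
    have e1 : ∑ d, x i d = ∑ d ∈ s, x i d := (Finset.sum_filter_ne_zero _).symm
    have e2 : ∑ d, x i d ^ 2 = ∑ d ∈ s, x i d ^ 2 := by
      rw [hs, Finset.sum_filter]
      exact Finset.sum_congr rfl fun d _ => by
        by_cases h : x i d = 0 <;> simp [h]
    have hcs : (∑ d ∈ s, x i d) ^ 2 ≤ (s.card : ℤ) * ∑ d ∈ s, x i d ^ 2 :=
      sq_sum_le_card_mul_sum_sq
    have hlow : (s.card : ℤ) ≤ ∑ d ∈ s, x i d ^ 2 := by
      have h := Finset.card_nsmul_le_sum s (fun d => x i d ^ 2) 1 fun d hd => by
        have := sq_pos_of_ne_zero (Finset.mem_filter.1 hd).2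
        omega
      simpa using h
    have hr : (e : ℤ) ≤ s.card := Int.ofNat_le.2 (hsupp i)
    have hN : (s.card : ℤ) ≤ N := Int.ofNat_le.2 (Finset.card_le_univ s)
    rw [e1, e2]
    nlinarith [mul_nonneg (sub_nonneg.2 hr) (sub_nonneg.2 hN),
      mul_le_mul_of_nonneg_left hlow
        (show (0 : ℤ) ≤ (N : ℤ) + e - s.card by linarith [(Nat.cast_nonneg e : (0 : ℤ) ≤ e)])]
  have h := Finset.sum_le_sum fun i (_ : i ∈ Finset.univ) => hrow i
  rw [Finset.sum_const, Finset.card_univ, nsmul_eq_mul, Finset.sum_sub_distrib, ← Finset.mul_sum,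
    h2, h1] at h
  have key : ((Fintype.card ι * e : ℕ) : ℤ) * (N : ℤ) ≤ ((N + e * e : ℕ) : ℤ) * (N : ℤ) := by
    push_cast
    nlinarith [h]
  exact Int.ofNat_le.1 (le_of_mul_le_mul_right key (Int.natCast_pos.2 hD))

/-- Sets of `e + 1` points pairwise meeting in `e` points. -/
theorem sunflower {I : Type u} {α : Type v} [Fintype I] [Fintype α] [DecidableEq α]
    (S : I → Finset α) {e : ℕ} (hc : ∀ i, (S i).card = e + 1)
    (hi : ∀ i j, i ≠ j → (S i ∩ S j).card = e) (hcov : ∀ a, ∃ i, a ∈ S i)
    (hI : 2 ≤ Fintype.card I) :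
    Fintype.card α = Fintype.card I + e ∨ (Fintype.card α ≤ e + 2 ∧ 3 ≤ Fintype.card I) := by
  classical
  obtain ⟨i, j, hij⟩ := Fintype.exists_pair_of_one_lt_card (by omega : 1 < Fintype.card I)
  set W := S i ∩ S j with hW
  set U := S i ∪ S j with hU
  have hWc : W.card = e := hi i j hij
  have hUc : U.card = e + 2 := by
    have h := Finset.card_union_add_card_inter (S i) (S j)
    rw [hc, hc, hi i j hij, ← hU] at h
    omega
  by_cases hall : ∀ l, S l ⊆ U
  · have hk : Fintype.card α ≤ e + 2 := by
      rw [← hUc]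
      exact Finset.card_le_card fun a _ => (hcov a).elim fun l hl => hall l hl
    by_cases h3 : 3 ≤ Fintype.card I
    · exact Or.inr ⟨hk, h3⟩
    · left
      have := Finset.card_le_univ U
      omega
  push Not at hall
  obtain ⟨l₀, hl₀⟩ := hall
  have hsub : ∀ l w, w ∈ W → w ∉ S l → S l ⊆ U := by
    intro l w hw hwl
    obtain ⟨hwi, hwj⟩ := Finset.mem_inter.1 hw
    have key : ∀ m, w ∈ S m → (S m).erase w ⊆ S l := fun m hm => by
      have hne : l ≠ m := fun h => hwl (h ▸ hm)
      have h1 : S l ∩ S m ⊆ (S m).erase w := fun a ha => by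
        obtain ⟨h1, h2⟩ := Finset.mem_inter.1 ha
        exact Finset.mem_erase.2 ⟨fun h => hwl (h ▸ h1), h2⟩
      have h2 : S l ∩ S m = (S m).erase w := Finset.eq_of_subset_of_card_le h1 (by
        rw [Finset.card_erase_of_mem hm, hc, hi l m hne]
        omega)
      rw [← h2]
      exact Finset.inter_subset_left
    have h3 : U.erase w ⊆ S l := fun a ha => by
      obtain ⟨haw, ha⟩ := Finset.mem_erase.1 ha
      rcases Finset.mem_union.1 ha with h | h
      · exact key i hwi (Finset.mem_erase.2 ⟨haw, h⟩)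
      · exact key j hwj (Finset.mem_erase.2 ⟨haw, h⟩)
    rw [← Finset.eq_of_subset_of_card_le h3 (by
      rw [Finset.card_erase_of_mem (Finset.mem_union_left _ hwi), hUc, hc]
      omega)]
    exact Finset.erase_subset _ _
  have hW0 : W ⊆ S l₀ := fun w hw => by_contra fun h => hl₀ (hsub l₀ w hw h)
  obtain ⟨c, hc₀, hcU⟩ := Finset.not_subset.1 hl₀
  have hl₀eq : S l₀ = insert c W := by
    refine (Finset.eq_of_subset_of_card_le (Finset.insert_subset hc₀ hW0) ?_).symm
    rw [Finset.card_insert_of_notMem fun h => hcU (Finset.mem_union_left _ (Finset.mem_inter.1 h).1),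
      hc, hWc]
  have hcore : ∀ l, W ⊆ S l := by
    intro l w hw
    by_contra hwl
    have hlU := hsub l w hw hwl
    have hne : l ≠ l₀ := fun h => hl₀ (h ▸ hlU)
    have h1 : S l ∩ S l₀ ⊆ W.erase w := fun a ha => by
      obtain ⟨ha1, ha2⟩ := Finset.mem_inter.1 ha
      rw [hl₀eq] at ha2
      rcases Finset.mem_insert.1 ha2 with rfl | h
      · exact absurd (hlU ha1) hcU
      · exact Finset.mem_erase.2 ⟨fun e => hwl (e ▸ ha1), h⟩
    have h2 := Finset.card_le_card h1
    rw [hi l l₀ hne, Finset.card_erase_of_mem hw, hWc] at h2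
    have := Finset.card_pos.2 ⟨w, hw⟩
    omega
  left
  have hx : ∀ l, (S l \ W).card = 1 := fun l => by
    have h := Finset.card_sdiff_add_card_eq_card (hcore l)
    rw [hc, hWc] at h
    omega
  have hex : ∀ l, ∃ x, S l \ W = {x} := fun l => Finset.card_eq_one.1 (hx l)
  choose x hx' using hex
  have hmem : ∀ l, x l ∈ S l ∧ x l ∉ W := fun l =>
    Finset.mem_sdiff.1 ((hx' l).ge (Finset.mem_singleton_self _))
  have himg : (Finset.univ : Finset α) \ W = Finset.univ.image x := by
    ext a
    constructor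
    · intro ha
      obtain ⟨l, hl⟩ := hcov a
      have : a ∈ S l \ W := Finset.mem_sdiff.2 ⟨hl, (Finset.mem_sdiff.1 ha).2⟩
      rw [hx' l, Finset.mem_singleton] at this
      exact Finset.mem_image.2 ⟨l, Finset.mem_univ _, this.symm⟩
    · intro ha
      obtain ⟨l, -, rfl⟩ := Finset.mem_image.1 ha
      exact Finset.mem_sdiff.2 ⟨Finset.mem_univ _, (hmem l).2⟩
  have hinj : Function.Injective x := by
    intro l l' h
    by_contra hne
    have h1 : insert (x l) W ⊆ S l ∩ S l' :=
      Finset.insert_subset (Finset.mem_inter.2 ⟨(hmem l).1, h ▸ (hmem l').1⟩)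
        fun w hw => Finset.mem_inter.2 ⟨hcore l hw, hcore l' hw⟩
    have h2 := Finset.card_le_card h1
    rw [hi l l' hne, Finset.card_insert_of_notMem (hmem l).2, hWc] at h2
    omega
  have h := Finset.card_sdiff_add_card_eq_card (Finset.subset_univ W)
  rw [himg, Finset.card_image_of_injective _ hinj, Finset.card_univ, Finset.card_univ, hWc] at h
  omega

/-- Vectors of squared length `e + 1` with mutual products `e`, for `e = 2, 3`. -/
theorem gram_rows {I : Type u} {α : Type v} [Fintype I] [Fintype α] [DecidableEq I]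
    (c : I → α → ℤ) {e : ℕ} (he : e = 2 ∨ e = 3)
    (hg : ∀ i j, ∑ a, c i a * c j a = (e : ℤ) + if i = j then 1 else 0)
    (hcov : ∀ a, ∃ i, c i a ≠ 0) (hI : 1 ≤ Fintype.card I) :
    Fintype.card α = Fintype.card I + e ∨ (Fintype.card α ≤ e + 2 ∧ 3 ≤ Fintype.card I) ∨
      (Fintype.card α = 1 ∧ Fintype.card I = 1) := by
  classical
  have hn : ∀ i, ∑ a, c i a ^ 2 = (e : ℤ) + 1 := fun i => by
    have h := hg i i
    rw [if_pos rfl] at h
    rw [← h]
    exact Finset.sum_congr rfl fun a _ => sq (c i a)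
  by_cases hbig : ∃ i a, 2 ≤ |c i a|
  · obtain ⟨i, a, ha⟩ := hbig
    have h4 : 4 ≤ c i a ^ 2 := by rw [← sq_abs]; nlinarith
    have hrest := Finset.sum_erase_add Finset.univ (fun b => c i b ^ 2) (Finset.mem_univ a)
    rw [hn i] at hrest
    have hnn : 0 ≤ ∑ b ∈ Finset.univ.erase a, c i b ^ 2 := Finset.sum_nonneg fun b _ => sq_nonneg _
    have hs : c i a ^ 2 = 4 ∧ ∑ b ∈ Finset.univ.erase a, c i b ^ 2 = 0 := by
      rcases he with rfl | rfl <;> omega
    have hz : ∀ b, b ≠ a → c i b = 0 := fun b hb =>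
      pow_eq_zero_iff two_ne_zero |>.1 ((Finset.sum_eq_zero_iff_of_nonneg
        fun b _ => sq_nonneg _).1 hs.2 b (Finset.mem_erase.2 ⟨hb, Finset.mem_univ _⟩))
    have he3 : e = 3 := by
      rcases he with rfl | rfl
      · exfalso; omega
      · rfl
    have hI1 : Fintype.card I = 1 := by
      by_contra hne
      obtain ⟨l, hl⟩ : ∃ l, l ≠ i := Fintype.exists_ne_of_one_lt_card (by omega) i
      have h := hg i l
      rw [if_neg (Ne.symm hl), Finset.sum_eq_single a (fun b _ hb => by rw [hz b hb, zero_mul])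
        (fun h => absurd (Finset.mem_univ a) h), he3] at h
      have hsq : (c i a).natAbs = 2 := by
        have h1 : (c i a).natAbs ^ 2 = 4 := by
          have := hs.1
          rw [← Int.natAbs_pow_two] at this
          exact_mod_cast this
        nlinarith
      have h2 := congrArg Int.natAbs h
      rw [Int.natAbs_mul, hsq] at h2
      simp at h2
      omega
    refine Or.inr (Or.inr ⟨?_, hI1⟩)
    haveI : Subsingleton I := Fintype.card_le_one_iff_subsingleton.1 hI1.le
    refine Fintype.card_eq_one_iff.2 ⟨a, fun b => ?_⟩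
    obtain ⟨l, hl⟩ := hcov b
    rw [Subsingleton.elim l i] at hl
    exact by_contra fun h => hl (hz b h)
  push Not at hbig
  set S : I → Finset α := fun i => Finset.univ.filter fun a => c i a ≠ 0 with hS
  have hone : ∀ i a, c i a ≠ 0 → c i a = 1 ∨ c i a = -1 := fun i a h => by
    have := abs_lt.1 (hbig i a)
    omega
  have hcard : ∀ i, (S i).card = e + 1 := fun i => by
    have h : ((S i).card : ℤ) = ∑ a, c i a ^ 2 := by
      rw [Finset.card_eq_sum_ones, Nat.cast_sum, hS, Finset.sum_filter]
      refine Finset.sum_congr rfl fun a _ => ?_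
      by_cases h : c i a = 0
      · simp [h]
      · rcases hone i a h with e | e <;> simp [e]
    rw [hn i] at h
    exact_mod_cast h
  have hinter : ∀ i j, i ≠ j → (S i ∩ S j).card = e := fun i j hij => by
    have h := hg i j
    rw [if_neg hij, add_zero] at h
    have hsum : ∑ a, c i a * c j a = ∑ a ∈ S i ∩ S j, c i a * c j a := by
      refine (Finset.sum_subset (Finset.subset_univ _) fun a _ ha => ?_).symm
      simp only [hS, Finset.mem_inter, Finset.mem_filter, Finset.mem_univ, true_and] at ha
      by_cases h1 : c i a = 0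
      · rw [h1, zero_mul]
      · rw [not_not.1 fun h2 => ha ⟨h1, h2⟩, mul_zero]
    have hterm : ∀ a ∈ S i ∩ S j, c i a * c j a = 1 ∨ c i a * c j a = -1 := fun a ha => by
      simp only [hS, Finset.mem_inter, Finset.mem_filter, Finset.mem_univ, true_and] at ha
      rcases hone i a ha.1 with e | e <;> rcases hone j a ha.2 with e' | e' <;> simp [e, e']
    have hle : (e : ℤ) ≤ (S i ∩ S j).card := by
      rw [← h, hsum]
      have := Finset.sum_le_card_nsmul (S i ∩ S j) (fun a => c i a * c j a) 1 fun a ha => by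
        rcases hterm a ha with e | e <;> simp [e]
      simpa using this
    have heven : (2 : ℤ) ∣ ((S i ∩ S j).card : ℤ) - e := by
      rw [← h, hsum, Finset.card_eq_sum_ones, Nat.cast_sum, ← Finset.sum_sub_distrib]
      exact Finset.dvd_sum fun a ha => by rcases hterm a ha with e | e <;> simp [e]
    have hub := Finset.card_le_card (Finset.inter_subset_left (s₁ := S i) (s₂ := S j))
    rw [hcard] at hub
    omega
  rcases Nat.lt_or_ge 1 (Fintype.card I) with h2 | h2
  · rcases sunflower S hcard hinter (fun a => (hcov a).imp fun i hi => by simp [hS, hi]) h2 with h | h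
    · exact Or.inl h
    · exact Or.inr (Or.inl h)
  · left
    have hI1 : Fintype.card I = 1 := by omega
    haveI : Subsingleton I := Fintype.card_le_one_iff_subsingleton.1 h2
    obtain ⟨i, -⟩ := Fintype.card_eq_one_iff.1 hI1
    have : S i = Finset.univ := Finset.eq_univ_of_forall fun a => by
      obtain ⟨l, hl⟩ := hcov a
      rw [Subsingleton.elim l i] at hl
      simp [hS, hl]
    have h := hcard i
    rw [this, Finset.card_univ] at h
    omega

end Cfsg.Agent.Blocks.Star.FreeCount
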