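import Mathlib
import Cfsg.Agent.Lib.Blocks.Star.Anchor
import Cfsg.Agent.Lib.Blocks.Star.Dual
import Cfsg.Agent.Lib.Blocks.Star.FreeCount

/-!
# Blocks with abelian defect group and free inertial quotient

The Fourier coefficients of the signed coefficient functions are integers; their Gram matrix over
the non-trivial linear characters of the defect group is `e J` plus the inertial orbits.
-/

set_option linter.style.haveILetI false
set_option linter.unusedSectionVars false

namespace Cfsg.Agent.Blocks.Star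

open Cfsg.Agent.Blocks Cfsg.Agent.Characters Cfsg.Agent.BlockCharsA
open Cfsg.Agent.BlockCharsA.BrauerPairs Cfsg.Agent.BlockCharsA.PairConj
open Cfsg.Agent.BlockCharsA.PairLocal Cfsg.Agent.BlockCharsA.PairFusion
open MonoidAlgebra
open scoped ComplexConjugate

universe u

variable {G : Type u} [Group G] [Finite G] {p : ℕ} {M : Ideal Cfsg.AlgInt}
  {B : Set (Cfsg.IrrCharacter G)} {P : Subgroup G}
  {e : Set (Cfsg.IrrCharacter (Subgroup.centralizer (P : Set G)))}

/-- A linear character moved by an automorphism. -/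
noncomputable def dact (μ : P →* ℂ) (β : MulAut P) : P →* ℂ := μ.comp β.toMonoidHom

theorem dact_apply (μ : P →* ℂ) (β : MulAut P) (v : P) : dact μ β v = μ (β v) := rfl

theorem dact_one (μ : P →* ℂ) : dact μ 1 = μ := rfl

theorem dact_dact (μ : P →* ℂ) (β γ : MulAut P) : dact (dact μ β) γ = dact μ (β * γ) := rfl

theorem dact_ne_one {μ : P →* ℂ} (h : μ ≠ 1) (β : MulAut P) : dact μ β ≠ 1 := fun h1 =>
  h (MonoidHom.ext fun v => by
    have := DFunLike.congr_fun h1 (β.symm v)
    rwa [dact_apply, MulEquiv.apply_symm_apply] at this)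

/-- The dual action is free. -/
theorem Frees.dual_eq_one (hfree : Frees P e) (hab : ∀ x ∈ P, ∀ y ∈ P, x * y = y * x)
    {μ : P →* ℂ} (hμ : μ ≠ 1) {β : MulAut P} (hβ : β ∈ inertR P e) (h : dact μ β = μ) : β = 1 := by
  by_contra hne
  refine hμ (MonoidHom.ext fun v => ?_)
  have hcomm : ∀ a b : P, a * b = b * a := fun a b => Subtype.ext (hab a a.2 b b.2)
  have hinj : Function.Injective fun w : P => w⁻¹ * β w := by
    intro a b hab'
    by_contra hne'
    have h1 : a * b⁻¹ ≠ 1 := fun e => hne' (mul_inv_eq_one.1 e)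
    refine hne (hfree.eq_one hβ h1 ?_)
    have e1 : a⁻¹ * β a = b⁻¹ * β b := hab'
    rw [map_mul, map_inv]
    calc β a * (β b)⁻¹ = a * (a⁻¹ * β a) * (β b)⁻¹ := by rw [mul_inv_cancel_left]
      _ = a * b⁻¹ := by rw [e1, mul_assoc, mul_assoc, mul_inv_cancel, mul_one]
  obtain ⟨w, rfl⟩ := (Finite.injective_iff_surjective.1 hinj) v
  show μ (w⁻¹ * β w) = 1
  rw [map_mul, ← dact_apply, h, ← map_mul, inv_mul_cancel, map_one]

/-- At a moved element the orbit has the order of the inertial quotient. -/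
theorem Frees.card_orb (hfree : Frees P e) (hab : ∀ x ∈ P, ∀ y ∈ P, x * y = y * x) {v : P}
    (hv : v ≠ 1) : Nat.card (orbS p M P e (v : G)) = Nat.card (inertR P e) := by
  have hCP : Subgroup.centralizer (P : Set G) ≤ CU (v : G) :=
    centralizer_le_centralizer (Subgroup.zpowers_le.2 v.2)
  rw [card_orbS, card_inertR, ← Subgroup.inf_relIndex_right (CU (v : G)),
    ← Subgroup.inf_relIndex_right (Subgroup.centralizer (P : Set G))]
  congr 1
  exact le_antisymm (fun x hx => ⟨hfree.freeAt hv x hx.2 hx.1, hx.2⟩) (inf_le_inf_right _ hCP)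

theorem brauerPair_of_witness (hM : Cfsg.IsPModular p M) (hmax : Cfsg.IsMaximalBrauerPair p M B P e)
    {u : G} (hu : ∃ k : ℕ, orderOf u = p ^ k) {g : Set (Cfsg.IrrCharacter (CU u))}
    (hg : Cfsg.IsPBlock M g) {η : P → ℂ} (h : hat p M e η u (elF (CU u) g) ≠ 0) :
    Cfsg.IsBrauerPairOf p M B (Subgroup.zpowers u) g :=
  (witness_iff hM hmax hu hg).1 (by_contra fun hn => h (hat_of_not hn))

variable [Fintype G] [Fintype (Cfsg.IrrCharacter G)]

/-- The product with a stable function is a class function. -/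
theorem isClassFunction_star_stable (hM : Cfsg.IsPModular p M) {η : P → ℂ}
    (hη : Stable p M e η) {χ : G → ℂ} (hχ : Cfsg.IsClassFunction G χ) :
    Cfsg.IsClassFunction G (star hM (wt p M e η) χ) := by
  intro g a
  rw [star_eq hM _ χ (isPPart_conj (isPPart_ppt hM g) a), wt_conj hM hη, ← cjE_single, ← cjE_mul,
    evalChar_cjE hχ, star]

/-- Characters outside the block do not meet the products. -/
theorem classInner_star_outside (hM : Cfsg.IsPModular p M)
    (hmax : Cfsg.IsMaximalBrauerPair p M B P e) (η : P → ℂ) {f : G → ℂ}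
    (hf : Cfsg.IsClassFunction G f) {ψ : Cfsg.IrrCharacter G} (hψ : ψ ∉ B) :
    Cfsg.classInner (star hM (wt p M e η) f) (ψ : G → ℂ) = 0 := by
  rw [classInner_def, sum_sections hM.1, Finset.sum_eq_zero, mul_zero]
  intro u hu
  have hk := mem_pEls.1 hu
  rw [Finset.sum_congr rfl (g := fun s => (∑ ε ∈ BI M u, hat p M e η u ε * th f u ε s) *
    conj (∑ ε ∈ BI M u, (1 : ℂ) * th (ψ : G → ℂ) u ε s))]
  · rw [sum_mul_sum_reg hM hf (irr_isClassFunction ψ) u (hat p M e η u) (fun _ => (1 : ℂ))]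
    refine Finset.sum_eq_zero fun ε hε => ?_
    obtain ⟨g, hg, rfl⟩ := mem_BI.1 hε
    by_cases h : hat p M e η u (elF (CU u) g) = 0
    · rw [h, zero_mul, zero_mul]
    · have hB := brauerPair_of_witness hM hmax hk hg h
      rw [pairing, Finset.sum_eq_zero fun s hs => ?_, mul_zero]
      rw [th_eq_zero hM (isPBlock_blockOf M ψ) (mem_blockOf_self hM ψ) hk hg
        (fun h' => hψ (by rw [brauerPairOf_unique hM hB h']; exact mem_blockOf_self hM ψ)) hs,
        map_zero, mul_zero]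
  · intro s hs
    rw [star_mul_wt hM η f hk hs, eq_sum_th hM (ψ : G → ℂ)]
    simp only [one_mul]

/-- The inner products of the products, through the coefficients. -/
theorem classInner_star_coef (hM : Cfsg.IsPModular p M)
    (hmax : Cfsg.IsMaximalBrauerPair p M B P e) (hab : ∀ x ∈ P, ∀ y ∈ P, x * y = y * x)
    (hfree : Frees P e) [Fintype P] {η η' : P → ℂ} (hη : Stable p M e η)
    (hη' : Stable p M e η') (h1 : η 1 = 0) {f f' : G → ℂ} (hf : Cfsg.IsClassFunction G f)
    (hf' : Cfsg.IsClassFunction G f') :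
    (Nat.card (inertR P e) : ℂ) * (Nat.card P : ℂ) *
      Cfsg.classInner (star hM (wt p M e η) f) (star hM (wt p M e η') f') =
      ∑ v : P, η v * conj (η' v) *
        (coef p M e f (v : G) * conj (coef p M e f' (v : G))) := by
  rw [classInner_star_top hM hmax hη hη' hf hf', Finset.mul_sum]
  refine Finset.sum_congr rfl fun v _ => ?_
  rcases eq_or_ne v 1 with rfl | hv
  · simp [h1]
  have h := pairing_eq_coef hM hmax hab (hfree.freeAt hv) hf hf'
  rw [hfree.card_orb hab hv, eq_div_iff (Nat.cast_ne_zero.2 Nat.card_pos.ne')] at h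
  rw [← h]
  ring

variable (p M e) in
/-- The function attached to a linear character. -/
noncomputable def etaMu [Fintype (inertR P e)] (σ : P → ℂ) (f : G → ℂ) (μ : P →* ℂ) (v : P) : ℂ :=
  σ v * (∑ β : inertR P e, (μ ((β : MulAut P) v) - 1)) / coef p M e f (v : G)

/-- The integral matrix of a block with free inertial quotient. -/
theorem exists_matrix (hM : Cfsg.IsPModular p M) (hmax : Cfsg.IsMaximalBrauerPair p M B P e)
    (hab : ∀ x ∈ P, ∀ y ∈ P, x * y = y * x) (hP1 : P ≠ ⊥) (hfree : Frees P e) :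
    ∃ x : B → (P →* ℂ) → ℤ,
      (∀ ψ, x ψ 1 = 0) ∧
      (∀ ψ μ, ∀ β ∈ inertR P e, x ψ (dact μ β) = x ψ μ) ∧
      (∀ ψ, ∃ μ, x ψ μ ≠ 0) ∧
      ∀ [Fintype B] (μ ν : P →* ℂ), μ ≠ 1 → ν ≠ 1 → ∑ ψ : B, x ψ μ * x ψ ν =
        (Nat.card (inertR P e) : ℤ) + Nat.card {γ : inertR P e // dact ν γ = μ} := by
  classical
  haveI := fact_prime_of_pm hM
  haveI := Fintype.ofFinite P
  haveI := Fintype.ofFinite (inertR P e)
  have hA : IsPGroup p P := hmax.1.1.1
  have hcomm : ∀ a b : P, a * b = b * a := fun a b => Subtype.ext (hab a a.2 b b.2)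
  haveI := finite_dual hcomm
  haveI := Fintype.ofFinite (P →* ℂ)
  obtain ⟨σ, hσv, hσR, hgood⟩ := exists_good hM hmax hab hP1 hfree
  have hσ2 : ∀ v, σ v * σ v = 1 := fun v => by rcases hσv v with h | h <;> simp [h]
  have hσc : ∀ v, conj (σ v) = σ v := fun v => by rcases hσv v with h | h <;> simp [h]
  let F : B → P → ℂ := fun ψ v => σ v * coef p M e ((ψ : Cfsg.IrrCharacter G) : G → ℂ) (v : G)
  have hint : ∀ (ψ : B) (v : P), v ≠ 1 → IsIntegral ℤ (F ψ v) := fun ψ v _ => by
    have h := coef_isIntegral (e := e) hM (irr_isCharacter (ψ : Cfsg.IrrCharacter G)) (v : G)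
    rcases hσv v with e1 | e1 <;> simp only [F, e1, one_mul, neg_one_mul]
    exacts [h, h.neg]
  choose x hx using fun (ψ : B) (μ : P →* ℂ) =>
    (hgood ψ ψ.2).coord hM hcomm hA (hint ψ) μ
  have hP0 : (Nat.card P : ℂ) ≠ 0 := natCard_ne_zero
  have hβ1 : ∀ (β : MulAut P) {v : P}, v ≠ 1 → β v ≠ 1 := fun β v hv h =>
    hv (β.injective (h.trans (map_one β).symm))
  have hFR : ∀ (ψ : B) (β : MulAut P), β ∈ inertR P e → ∀ v : P, v ≠ 1 → F ψ (β v) = F ψ v :=
    fun ψ β hβ v hv => by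
      simp only [F, hσR β hβ, coef_inertR hM hmax hab hfree hβ hv (irr_isClassFunction _)]
  have hsumR : ∀ (ψ : B) (μ : P →* ℂ) (β : MulAut P), β ∈ inertR P e →
      ∑ v, conj (F ψ v) * (μ (β v) - 1) = ∑ v, conj (F ψ v) * (μ v - 1) := by
    intro ψ μ β hβ
    refine Fintype.sum_equiv β.toEquiv _ _ fun v => ?_
    rcases eq_or_ne v 1 with rfl | hv
    · simp
    · show _ = conj (F ψ (β v)) * (μ (β v) - 1)
      rw [hFR ψ β hβ v hv]
  refine ⟨x, fun ψ => ?_, fun ψ μ β hβ => ?_, fun ψ => ?_, ?_⟩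
  · refine Int.cast_injective (α := ℂ) (mul_left_cancel₀ hP0 ?_)
    rw [← hx ψ 1]
    simp [F]
  · refine Int.cast_injective (α := ℂ) (mul_left_cancel₀ hP0 ?_)
    rw [← hx, ← hx]
    simp only [dact_apply]
    exact hsumR ψ μ β hβ
  · by_contra hcon
    push Not at hcon
    obtain ⟨w, hw⟩ : ∃ w : P, w ≠ 1 := by
      obtain ⟨v, hv, hv1⟩ := P.bot_or_exists_ne_one.resolve_left hP1
      exact ⟨⟨v, hv⟩, fun h => hv1 (congrArg Subtype.val h)⟩
    have h0 : ∑ μ : P →* ℂ, μ w⁻¹ * ∑ v, conj (F ψ v) * (μ v - 1) = 0 :=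
      Finset.sum_eq_zero fun μ _ => by rw [hx ψ μ, hcon μ, Int.cast_zero, mul_zero, mul_zero]
    simp only [Finset.mul_sum] at h0
    rw [Finset.sum_comm, Finset.sum_congr rfl (g := fun v => if v = w then
      (Nat.card P : ℂ) * conj (F ψ v) else 0) fun v _ => ?_, Finset.sum_ite_eq',
      if_pos (Finset.mem_univ w)] at h0
    · simp only [mul_eq_zero, hP0, false_or, F, map_mul, map_eq_zero] at h0
      rcases h0 with h0 | h0
      · rcases hσv w with e1 | e1 <;> simp [e1] at h0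
      · exact coef_ne_zero hM hmax hab (hfree.freeAt hw) ψ.2 h0
    have hterm : ∀ μ : P →* ℂ, μ w⁻¹ * (conj (F ψ v) * (μ v - 1)) =
        conj (F ψ v) * (μ (w⁻¹ * v) - μ w⁻¹) := fun μ => by rw [map_mul μ]; ring
    simp only [hterm, ← Finset.mul_sum, Finset.sum_sub_distrib, sum_dual_apply hcomm, inv_eq_one,
      if_neg hw, sub_zero, inv_mul_eq_one]
    by_cases h : v = w
    · rw [if_pos h.symm, if_pos h, mul_comm]
    · rw [if_neg (Ne.symm h), if_neg h, mul_zero]
  -- the Gram matrix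
  intro _ μ ν hμ hν
  obtain ⟨χ₀, hχ₀, h00⟩ := exists_height_zero hM hmax.1.2.1
  set a₀ : P → ℂ := fun v => coef p M e (χ₀ : G → ℂ) (v : G) with ha₀
  have ha0 : ∀ v : P, v ≠ 1 → a₀ v ≠ 0 := fun v hv =>
    coef_ne_zero hM hmax hab (hfree.freeAt hv) hχ₀
  set r := Nat.card (inertR P e) with hr
  have hr0 : (r : ℂ) ≠ 0 := natCard_ne_zero
  let η : (P →* ℂ) → P → ℂ := etaMu p M e σ (χ₀ : G → ℂ)
  have hη1 : ∀ μ, η μ 1 = 0 := fun μ => by simp [η, etaMu]
  have hηs : ∀ μ, Stable p M e (η μ) := fun μ => by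
    refine stable_of_inertial hM hmax hab fun t ht u v htv => ?_
    have hβ := inertAct_mem ht
    have hv : inertAct P e ⟨t, ht⟩ u = v := Subtype.ext htv.symm
    rw [← hv]
    generalize inertAct P e ⟨t, ht⟩ = β at hβ
    rcases eq_or_ne u 1 with rfl | hu
    · rw [map_one]
    simp only [η, etaMu, hσR β hβ, coef_inertR hM hmax hab hfree hβ hu (irr_isClassFunction χ₀)]
    congr 2
    exact (Fintype.sum_equiv (Equiv.mulRight (⟨β, hβ⟩ : inertR P e)) _ _ fun γ => rfl).symm
  set Θ : (P →* ℂ) → G → ℂ := fun μ => star hM (wt p M e (η μ)) (χ₀ : G → ℂ) with hΘ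
  have hin : ∀ (μ : P →* ℂ) (ψ : Cfsg.IrrCharacter G),
      Cfsg.classInner (Θ μ) (ψ : G → ℂ) = if h : ψ ∈ B then (x ⟨ψ, h⟩ μ : ℂ) else 0 := by
    intro μ ψ
    split_ifs with h
    swap
    · exact classInner_star_outside hM hmax _ (irr_isClassFunction χ₀) h
    refine mul_left_cancel₀ (mul_ne_zero hr0 hP0) ?_
    conv_lhs => rw [← star_one hM hmax h]
    rw [classInner_star_coef hM hmax hab hfree (hηs μ) (stable_const 1) (hη1 μ)
      (irr_isClassFunction χ₀) (irr_isClassFunction ψ), mul_assoc, ← hx ⟨ψ, h⟩ μ]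
    calc ∑ v : P, η μ v * conj (1 : ℂ) * (a₀ v * conj (coef p M e (ψ : G → ℂ) (v : G)))
        = ∑ v : P, ∑ β : inertR P e, conj (F ⟨ψ, h⟩ v) * (μ ((β : MulAut P) v) - 1) := by
          refine Finset.sum_congr rfl fun v _ => ?_
          rw [map_one, mul_one, ← Finset.mul_sum]
          rcases eq_or_ne v 1 with rfl | hv
          · simp [hη1]
          simp only [η, etaMu, F, map_mul, hσc]
          rw [div_mul_eq_mul_div, div_eq_iff (ha0 v hv)]
          ring
      _ = _ := by
          rw [Finset.sum_comm, Finset.sum_congr rfl fun (β : inertR P e) _ => hsumR ⟨ψ, h⟩ μ (β : MulAut P) β.2,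
            Finset.sum_const, Finset.card_univ, nsmul_eq_mul, hr, Nat.card_eq_fintype_card]
  refine Int.cast_injective (α := ℂ) ?_
  push_cast
  have hgram : Cfsg.classInner (Θ μ) (Θ ν) = ∑ ψ : B, (x ψ μ : ℂ) * (x ψ ν : ℂ) := by
    rw [classInner_eq_sum _ (isClassFunction_star_stable hM (hηs μ) (irr_isClassFunction χ₀)),
      ← Finset.sum_subset (Finset.subset_univ (Finset.univ.filter (· ∈ B)))]
    · rw [Finset.sum_subtype (p := (· ∈ B)) (Finset.univ.filter (· ∈ B)) (by simp)]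
      refine Finset.sum_congr rfl fun ψ _ => ?_
      rw [classInner_conj_symm (Θ ν), hin, hin, dif_pos ψ.2, dif_pos ψ.2, map_intCast]
    · intro ψ _ hψ
      rw [hin, dif_neg (by simpa using hψ), zero_mul]
  rw [← hgram]
  refine mul_left_cancel₀ (mul_ne_zero hr0 hP0) ?_
  rw [classInner_star_coef hM hmax hab hfree (hηs μ) (hηs ν) (hη1 μ) (irr_isClassFunction χ₀)
    (irr_isClassFunction χ₀)]
  have hS : ∀ v : P, η μ v * conj (η ν v) * (a₀ v * conj (a₀ v)) =
      ∑ β : inertR P e, ∑ γ : inertR P e,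
        (dact μ β v * conj (dact ν γ v) - dact μ β v - conj (dact ν γ v) + 1) := by
    intro v
    have e1 : ∑ β : inertR P e, ∑ γ : inertR P e,
        (dact μ β v * conj (dact ν γ v) - dact μ β v - conj (dact ν γ v) + 1) =
        (∑ β : inertR P e, (μ ((β : MulAut P) v) - 1)) *
          conj (∑ γ : inertR P e, (ν ((γ : MulAut P) v) - 1)) := by
      rw [map_sum, Finset.sum_mul_sum]
      refine Finset.sum_congr rfl fun β _ => Finset.sum_congr rfl fun γ _ => ?_
      simp only [dact_apply, map_sub, map_one]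
      ring
    rw [e1]
    rcases eq_or_ne v 1 with rfl | hv
    · simp [hη1]
    have ha := ha0 v hv
    have hac : conj (a₀ v) ≠ 0 := fun h => ha ((map_eq_zero _).1 h)
    simp only [η, etaMu, map_mul, map_div₀, hσc]
    show _ / a₀ v * (_ / conj (a₀ v)) * (a₀ v * conj (a₀ v)) = _
    rw [show ∀ A C : ℂ, A / a₀ v * (C / conj (a₀ v)) * (a₀ v * conj (a₀ v)) = A * C from
      fun A C => by field_simp]
    linear_combination (∑ β : inertR P e, (μ ((β : MulAut P) v) - 1)) *
      conj (∑ γ : inertR P e, (ν ((γ : MulAut P) v) - 1)) * hσ2 v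
  rw [Finset.sum_congr rfl fun v _ => hS v, Finset.sum_comm]
  rw [Finset.sum_congr rfl fun β (_ : β ∈ Finset.univ) => Finset.sum_comm]
  have hconj0 : ∀ μ : P →* ℂ, μ ≠ 1 → ∑ v, conj (μ v) = 0 := fun μ h => by
    rw [← map_sum, sum_hom_zero h, map_zero]
  simp only [Finset.sum_add_distrib, Finset.sum_sub_distrib, sum_hom_conj,
    sum_hom_zero (dact_ne_one hμ _), hconj0 _ (dact_ne_one hν _), sub_zero, Finset.sum_const,
    Finset.card_univ, nsmul_eq_mul, mul_one, ← Nat.card_eq_fintype_card, ← hr, mul_zero]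
  have hcnt : ∀ β : inertR P e,
      ∑ γ : inertR P e, (if dact μ β = dact ν γ then (Nat.card P : ℂ) else 0) =
        (Nat.card {γ : inertR P e // dact ν γ = μ} : ℂ) * Nat.card P := by
    intro β
    rw [← Finset.sum_filter, Finset.sum_const, nsmul_eq_mul]
    congr 2
    rw [Nat.card_eq_fintype_card, Fintype.card_subtype]
    refine Finset.card_bij (fun γ _ => γ * β⁻¹) ?_ ?_ ?_
    · intro γ hγ
      simp only [Finset.mem_filter, Finset.mem_univ, true_and] at hγ ⊢
      rw [Subgroup.coe_mul, ← dact_dact, ← hγ, dact_dact, Subgroup.coe_inv, mul_inv_cancel,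
        dact_one]
    · intro a _ b _ h
      simpa using h
    · intro δ hδ
      refine ⟨δ * β, ?_, by simp⟩
      simp only [Finset.mem_filter, Finset.mem_univ, true_and] at hδ ⊢
      rw [Subgroup.coe_mul, ← dact_dact, hδ]
  rw [Finset.sum_congr rfl fun β _ => hcnt β]
  simp only [Finset.sum_const, Finset.card_univ, nsmul_eq_mul, ← Nat.card_eq_fintype_card, ← hr]
  ring

/-- The counts. -/
theorem free_counts (hM : Cfsg.IsPModular p M) (hmax : Cfsg.IsMaximalBrauerPair p M B P e)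
    (hab : ∀ x ∈ P, ∀ y ∈ P, x * y = y * x) (hP1 : P ≠ ⊥) (hfree : Frees P e) :
    ∃ n : ℕ, Nat.card P - 1 = n * Nat.card (inertR P e) ∧
      Nat.card B = n + Cfsg.blockRank p B ∧ 1 ≤ Cfsg.blockRank p B ∧
      Cfsg.blockRank p B ≤ Nat.card (inertR P e) ∧
      (Nat.card (inertR P e) ≤ 3 → Cfsg.blockRank p B = Nat.card (inertR P e) ∨
        ((Nat.card P).Prime ∧ Cfsg.blockRank p B = 1)) := by
  classical
  haveI := fact_prime_of_pm hM
  haveI := Fintype.ofFinite P
  haveI := Fintype.ofFinite (inertR P e)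
  haveI := Fintype.ofFinite B
  have hA : IsPGroup p P := hmax.1.1.1
  have hcomm : ∀ a b : P, a * b = b * a := fun a b => Subtype.ext (hab a a.2 b b.2)
  haveI := finite_dual hcomm
  haveI := Fintype.ofFinite (P →* ℂ)
  set r := Nat.card (inertR P e) with hr
  have hr1 : 1 ≤ r := Nat.card_pos
  obtain ⟨n, hn⟩ := hfree.card_dvd
  rw [← hr] at hn
  have hn' : Nat.card P - 1 = n * r := hn.trans (mul_comm _ _)
  have hP2 : 2 ≤ Nat.card P := by
    have h1 : 0 < Nat.card P := Nat.card_pos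
    have h2 : Nat.card P ≠ 1 := fun h => hP1 (Subgroup.eq_bot_of_card_eq _ h)
    omega
  have hl1 : 1 ≤ Cfsg.blockRank p B := NilpotentAbelian.blockRank_pos hM hmax.1.2.1
  -- characters and rank
  have hk : Nat.card B = n + Cfsg.blockRank p B := by
    have h := card_eq_sum hM hmax hab
    rw [← Finset.sum_erase_add _ _ (Finset.mem_univ (1 : P))] at h
    rw [lv_one hM hmax, OneMemClass.coe_one, orbS_one, Nat.card_eq_fintype_card (α := ({1} : Set G)),
      Fintype.card_unique, Nat.cast_one, div_one] at h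
    rw [Finset.sum_congr rfl (g := fun _ => (1 : ℂ) / (r : ℂ)) fun v hv => ?_] at h
    · rw [Finset.sum_const, Finset.card_erase_of_mem (Finset.mem_univ _), Finset.card_univ,
        ← Nat.card_eq_fintype_card (α := P), hn', nsmul_eq_mul, Nat.cast_mul, mul_one_div,
        mul_div_cancel_right₀ _ (Nat.cast_ne_zero.2 (by omega : r ≠ 0))] at h
      exact_mod_cast h
    have hv1 : v ≠ 1 := (Finset.mem_erase.1 hv).1
    obtain ⟨g, hg, -, -⟩ := eps_spec hM hmax v
    rw [lv_eq hM hmax hg, LocalNilpotent.blockRank_eq_one hM hmax hab hg (hfree.freeAt hv1),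
      hfree.card_orb hab hv1, Nat.cast_one, hr]
  obtain ⟨x, hx1, hxR, hx0, hxG⟩ := exists_matrix hM hmax hab hP1 hfree
  have hGram := fun μ ν hμ hν => hxG μ ν hμ hν
  let D := {μ : P →* ℂ // μ ≠ 1}
  have hD : Fintype.card D = n * r := by
    rw [← hn', Fintype.card_subtype_compl, Fintype.card_subtype_eq, ← Nat.card_eq_fintype_card,
      card_dual hcomm]
  have hfix : ∀ (μ : D) (γ : inertR P e), dact μ.1 γ = μ.1 → γ = 1 := fun μ γ h =>
    Subtype.ext (hfree.dual_eq_one hab μ.2 γ.2 h)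
  have hself : ∀ μ : D, Nat.card {γ : inertR P e // dact μ.1 γ = μ.1} = 1 := fun μ =>
    Nat.card_eq_one_iff_exists.2 ⟨⟨1, dact_one _⟩, fun γ => Subtype.ext (hfix μ γ.1 γ.2)⟩
  have hn0 : 1 ≤ n := by
    rcases Nat.eq_zero_or_pos n with h | h
    · rw [h, zero_mul] at hn'; omega
    · exact h
  -- the bound
  have hle : Nat.card B * r ≤ n * r + r * r := by
    have h := FreeCount.card_mul_le (fun (ψ : B) (μ : D) => x ψ μ.1) (e := r)
      (by rw [hD]; exact Nat.le_mul_of_pos_left _ hn0) (by rw [hD]; exact Nat.mul_pos hn0 hr1)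
      (fun ψ => ?_) ?_ ?_
    · rwa [hD, ← Nat.card_eq_fintype_card] at h
    · obtain ⟨μ, hμ⟩ := hx0 ψ
      have hμ1 : μ ≠ 1 := fun h => hμ (h ▸ hx1 ψ)
      rw [hr, Nat.card_eq_fintype_card, ← Finset.card_univ]
      refine Finset.card_le_card_of_injOn (fun γ => (⟨dact μ γ, dact_ne_one hμ1 _⟩ : D))
        (fun γ _ => by simpa [hxR ψ μ _ γ.2] using hμ) fun a _ b _ hab' => ?_
      have hab'' : dact μ a = dact μ b := congrArg Subtype.val hab'
      have h1 := hfix ⟨μ, hμ1⟩ (a * b⁻¹) (by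
        show dact μ (a * b⁻¹ : inertR P e).1 = μ
        rw [Subgroup.coe_mul, ← dact_dact, hab'', dact_dact, Subgroup.coe_inv, mul_inv_cancel,
          dact_one])
      exact mul_inv_eq_one.1 h1
    · rw [Finset.sum_comm, Finset.sum_congr rfl fun μ _ => show ∑ ψ : B, x ψ μ.1 ^ 2 = (r : ℤ) + 1 by
        simp only [sq]; rw [hGram _ _ μ.2 μ.2, hself μ]; rfl,
        Finset.sum_const, Finset.card_univ, nsmul_eq_mul]
    · simp only [sq, Finset.sum_mul_sum]
      rw [Finset.sum_comm, Finset.sum_congr rfl (g := fun _ => (Fintype.card D : ℤ) * r + r)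
        fun μ _ => ?_, Finset.sum_const, Finset.card_univ, nsmul_eq_mul]
      · ring
      rw [Finset.sum_comm, Finset.sum_congr rfl fun ν _ => hGram μ.1 ν.1 μ.2 ν.2,
        Finset.sum_add_distrib, Finset.sum_const, Finset.card_univ, nsmul_eq_mul, ← Nat.cast_sum,
        ← Nat.card_sigma]
      congr 2
      rw [hr]
      refine Nat.card_congr (Equiv.ofBijective
        (fun s : (ν : D) × {γ : inertR P e // dact ν.1 γ = μ.1} => s.2.1) ⟨?_, ?_⟩)
      · rintro ⟨ν, γ, hγ⟩ ⟨ν', γ', hγ'⟩ (rfl : γ = γ')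
        have : ν = ν' := Subtype.ext (by
          have h := congrArg (fun μ' => dact μ' (γ⁻¹ : inertR P e).1) (hγ.trans hγ'.symm)
          simpa [dact_dact, dact_one] using h)
        subst this
        rfl
      · intro γ
        exact ⟨⟨⟨dact μ.1 (γ⁻¹ : inertR P e).1, dact_ne_one μ.2 _⟩, γ, by
          simp [dact_dact, dact_one]⟩, rfl⟩
  have hlr : Cfsg.blockRank p B ≤ r := by
    rw [hk, add_mul] at hle
    exact Nat.le_of_mul_le_mul_right (by omega : Cfsg.blockRank p B * r ≤ r * r) (by omega)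
  refine ⟨n, hn', hk, hl1, hlr, fun h3 => ?_⟩
  rcases Nat.lt_or_ge r 2 with h | h
  · exact Or.inl (by omega)
  -- representatives of the orbits on the linear characters
  let st : Setoid D :=
    { r := fun μ ν => ∃ γ : inertR P e, dact μ.1 γ = ν.1
      iseqv :=
        { refl := fun μ => ⟨1, dact_one _⟩
          symm := by
            rintro μ ν ⟨γ, hγ⟩
            exact ⟨γ⁻¹, by rw [← hγ, dact_dact, Subgroup.coe_inv, mul_inv_cancel, dact_one]⟩
          trans := by
            rintro μ ν ρ ⟨γ, hγ⟩ ⟨δ, hδ⟩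
            exact ⟨γ * δ, by rw [Subgroup.coe_mul, ← dact_dact, hγ, hδ]⟩ } }
  let I := Quotient st
  haveI := Fintype.ofFinite I
  have hI : Fintype.card I = n := by
    have hb : Function.Bijective fun a : I × inertR P e =>
        (⟨dact a.1.out.1 a.2, dact_ne_one a.1.out.2 _⟩ : D) := by
      constructor
      · rintro ⟨i, γ⟩ ⟨j, δ⟩ hij
        have h1 : dact i.out.1 γ = dact j.out.1 δ := congrArg Subtype.val hij
        have h2 : i = j := by
          rw [← Quotient.out_eq i, ← Quotient.out_eq j]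
          refine Quotient.sound ⟨γ * δ⁻¹, ?_⟩
          rw [Subgroup.coe_mul, ← dact_dact, h1, dact_dact, Subgroup.coe_inv, mul_inv_cancel,
            dact_one]
        subst h2
        have h3 := hfix i.out (γ * δ⁻¹) (by
          rw [Subgroup.coe_mul, ← dact_dact, h1, dact_dact, Subgroup.coe_inv, mul_inv_cancel,
            dact_one])
        rw [mul_inv_eq_one.1 h3]
      · intro μ
        obtain ⟨γ, hγ⟩ := Quotient.mk_out (s := st) μ
        exact ⟨(Quotient.mk st μ, γ), Subtype.ext hγ⟩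
    have h := Fintype.card_congr (Equiv.ofBijective _ hb)
    rw [Fintype.card_prod, hD, ← Nat.card_eq_fintype_card (α := inertR P e), ← hr] at h
    exact Nat.eq_of_mul_eq_mul_right (by omega) h
  have hrows := FreeCount.gram_rows (fun (i : I) (ψ : B) => x ψ i.out.1) (e := r) (by omega)
    (fun i j => ?_) (fun ψ => ?_) (by omega)
  · rw [hI, ← Nat.card_eq_fintype_card, hk] at hrows
    have hexc : n ≤ r + 1 → Cfsg.blockRank p B + n ≤ r + 2 → 3 ≤ n →
        Cfsg.blockRank p B = r ∨ ((Nat.card P).Prime ∧ Cfsg.blockRank p B = 1) := by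
      intro h1 h2 h4
      have hcases : (r = 2 ∧ n = 3) ∨ (r = 3 ∧ n = 3) ∨ (r = 3 ∧ n = 4) := by omega
      rcases hcases with ⟨h5, h6⟩ | ⟨h5, h6⟩ | ⟨h5, h6⟩
      · refine Or.inr ⟨?_, by omega⟩
        rw [show Nat.card P = 7 by rw [h5, h6] at hn'; omega]
        norm_num
      · exfalso
        have h10 : Nat.card P = 10 := by rw [h5, h6] at hn'; omega
        obtain ⟨a, ha⟩ := IsPGroup.iff_card.1 hA
        rw [h10] at ha
        have e2 : 2 = p := (Nat.prime_dvd_prime_iff_eq Nat.prime_two hM.1).1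
          (Nat.prime_two.dvd_of_dvd_pow (ha ▸ by norm_num : 2 ∣ p ^ a))
        have e5 : 5 = p := (Nat.prime_dvd_prime_iff_eq (by norm_num) hM.1).1
          ((by norm_num : Nat.Prime 5).dvd_of_dvd_pow (ha ▸ by norm_num : 5 ∣ p ^ a))
        omega
      · refine Or.inr ⟨?_, by omega⟩
        rw [show Nat.card P = 13 by rw [h5, h6] at hn'; omega]
        norm_num
    rcases hrows with h1 | ⟨h1, h2⟩ | ⟨h1, h2⟩
    · exact Or.inl (by omega)
    · exact hexc (by omega) (by omega) h2
    · exfalso; omega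
  · show ∑ ψ : B, x ψ i.out.1 * x ψ j.out.1 = _
    rw [hGram _ _ i.out.2 j.out.2, ← hr]
    congr 1
    split_ifs with hij
    · subst hij
      rw [hself, Nat.cast_one]
    · haveI : IsEmpty {γ : inertR P e // dact j.out.1 γ = i.out.1} := ⟨fun γ => hij (by
        rw [← Quotient.out_eq i, ← Quotient.out_eq j]
        exact (Quotient.sound (⟨γ.1, γ.2⟩ : st j.out i.out)).symm)⟩
      rw [Nat.card_of_isEmpty, Nat.cast_zero]
  · obtain ⟨μ, hμ⟩ := hx0 ψ
    have hμ1 : μ ≠ 1 := fun h => hμ (h ▸ hx1 ψ)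
    obtain ⟨γ, hγ⟩ := Quotient.mk_out (s := st) (⟨μ, hμ1⟩ : D)
    refine ⟨Quotient.mk st ⟨μ, hμ1⟩, fun h0 => hμ ?_⟩
    have := hxR ψ (Quotient.mk st (⟨μ, hμ1⟩ : D)).out.1 _ γ.2
    rw [hγ] at this
    exact this.trans h0

end Cfsg.Agent.Blocks.Star
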