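import Mathlib
import Cfsg.Agent.Lib.Blocks.Star.FreeLattice
import Cfsg.Agent.Lib.Blocks.KleinFourBlock

/-!
# Abelian 2-groups with three involutions as defect groups
-/

set_option linter.style.haveILetI false
set_option linter.unusedSectionVars false

namespace Cfsg.Agent.Blocks.Star

open Cfsg.Agent.Blocks Cfsg.Agent.Characters Cfsg.Agent.BlockCharsA
open Cfsg.Agent.BlockCharsA.BrauerPairs Cfsg.Agent.BlockCharsA.PairConj
open Cfsg.Agent.BlockCharsA.PairLocal Cfsg.Agent.BlockCharsA.PairFusion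
open Cfsg.Agent.BlockCharsA.PairReceptive

universe u

variable {G : Type u} [Group G] [Finite G] {p : ℕ} {M : Ideal Cfsg.AlgInt}
  {B : Set (Cfsg.IrrCharacter G)} {P : Subgroup G}
  {e : Set (Cfsg.IrrCharacter (Subgroup.centralizer (P : Set G)))}

/-- The inertial quotient of an abelian defect group has order prime to `p`. -/
theorem not_dvd_inertR (hM : Cfsg.IsPModular p M) (hmax : Cfsg.IsMaximalBrauerPair p M B P e)
    (hab : ∀ x ∈ P, ∀ y ∈ P, x * y = y * x) : ¬ p ∣ Nat.card (inertR P e) := by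
  haveI := fact_prime_of_pm hM
  have hS := isBlockFusion_blockSystem hM hmax
  have h1 : (autHom P e).ker = (Subgroup.centralizer (P : Set G)).subgroupOf (stab P e) :=
    SetLike.ext fun t =>
      ⟨fun h => PairNilpotent.mem_centralizer_of_autHom h, fun h => autHom_eq_one h⟩
  have h4 := Fusion.Abelian.not_dvd_card_autGroup (p := p) hmax.1.1.1 (isSaturated hM hS) hab
  rw [autGroup_eq hM hS (Q := P) (f := e) Relation.ReflTransGen.refl] at h4
  rwa [card_inertR, Subgroup.relIndex, ← h1, Subgroup.index_ker]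

/-- An automorphism of odd order of an abelian 2-group fixing all involutions is trivial. -/
theorem eq_one_of_fix_involutions {A : Type*} [Group A] (hA : IsPGroup 2 A)
    (hcomm : ∀ a b : A, a * b = b * a) (β : MulAut A) {n : ℕ} (hn : Odd n) (hβn : β ^ n = 1)
    (hfix : ∀ t : A, t ^ 2 = 1 → β t = t) : β = 1 := by
  refine MulEquiv.ext fun w => ?_
  obtain ⟨k, hk⟩ := hA w
  induction k generalizing w with
  | zero =>
    rw [pow_zero, pow_one] at hk
    subst hk
    rw [map_one]; rfl
  | succ k ih =>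
    have h2 : β (w ^ 2) = w ^ 2 := ih (w ^ 2) (by rw [← pow_mul, ← pow_succ']; exact hk)
    set z := w⁻¹ * β w
    have hz2 : z ^ 2 = 1 := by
      rw [(show Commute w⁻¹ (β w) from hcomm _ _).mul_pow, ← map_pow, h2, inv_pow, inv_mul_cancel]
    have hz := hfix z hz2
    have hwz : β w = w * z := (mul_inv_cancel_left w (β w)).symm
    have hiter : ∀ i : ℕ, (β ^ i) w = w * z ^ i := by
      intro i
      induction i with
      | zero => simp
      | succ i ihi =>
        rw [pow_succ', MulAut.mul_apply, ihi, map_mul, map_pow, hz, hwz, mul_assoc, ← pow_succ']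
    have h1 := hiter n
    rw [hβn] at h1
    obtain ⟨j, rfl⟩ := hn
    rw [pow_succ, pow_mul, hz2, one_pow, one_mul] at h1
    show β w = w
    rw [hwz]
    exact h1.symm

/-- An element of order a power of two generates an involution. -/
theorem exists_involution_pow {A : Type*} [Group A] (hA : IsPGroup 2 A) {v : A} (hv : v ≠ 1) :
    ∃ k : ℕ, v ^ k ≠ 1 ∧ (v ^ k) ^ 2 = 1 := by
  obtain ⟨j, hj⟩ := IsPGroup.iff_orderOf.1 hA v
  rcases j with _ | j
  · exact absurd (orderOf_eq_one_iff.1 (hj.trans (pow_zero 2))) hv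
  refine ⟨2 ^ j, fun h => ?_, by rw [← pow_mul, ← pow_succ, ← hj, pow_orderOf_eq_one]⟩
  have := orderOf_dvd_of_pow_eq_one h
  rw [hj] at this
  have := Nat.pow_dvd_pow_iff_le_right (by norm_num : 1 < 2) |>.1 this
  omega

/-- With three involutions the inertial quotient acts freely and has order dividing three. -/
theorem frees_of_three (hM : Cfsg.IsPModular 2 M) (hmax : Cfsg.IsMaximalBrauerPair 2 M B P e)
    (hab : ∀ x ∈ P, ∀ y ∈ P, x * y = y * x)
    (h3 : Nat.card {t : P // t ^ 2 = 1 ∧ t ≠ 1} = 3) :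
    Frees P e ∧ (Nat.card (inertR P e) = 1 ∨ Nat.card (inertR P e) = 3) := by
  classical
  haveI := Fintype.ofFinite P
  have hA : IsPGroup 2 P := hmax.1.1.1
  have hcomm : ∀ a b : P, a * b = b * a := fun a b => Subtype.ext (hab a a.2 b b.2)
  have hodd : Odd (Nat.card (inertR P e)) :=
    Nat.odd_iff.2 (by have := not_dvd_inertR hM hmax hab; omega)
  set I := {t : P // t ^ 2 = 1 ∧ t ≠ 1}
  have hmem : ∀ (β : MulAut P) (t : P), t ^ 2 = 1 ∧ t ≠ 1 → (β t) ^ 2 = 1 ∧ β t ≠ 1 :=
    fun β t ht => ⟨by rw [← map_pow, ht.1, map_one],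
      fun h => ht.2 (β.injective (h.trans (map_one β).symm))⟩
  -- a moved involution forces a three-cycle
  have hone : ∀ β ∈ inertR P e, ∀ t : P, t ^ 2 = 1 → t ≠ 1 → β t = t → β = 1 := by
    intro β hβ t ht2 ht hfix
    obtain ⟨j, hj⟩ := hodd
    have hpow : β ^ (2 * j + 1) = 1 := by
      have h := congrArg Subtype.val (pow_card_eq_one' (x := (⟨β, hβ⟩ : inertR P e)))
      rwa [hj] at h
    refine eq_one_of_fix_involutions hA hcomm β ⟨j, rfl⟩ hpow fun s hs2 => ?_
    by_cases hs : s = 1
    · rw [hs, map_one]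
    -- the involution `s` is moved only within the other two
    let σ : Equiv.Perm I :=
      { toFun := fun x => ⟨β x.1, hmem β x.1 x.2⟩
        invFun := fun x => ⟨β.symm x.1, hmem β.symm x.1 x.2⟩
        left_inv := fun x => Subtype.ext (β.symm_apply_apply x.1)
        right_inv := fun x => Subtype.ext (β.apply_symm_apply x.1) }
    haveI : Fintype I := Fintype.ofFinite I
    have hsq : ∀ x : I, σ (σ x) = x := by
      have hall : ∀ τ : Equiv.Perm (Fin 3), ∀ a : Fin 3, τ a = a → ∀ x, τ (τ x) = x := by decide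
      let q : I ≃ Fin 3 := Fintype.equivFinOfCardEq (by rw [← Nat.card_eq_fintype_card, h3])
      intro x
      have h := hall (q.permCongr σ) (q ⟨t, ht2, ht⟩) (by
        simp only [Equiv.permCongr_apply, Equiv.symm_apply_apply]
        exact congrArg q (Subtype.ext hfix)) (q x)
      simpa [Equiv.permCongr_apply] using h
    have h2 : ∀ i : ℕ, (β ^ (2 * i)) s = s := by
      intro i
      induction i with
      | zero => simp
      | succ i ih =>
        rw [show 2 * (i + 1) = 2 + 2 * i by ring, pow_add, MulAut.mul_apply, ih, pow_two,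
          MulAut.mul_apply]
        exact congrArg Subtype.val (hsq ⟨s, hs2, hs⟩)
    have h := DFunLike.congr_fun hpow s
    rw [pow_succ', MulAut.mul_apply, h2] at h
    exact h
  have hfree : Frees P e := by
    intro x hx v hv hv1 hxv
    have hβ := inertAct_mem hx
    obtain ⟨k, hk1, hk2⟩ := exists_involution_pow hA (v := (⟨v, hv⟩ : P))
      fun h => hv1 (congrArg Subtype.val h)
    have hfix : inertAct P e ⟨x, hx⟩ ((⟨v, hv⟩ : P) ^ k) = (⟨v, hv⟩ : P) ^ k := by
      rw [map_pow, show inertAct P e ⟨x, hx⟩ (⟨v, hv⟩ : P) = ⟨v, hv⟩ from Subtype.ext hxv]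
    have h1 := hone _ hβ _ hk2 hk1 hfix
    rw [Subgroup.mem_centralizer_iff]
    intro w hw
    have h2 : x * w * x⁻¹ = w := congrArg Subtype.val (DFunLike.congr_fun h1 (⟨w, hw⟩ : P))
    conv_lhs => rw [← h2]
    group
  refine ⟨hfree, ?_⟩
  letI : MulAction (inertR P e) I :=
    { smul := fun β t => ⟨(β : MulAut P) t.1, hmem _ t.1 t.2⟩
      one_smul := fun _ => rfl
      mul_smul := fun _ _ _ => rfl }
  have hd := dvd_card_of_stabilizer (X := I) (⊥ : Subgroup (inertR P e)) fun t β hβ =>
    Subgroup.mem_bot.2 (Subtype.ext (hone β β.2 t.1 t.2.1 t.2.2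
      (congrArg Subtype.val (MulAction.mem_stabilizer_iff.1 hβ))))
  rw [Subgroup.index_bot, h3] at hd
  exact (Nat.dvd_prime Nat.prime_three).1 hd

end Cfsg.Agent.Blocks.Star
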