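import Mathlib

/-!
# Integral vectors with Gram matrix `3 J + I`

When there are more than five rows, three rows are constant signs and every other row is a sign in
a single column.
-/

namespace Cfsg.Agent.Blocks.Star.CoreRows

universe u v

/-- Four-sets meeting pairwise in three points have a common core. -/
theorem exists_core {I : Type u} {α : Type v} [Fintype I] [Fintype α] [DecidableEq α]
    (S : I → Finset α) (hc : ∀ i, (S i).card = 4) (hi : ∀ i j, i ≠ j → (S i ∩ S j).card = 3)
    (hcov : ∀ a, ∃ i, a ∈ S i) (hI : 2 ≤ Fintype.card I) (hα : 5 < Fintype.card α) :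
    ∃ W : Finset α, W.card = 3 ∧ ∀ l, W ⊆ S l := by
  classical
  obtain ⟨i, j, hij⟩ := Fintype.exists_pair_of_one_lt_card (by omega : 1 < Fintype.card I)
  set W := S i ∩ S j with hW
  set U := S i ∪ S j with hU
  have hWc : W.card = 3 := hi i j hij
  have hUc : U.card = 5 := by
    have h := Finset.card_union_add_card_inter (S i) (S j)
    rw [hc, hc, hi i j hij, ← hU] at h
    omega
  obtain ⟨l₀, hl₀⟩ : ∃ l, ¬ S l ⊆ U := by
    by_contra hall
    push Not at hall
    have : (Finset.univ : Finset α) ⊆ U := fun a _ => (hcov a).elim fun l hl => hall l hl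
    have := Finset.card_le_card this
    rw [Finset.card_univ] at this
    omega
  have hsub : ∀ l w, w ∈ W → w ∉ S l → S l ⊆ U := by
    intro l w hw hwl
    obtain ⟨hwi, hwj⟩ := Finset.mem_inter.1 hw
    have key : ∀ m, w ∈ S m → (S m).erase w ⊆ S l := fun m hm => by
      have hne : l ≠ m := fun h => hwl (h ▸ hm)
      have h1 : S l ∩ S m ⊆ (S m).erase w := fun a ha => by
        obtain ⟨h1, h2⟩ := Finset.mem_inter.1 ha
        exact Finset.mem_erase.2 ⟨fun h => hwl (h ▸ h1), h2⟩
      have h2 : S l ∩ S m = (S m).erase w := Finset.eq_of_subset_of_card_le h1 (by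
        rw [Finset.card_erase_of_mem hm, hc, hi l m hne])
      rw [← h2]
      exact Finset.inter_subset_left
    have h3 : U.erase w ⊆ S l := fun a ha => by
      obtain ⟨haw, ha⟩ := Finset.mem_erase.1 ha
      rcases Finset.mem_union.1 ha with h | h
      · exact key i hwi (Finset.mem_erase.2 ⟨haw, h⟩)
      · exact key j hwj (Finset.mem_erase.2 ⟨haw, h⟩)
    rw [← Finset.eq_of_subset_of_card_le h3 (by
      rw [Finset.card_erase_of_mem (Finset.mem_union_left _ hwi), hUc, hc])]
    exact Finset.erase_subset _ _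
  have hW0 : W ⊆ S l₀ := fun w hw => by_contra fun h => hl₀ (hsub l₀ w hw h)
  obtain ⟨c, hc₀, hcU⟩ := Finset.not_subset.1 hl₀
  have hl₀eq : S l₀ = insert c W := by
    refine (Finset.eq_of_subset_of_card_le (Finset.insert_subset hc₀ hW0) ?_).symm
    rw [Finset.card_insert_of_notMem fun h => hcU (Finset.mem_union_left _ (Finset.mem_inter.1 h).1),
      hc, hWc]
  refine ⟨W, hWc, fun l w hw => ?_⟩
  by_contra hwl
  have hlU := hsub l w hw hwl
  have hne : l ≠ l₀ := fun h => hl₀ (h ▸ hlU)
  have h1 : S l ∩ S l₀ ⊆ W.erase w := fun a ha => by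
    obtain ⟨ha1, ha2⟩ := Finset.mem_inter.1 ha
    rw [hl₀eq] at ha2
    rcases Finset.mem_insert.1 ha2 with rfl | h
    · exact absurd (hlU ha1) hcU
    · exact Finset.mem_erase.2 ⟨fun e => hwl (e ▸ ha1), h⟩
  have h2 := Finset.card_le_card h1
  rw [hi l l₀ hne, Finset.card_erase_of_mem hw, hWc] at h2
  omega

/-- The shape of the rows. -/
theorem exists_shape {I : Type u} {α : Type v} [Fintype I] [Fintype α] [DecidableEq I]
    (c : I → α → ℤ) (hg : ∀ i j, ∑ a, c i a * c j a = 3 + if i = j then 1 else 0)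
    (hcov : ∀ a, ∃ i, c i a ≠ 0) (hI : 2 ≤ Fintype.card I) (hα : 5 < Fintype.card α) :
    ∃ (W : Finset α) (s : α → ℤ) (f : I → α), W.card = 3 ∧ (∀ a, s a = 1 ∨ s a = -1) ∧
      Function.Injective f ∧ (∀ i, f i ∉ W) ∧ (∀ a, a ∉ W → ∃ i, f i = a) ∧
      (∀ a ∈ W, ∀ i, c i a = s a) ∧ (∀ i, c i (f i) = s (f i)) ∧
      ∀ i a, a ∉ W → a ≠ f i → c i a = 0 := by
  classical
  have hn : ∀ i, ∑ a, c i a ^ 2 = 4 := fun i => by
    have h := hg i i
    rw [if_pos rfl] at h
    rw [show (4 : ℤ) = 3 + 1 from rfl, ← h]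
    exact Finset.sum_congr rfl fun a _ => sq (c i a)
  have hsmall : ∀ i a, c i a = 0 ∨ c i a = 1 ∨ c i a = -1 := by
    intro i a
    by_contra hcon
    push Not at hcon
    have h4 : 4 ≤ c i a ^ 2 := by
      rcases le_or_gt 0 (c i a) with h | h
      · have : 2 ≤ c i a := by omega
        nlinarith
      · have : c i a ≤ -2 := by omega
        nlinarith
    have hrest := Finset.sum_erase_add Finset.univ (fun b => c i b ^ 2) (Finset.mem_univ a)
    rw [hn i] at hrest
    have hnn : 0 ≤ ∑ b ∈ Finset.univ.erase a, c i b ^ 2 := Finset.sum_nonneg fun b _ => sq_nonneg _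
    have hz : ∀ b, b ≠ a → c i b = 0 := fun b hb =>
      pow_eq_zero_iff two_ne_zero |>.1 ((Finset.sum_eq_zero_iff_of_nonneg
        fun b _ => sq_nonneg _).1 (by omega : ∑ b ∈ Finset.univ.erase a, c i b ^ 2 = 0) b
        (Finset.mem_erase.2 ⟨hb, Finset.mem_univ _⟩))
    obtain ⟨l, hl⟩ : ∃ l, l ≠ i := Fintype.exists_ne_of_one_lt_card (by omega) i
    have h := hg i l
    rw [if_neg (Ne.symm hl), Finset.sum_eq_single a (fun b _ hb => by rw [hz b hb, zero_mul])
      (fun h => absurd (Finset.mem_univ a) h), add_zero] at h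
    have h4' : c i a ^ 2 = 4 := by omega
    have h9 : (c i a * c l a) ^ 2 = 9 := by rw [h]; norm_num
    rw [mul_pow, h4'] at h9
    omega
  set S : I → Finset α := fun i => Finset.univ.filter fun a => c i a ≠ 0 with hS
  have hmem : ∀ i a, a ∈ S i ↔ c i a ≠ 0 := fun i a => by simp [hS]
  have hsq : ∀ i a, c i a ^ 2 = if c i a ≠ 0 then 1 else 0 := fun i a => by
    rcases hsmall i a with h | h | h <;> simp [h]
  have hcard : ∀ i, (S i).card = 4 := fun i => by
    have h := hn i
    simp only [hsq, ← Finset.sum_filter, Finset.sum_const, nsmul_eq_mul, mul_one] at h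
    exact_mod_cast h
  have hterm : ∀ i j a, c i a * c j a ≤ if a ∈ S i ∩ S j then 1 else 0 := fun i j a => by
    simp only [Finset.mem_inter, hmem]
    rcases hsmall i a with h | h | h <;> rcases hsmall j a with h' | h' | h' <;> simp [h, h']
  have hge : ∀ i j, i ≠ j → 3 ≤ (S i ∩ S j).card := fun i j hij => by
    have h := hg i j
    rw [if_neg hij, add_zero] at h
    have h1 := Finset.sum_le_sum fun a (_ : a ∈ Finset.univ) => hterm i j a
    rw [h, ← Finset.sum_filter, Finset.sum_const, nsmul_eq_mul, mul_one,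
      Finset.filter_univ_mem] at h1
    exact_mod_cast h1
  have heven : ∀ i j, i ≠ j → (S i ∩ S j).card ≠ 4 := fun i j hij h4 => by
    have h := hg i j
    rw [if_neg hij, add_zero] at h
    have h2 : ((2 : ℤ) ∣ ∑ a, ((if a ∈ S i ∩ S j then 1 else 0) - c i a * c j a)) :=
      Finset.dvd_sum fun a _ => by
        simp only [Finset.mem_inter, hmem]
        rcases hsmall i a with h | h | h <;> rcases hsmall j a with h' | h' | h' <;> simp [h, h']
    rw [Finset.sum_sub_distrib, h, ← Finset.sum_filter, Finset.sum_const, nsmul_eq_mul, mul_one,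
      Finset.filter_univ_mem, h4] at h2
    norm_num at h2
  have hinter : ∀ i j, i ≠ j → (S i ∩ S j).card = 3 := fun i j hij => by
    have h1 := Finset.card_le_card (Finset.inter_subset_left (s₁ := S i) (s₂ := S j))
    have := hge i j hij
    have := heven i j hij
    rw [hcard] at h1
    omega
  have heq : ∀ i j a, a ∈ S i → a ∈ S j → c i a = c j a := by
    intro i j a hai haj
    rcases eq_or_ne i j with rfl | hij
    · rfl
    have h := hg i j
    rw [if_neg hij, add_zero] at h
    have hsum : ∑ a, (if a ∈ S i ∩ S j then (1 : ℤ) else 0) = 3 := by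
      rw [← Finset.sum_filter, Finset.sum_const, nsmul_eq_mul, mul_one, Finset.filter_univ_mem,
        hinter i j hij]
      norm_num
    have := (Finset.sum_eq_sum_iff_of_le fun b (_ : b ∈ Finset.univ) => hterm i j b).1
      (h.trans hsum.symm) a (Finset.mem_univ a)
    rw [if_pos (Finset.mem_inter.2 ⟨hai, haj⟩)] at this
    rcases hsmall i a with e | e | e <;> rw [e] at this ⊢ <;> omega
  obtain ⟨W, hWc, hW⟩ := exists_core S hcard hinter
    (fun a => (hcov a).imp fun i hi => (hmem i a).2 hi) hI hα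
  have hex : ∀ i, ∃ x, S i \ W = {x} := fun i => Finset.card_eq_one.1 (by
    have h := Finset.card_sdiff_add_card_eq_card (hW i)
    rw [hcard, hWc] at h
    omega)
  choose f hf using hex
  have hfm : ∀ i, f i ∈ S i ∧ f i ∉ W := fun i =>
    Finset.mem_sdiff.1 ((hf i).ge (Finset.mem_singleton_self _))
  have honly : ∀ i a, a ∉ W → a ∈ S i → a = f i := fun i a ha hai => by
    have : a ∈ S i \ W := Finset.mem_sdiff.2 ⟨hai, ha⟩
    rwa [hf i, Finset.mem_singleton] at this
  have hinj : Function.Injective f := by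
    intro i j h
    by_contra hne
    have h1 : insert (f i) W ⊆ S i ∩ S j :=
      Finset.insert_subset (Finset.mem_inter.2 ⟨(hfm i).1, h ▸ (hfm j).1⟩)
        fun w hw => Finset.mem_inter.2 ⟨hW i hw, hW j hw⟩
    have h2 := Finset.card_le_card h1
    rw [hinter i j hne, Finset.card_insert_of_notMem (hfm i).2, hWc] at h2
    omega
  choose r hr using hcov
  have hs : ∀ i a, a ∈ S i → c i a = c (r a) a := fun i a h => heq i (r a) a h ((hmem _ a).2 (hr a))
  refine ⟨W, fun a => c (r a) a, f, hWc, fun a => ?_, hinj, fun i => (hfm i).2, fun a ha => ?_,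
    fun a ha i => hs i a (hW i ha), fun i => hs i _ (hfm i).1, fun i a ha hne => ?_⟩
  · exact (hsmall (r a) a).resolve_left (hr a)
  · exact ⟨r a, (honly _ a ha ((hmem _ a).2 (hr a))).symm⟩
  · by_contra h
    exact hne (honly i a ha ((hmem i a).2 h))

end Cfsg.Agent.Blocks.Star.CoreRows
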