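import Mathlib
import Cfsg.Agent.Lib.Blocks.Star.FreeLattice
import Cfsg.Agent.Lib.Blocks.Star.SingularSpan

/-!
# Orthogonality of the columns of coefficients
-/

set_option linter.style.haveILetI false
set_option linter.unusedSectionVars false

namespace Cfsg.Agent.Blocks.Star

open Cfsg.Agent.Blocks Cfsg.Agent.Characters Cfsg.Agent.BlockCharsA
open Cfsg.Agent.BlockCharsA.BrauerPairs Cfsg.Agent.BlockCharsA.PairConj
open Cfsg.Agent.BlockCharsA.PairLocal Cfsg.Agent.BlockCharsA.PairFusion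
open scoped ComplexConjugate

universe u

variable {G : Type u} [Group G] [Finite G] {p : ℕ} {M : Ideal Cfsg.AlgInt}
  {B : Set (Cfsg.IrrCharacter G)} {P : Subgroup G}
  {e : Set (Cfsg.IrrCharacter (Subgroup.centralizer (P : Set G)))}

/-- Two columns are orthogonal unless they belong to one orbit; a column has norm `|P|`. -/
theorem column_orth (hM : Cfsg.IsPModular p M) (hmax : Cfsg.IsMaximalBrauerPair p M B P e)
    (hab : ∀ x ∈ P, ∀ y ∈ P, x * y = y * x) (hfree : Frees P e) [Fintype G]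
    [Fintype (Cfsg.IrrCharacter G)] [DecidablePred (· ∈ B)] {v w : P} (hv : v ≠ 1) (hw : w ≠ 1)
    [Decidable (∃ β ∈ inertR P e, β v = w)] :
    ∑ χ ∈ Finset.univ.filter (fun χ => χ ∈ B),
      conj (coef p M e (χ : G → ℂ) (v : G)) * coef p M e (χ : G → ℂ) (w : G) =
      if ∃ β ∈ inertR P e, β v = w then (Nat.card P : ℂ) else 0 := by
  classical
  haveI := Fintype.ofFinite P
  haveI := Fintype.ofFinite (inertR P e)
  obtain ⟨χ₀, hχ₀⟩ := block_nonempty hM hmax.1.2.1
  set r := Nat.card (inertR P e) with hr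
  have hr0 : (r : ℂ) ≠ 0 := natCard_ne_zero
  have hP0 : (Nat.card P : ℂ) ≠ 0 := natCard_ne_zero
  let η : P → P → ℂ := fun z u => if ∃ β ∈ inertR P e, β z = u then 1 else 0
  have hη1 : ∀ z : P, z ≠ 1 → η z 1 = 0 := fun z hz => if_neg fun ⟨β, _, h⟩ =>
    hz (β.injective (h.trans (map_one β).symm))
  have hηs : ∀ z, Stable p M e (η z) := fun z => by
    refine stable_of_inertial hM hmax hab fun t ht u u' htu => ?_
    have hβ := inertAct_mem ht
    have hu : inertAct P e ⟨t, ht⟩ u = u' := Subtype.ext htu.symm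
    refine if_congr ⟨?_, ?_⟩ rfl rfl
    · rintro ⟨β, hb, h⟩
      exact ⟨inertAct P e ⟨t, ht⟩ * β, mul_mem hβ hb, by rw [MulAut.mul_apply, h, hu]⟩
    · rintro ⟨β, hb, h⟩
      refine ⟨(inertAct P e ⟨t, ht⟩)⁻¹ * β, mul_mem (inv_mem hβ) hb, ?_⟩
      rw [MulAut.mul_apply, h, ← hu]
      exact MulEquiv.symm_apply_apply _ _
  have hsum : ∀ (z : P) (F : P → ℂ), z ≠ 1 → (∀ β ∈ inertR P e, F (β z) = F z) →
      ∑ u : P, η z u * F u = r * F z := by
    intro z F hz hF
    simp only [η, ite_mul, one_mul, zero_mul, ← Finset.sum_filter]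
    have hinj : Function.Injective fun β : inertR P e => (β : MulAut P) z := by
      intro a b hab'
      have h1 : ((a : MulAut P)⁻¹ * b) z = z := by
        rw [MulAut.mul_apply, ← show (a : MulAut P) z = (b : MulAut P) z from hab']
        exact MulEquiv.symm_apply_apply _ _
      exact Subtype.ext (inv_mul_eq_one.1 (hfree.eq_one (mul_mem (inv_mem a.2) b.2) hz h1))
    have himg : (Finset.univ.filter fun u : P => ∃ β ∈ inertR P e, β z = u) =
        Finset.univ.image fun β : inertR P e => (β : MulAut P) z := by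
      ext u
      simp
    rw [himg, Finset.sum_image fun a _ b _ h => hinj h,
      Finset.sum_congr rfl fun (β : inertR P e) _ => hF β β.2, Finset.sum_const, Finset.card_univ,
      nsmul_eq_mul, hr, Nat.card_eq_fintype_card]
  set a : P → ℂ := fun u => coef p M e (χ₀ : G → ℂ) (u : G) with ha
  have hcR : ∀ (f : Cfsg.IrrCharacter G) (z : P), z ≠ 1 → ∀ β ∈ inertR P e,
      coef p M e (f : G → ℂ) ((β z : P) : G) = coef p M e (f : G → ℂ) (z : G) :=
    fun f z hz β hβ => coef_inertR hM hmax hab hfree hβ hz (irr_isClassFunction f)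
  set Θ : P → G → ℂ := fun z => star hM (wt p M e (η z)) (χ₀ : G → ℂ) with hΘ
  have hin : ∀ z : P, z ≠ 1 → ∀ χ : Cfsg.IrrCharacter G, χ ∈ B →
      (Nat.card P : ℂ) * Cfsg.classInner (Θ z) (χ : G → ℂ) =
        a z * conj (coef p M e (χ : G → ℂ) (z : G)) := by
    intro z hz χ hχ
    refine mul_left_cancel₀ hr0 ?_
    conv_lhs => rw [← star_one hM hmax hχ]
    rw [← mul_assoc, classInner_star_coef hM hmax hab hfree (hηs z) (stable_const 1) (hη1 z hz)
      (irr_isClassFunction χ₀) (irr_isClassFunction χ)]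
    simp only [map_one, mul_one]
    exact hsum z (fun u => a u * conj (coef p M e (χ : G → ℂ) (u : G))) hz fun β hβ => by
      simp only [ha, hcR _ z hz β hβ]
  have hgram : (Nat.card P : ℂ) * Cfsg.classInner (Θ v) (Θ w) =
      (if ∃ β ∈ inertR P e, β v = w then a v * conj (a w) else 0) := by
    refine mul_left_cancel₀ hr0 ?_
    rw [← mul_assoc, classInner_star_coef hM hmax hab hfree (hηs v) (hηs w) (hη1 v hv)
      (irr_isClassFunction χ₀) (irr_isClassFunction χ₀)]
    simp only [mul_assoc]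
    rw [hsum v (fun u => conj (η w u) * (coef p M e (χ₀ : G → ℂ) (u : G) *
      conj (coef p M e (χ₀ : G → ℂ) (u : G)))) hv fun β hβ => ?_]
    · simp only [η, ← ha]
      by_cases h : ∃ β ∈ inertR P e, β v = w
      · obtain ⟨β, hβ, rfl⟩ := h
        rw [if_pos (⟨β⁻¹, inv_mem hβ, MulEquiv.symm_apply_apply _ _⟩ :
          ∃ γ ∈ inertR P e, γ (β v) = v), if_pos ⟨β, hβ, rfl⟩, map_one, one_mul]
        simp only [ha, hcR _ v hv β hβ]
      · rw [if_neg fun ⟨γ, hγ, hγv⟩ => h ⟨γ⁻¹, inv_mem hγ, by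
          rw [← hγv]; exact MulEquiv.symm_apply_apply _ _⟩, if_neg h, map_zero, zero_mul]
    · have hiff : (∃ γ ∈ inertR P e, γ w = β v) ↔ ∃ γ ∈ inertR P e, γ w = v := by
        constructor
        · rintro ⟨γ, hγ, h⟩
          exact ⟨β⁻¹ * γ, mul_mem (inv_mem hβ) hγ, by
            rw [MulAut.mul_apply, h]; exact MulEquiv.symm_apply_apply _ _⟩
        · rintro ⟨γ, hγ, h⟩
          exact ⟨β * γ, mul_mem hβ hγ, by rw [MulAut.mul_apply, h]⟩
      simp only [η, hcR _ v hv β hβ, hiff]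
  have hexp : Cfsg.classInner (Θ v) (Θ w) = ∑ χ ∈ Finset.univ.filter (fun χ => χ ∈ B),
      Cfsg.classInner (Θ v) (χ : G → ℂ) * conj (Cfsg.classInner (Θ w) (χ : G → ℂ)) := by
    rw [classInner_eq_sum _ (isClassFunction_star_stable hM (hηs v) (irr_isClassFunction χ₀))]
    refine (Finset.sum_subset (Finset.subset_univ _) fun χ _ hχ => ?_).symm.trans
      (Finset.sum_congr rfl fun χ hχ => by rw [classInner_conj_symm (Θ w)])
    rw [classInner_star_outside hM hmax _ (irr_isClassFunction χ₀)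
      (fun h => hχ (Finset.mem_filter.2 ⟨Finset.mem_univ _, h⟩)), zero_mul]
  have hav : a v ≠ 0 := coef_ne_zero hM hmax hab (hfree.freeAt hv) hχ₀
  have haw : conj (a w) ≠ 0 := fun h =>
    coef_ne_zero hM hmax hab (hfree.freeAt hw) hχ₀ ((map_eq_zero _).1 h)
  refine mul_left_cancel₀ (mul_ne_zero hav haw) ?_
  calc a v * conj (a w) * ∑ χ ∈ Finset.univ.filter (fun χ => χ ∈ B),
        conj (coef p M e (χ : G → ℂ) (v : G)) * coef p M e (χ : G → ℂ) (w : G)
      = ∑ χ ∈ Finset.univ.filter (fun χ => χ ∈ B), ((Nat.card P : ℂ) *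
          Cfsg.classInner (Θ v) (χ : G → ℂ)) * conj ((Nat.card P : ℂ) *
          Cfsg.classInner (Θ w) (χ : G → ℂ)) := by
        rw [Finset.mul_sum]
        refine Finset.sum_congr rfl fun χ hχ => ?_
        rw [hin v hv χ (Finset.mem_filter.1 hχ).2, hin w hw χ (Finset.mem_filter.1 hχ).2,
          map_mul, Complex.conj_conj]
        ring
    _ = (Nat.card P : ℂ) * ((Nat.card P : ℂ) * Cfsg.classInner (Θ v) (Θ w)) := by
        rw [hexp, Finset.mul_sum, Finset.mul_sum]
        refine Finset.sum_congr rfl fun χ _ => ?_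
        rw [map_mul, Complex.conj_natCast]
        ring
    _ = _ := by
        rw [hgram]
        split_ifs <;> ring

/-- A column of coefficients of norm `|P|`. -/
theorem column_norm (hM : Cfsg.IsPModular p M) (hmax : Cfsg.IsMaximalBrauerPair p M B P e)
    (hab : ∀ x ∈ P, ∀ y ∈ P, x * y = y * x) (hfree : Frees P e) [Fintype G]
    [Fintype (Cfsg.IrrCharacter G)] [DecidablePred (· ∈ B)] {v : P} (hv : v ≠ 1) :
    ∑ χ ∈ Finset.univ.filter (fun χ => χ ∈ B),
      conj (coef p M e (χ : G → ℂ) (v : G)) * coef p M e (χ : G → ℂ) (v : G) =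
      (Nat.card P : ℂ) := by
  classical
  rw [column_orth hM hmax hab hfree hv hv, if_pos ⟨1, one_mem _, rfl⟩]

end Cfsg.Agent.Blocks.Star
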