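import Mathlib
import Cfsg.Agent.BlockCharsA.PairPrincipal
import Cfsg.Agent.Lib.Blocks.Star.ColumnOrth

/-!
# Values of the characters of the principal block on an abelian Sylow subgroup

At a free element the value of a character of the principal block is its coefficient.
-/

set_option linter.style.haveILetI false
set_option linter.unusedSectionVars false

namespace Cfsg.Agent.Blocks.Star

open Cfsg.Agent.Blocks Cfsg.Agent.Characters Cfsg.Agent.BlockCharsA
open Cfsg.Agent.BlockCharsA.BrauerPairs Cfsg.Agent.BlockCharsA.PairConj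
open Cfsg.Agent.BlockCharsA.PairLocal Cfsg.Agent.BlockCharsA.PairFusion
open Cfsg.Agent.BlockCharsA.PairPrincipal
open MonoidAlgebra
open scoped ComplexConjugate

universe u

variable {G : Type u} [Group G] [Finite G] {p : ℕ} {M : Ideal Cfsg.AlgInt} {P : Subgroup G}
  [Fintype (Cfsg.IrrCharacter G)]

theorem gAt_prin (hM : Cfsg.IsPModular p M)
    (hmax : Cfsg.IsMaximalBrauerPair p M (Cfsg.principalBlock M G) P (prin M P)) (v : P) :
    gAt p M (prin M P) (v : G) = prin M (Subgroup.zpowers (v : G)) :=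
  haveI := Fintype.ofFinite G
  eq_prin hM ((block_of_subpairLE hM (gAt_spec hM hmax v).1).2 hmax.1)

/-- The value at `v` is the coefficient. -/
theorem value_eq_coef (hM : Cfsg.IsPModular p M)
    (hmax : Cfsg.IsMaximalBrauerPair p M (Cfsg.principalBlock M G) P (prin M P))
    (hab : ∀ x ∈ P, ∀ y ∈ P, x * y = y * x) {v : P} (hv : FreeAt P (prin M P) (v : G))
    {χ : Cfsg.IrrCharacter G} (hχ : χ ∈ Cfsg.principalBlock M G) :
    (χ : G → ℂ) (v : G) = coef p M (prin M P) (χ : G → ℂ) (v : G) := by
  classical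
  haveI := Fintype.ofFinite G
  obtain ⟨-, hgB, he⟩ := gAt_spec hM hmax v
  have hreg : ¬ p ∣ orderOf (1 : CU (v : G)) := by simp [hM.1.ne_one]
  have hξ : trivIrr _ ∈ gAt p M (prin M P) (v : G) := by
    rw [gAt_prin hM hmax v]; exact trivIrr_mem_principal hM
  have h1 := th_eq_coef hM hmax hab hv (irr_isClassFunction χ) hξ (s := 1) hreg
  have hsum := eq_sum_th hM (M := M) (χ : G → ℂ) (v : G) 1
  rw [mul_one] at hsum
  rw [hsum, Finset.sum_eq_single (eps p M (prin M P) v)]
  · simpa [trivIrr] using h1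
  · intro ε hε hne
    obtain ⟨g, hg, rfl⟩ := mem_BI.1 hε
    refine th_eq_zero hM (isPBlock_principal M G) hχ (orderOf_top hM hmax v) hg (fun hpair => hne ?_)
      (mem_regAt.2 ⟨Commute.one_right _, by simp [hM.1.ne_one]⟩)
    rw [he, gAt_prin hM hmax v, eq_prin hM hpair]
  · exact fun h => absurd (eps_mem_BI hM hmax v) h

end Cfsg.Agent.Blocks.Star
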