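import Mathlib
import Cfsg.Agent.Lib.Blocks.Star.CoreRows
import Cfsg.Agent.Lib.Blocks.Star.PrincipalValues

/-!
# The principal block with a free inertial quotient of order three

Three characters of the principal block are constant signs on the non-identity elements of the
Sylow subgroup and the others are sums over orbits of linear characters.
-/

set_option linter.style.haveILetI false
set_option linter.unusedSectionVars false

namespace Cfsg.Agent.Blocks.Star

open Cfsg.Agent.Blocks Cfsg.Agent.Characters Cfsg.Agent.BlockCharsA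
open Cfsg.Agent.BlockCharsA.BrauerPairs Cfsg.Agent.BlockCharsA.PairConj
open Cfsg.Agent.BlockCharsA.PairLocal Cfsg.Agent.BlockCharsA.PairFusion
open Cfsg.Agent.BlockCharsA.PairPrincipal
open scoped ComplexConjugate

universe u

variable {G : Type u} [Group G] [Finite G] {p : ℕ} {M : Ideal Cfsg.AlgInt} {P : Subgroup G}

/-- The table, as far as two sums over the block and three degrees. -/
theorem principal_three [Fintype G] [Fintype (Cfsg.IrrCharacter G)] (hM : Cfsg.IsPModular p M)
    (hmax : Cfsg.IsMaximalBrauerPair p M (Cfsg.principalBlock M G) P (prin M P))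
    (hab : ∀ x ∈ P, ∀ y ∈ P, x * y = y * x) (hfree : Frees P (prin M P))
    (hr : Nat.card (inertR P (prin M P)) = 3) (h16 : 16 ≤ Nat.card P)
    [DecidablePred (· ∈ Cfsg.principalBlock M G)] {j u : P} (hj : j ≠ 1) (hu : u ≠ 1)
    (hju : ∀ β ∈ inertR P (prin M P), ∀ γ ∈ inertR P (prin M P), β j * γ j * u ≠ 1) :
    ∃ (ψ₂ ψ₃ : Cfsg.IrrCharacter G) (X Y : ℤ), ψ₂ ∈ Cfsg.principalBlock M G ∧
      ψ₂ ≠ trivIrr G ∧ (Nat.card P : ℤ) ∣ X - 1 ∧ (Nat.card P : ℤ) ∣ Y - 1 ∧
      (X = 1 → (ψ₂ : G → ℂ) 1 = 1 ∧ ∀ v ∈ P, (ψ₂ : G → ℂ) v = 1) ∧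
      ψ₃ ≠ ψ₂ ∧ X ≠ 0 ∧ Y ≠ 0 ∧
      ((∑ χ ∈ Finset.univ.filter (fun χ => χ ∈ Cfsg.principalBlock M G),
          (χ : G → ℂ) (j : G) ^ 2 * (χ : G → ℂ) (u : G) / (χ : G → ℂ) 1 = 0) →
        (1 + X + Y) * (X * Y + X + Y) = 9 * (X * Y)) := by
  classical
  haveI := fact_prime_of_pm hM
  set R := inertR P (prin M P) with hR
  haveI := Fintype.ofFinite P
  haveI := Fintype.ofFinite R
  have hcomm : ∀ a b : P, a * b = b * a := fun a b => Subtype.ext (hab a a.2 b b.2)
  haveI := finite_dual hcomm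
  haveI := Fintype.ofFinite (P →* ℂ)
  haveI := Fintype.ofFinite (Cfsg.principalBlock M G)
  have hP0 : (Nat.card P : ℂ) ≠ 0 := natCard_ne_zero
  have hP1 : P ≠ ⊥ := fun h => by rw [h, Subgroup.card_bot] at h16; omega
  have htriv : trivIrr G ∈ (Cfsg.principalBlock M G) := trivIrr_mem_principal hM
  have hval : ∀ {χ : Cfsg.IrrCharacter G}, χ ∈ (Cfsg.principalBlock M G) → ∀ {v : P}, v ≠ 1 →
      (χ : G → ℂ) (v : G) = coef p M (prin M P) (χ : G → ℂ) (v : G) :=
    @fun χ hχ v hv => value_eq_coef hM hmax hab (hfree.freeAt hv) hχ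
  have hinv : ∀ {χ : Cfsg.IrrCharacter G}, χ ∈ (Cfsg.principalBlock M G) → ∀ β ∈ R, ∀ v : P,
      (χ : G → ℂ) ((β v : P) : G) = (χ : G → ℂ) (v : G) := by
    intro χ _ β hβ v
    obtain ⟨t, ht, htv⟩ := inertR_exists hβ
    rw [htv v]
    exact irr_isClassFunction χ _ _
  -- multiplicities
  have hint : ∀ (χ : (Cfsg.principalBlock M G)) (μ : P →* ℂ), ∃ z : ℤ,
      ∑ v : P, ((χ : Cfsg.IrrCharacter G) : G → ℂ) (v : G) * (conj (μ v) - 1) =
        (Nat.card P : ℂ) * z := by
    intro χ μ
    have hgen := isGen_of_isCharacter (isCharacter_restrict P (irr_isCharacter (χ : Cfsg.IrrCharacter G)))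
    obtain ⟨a, ha⟩ := classInner_gen_int hgen
      (isGen_of_isCharacter (isCharacter_of_isIrr (isIrrCharacter_monoidHom μ)))
    obtain ⟨b, hb⟩ := classInner_gen_int hgen
      (isGen_of_isCharacter (isCharacter_of_isIrr (isIrrCharacter_monoidHom (1 : P →* ℂ))))
    refine ⟨a - b, ?_⟩
    rw [Int.cast_sub, ← ha, ← hb, classInner_def, classInner_def, ← mul_sub,
      ← mul_assoc, mul_inv_cancel₀ hP0, one_mul, ← Finset.sum_sub_distrib]
    refine Finset.sum_congr rfl fun v _ => ?_
    simp [mul_sub]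
  choose y hy using hint
  have hy1 : ∀ χ : (Cfsg.principalBlock M G), y χ 1 = 0 := fun χ => by
    refine Int.cast_injective (α := ℂ) (mul_left_cancel₀ hP0 ?_)
    rw [← hy]
    simp
  have hyR : ∀ (χ : (Cfsg.principalBlock M G)) (μ : P →* ℂ), ∀ β ∈ R, y χ (dact μ β) = y χ μ := fun χ μ β hβ => by
    refine Int.cast_injective (α := ℂ) (mul_left_cancel₀ hP0 ?_)
    rw [← hy, ← hy]
    refine Fintype.sum_equiv β.toEquiv _ _ fun v => ?_
    show _ = ((χ : Cfsg.IrrCharacter G) : G → ℂ) ((β v : P) : G) * (conj (μ (β v)) - 1)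
    rw [hinv χ.2 β hβ, dact_apply]
  have hfourier : ∀ (χ : (Cfsg.principalBlock M G)) (v : P), v ≠ 1 →
      ((χ : Cfsg.IrrCharacter G) : G → ℂ) (v : G) = ∑ μ : P →* ℂ, (y χ μ : ℂ) * μ v := by
    intro χ v hv
    refine mul_left_cancel₀ hP0 ?_
    simp only [Finset.mul_sum, ← mul_assoc, ← hy]
    simp only [Finset.sum_mul]
    rw [Finset.sum_comm, Finset.sum_congr rfl (g := fun w => if w = v then
      (Nat.card P : ℂ) * ((χ : Cfsg.IrrCharacter G) : G → ℂ) (w : G) else 0) fun w _ => ?_,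
      Finset.sum_ite_eq', if_pos (Finset.mem_univ v)]
    have hterm : ∀ μ : P →* ℂ, ((χ : Cfsg.IrrCharacter G) : G → ℂ) (w : G) * (conj (μ w) - 1) * μ v =
        ((χ : Cfsg.IrrCharacter G) : G → ℂ) (w : G) * (μ (w⁻¹ * v) - μ v) := fun μ => by
      rw [conj_linear, map_mul]; ring
    simp only [hterm, ← Finset.mul_sum, Finset.sum_sub_distrib, sum_dual_apply hcomm, if_neg hv,
      sub_zero, inv_mul_eq_one]
    by_cases h : w = v
    · rw [if_pos h, if_pos h, mul_comm]
    · rw [if_neg h, if_neg h, mul_zero]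
  have hne : ∀ χ : (Cfsg.principalBlock M G), ∃ μ, y χ μ ≠ 0 := by
    intro χ
    by_contra hcon
    push Not at hcon
    have h := hfourier χ j hj
    simp only [hcon, Int.cast_zero, zero_mul, Finset.sum_const_zero] at h
    rw [hval χ.2 hj] at h
    exact coef_ne_zero hM hmax hab (hfree.freeAt hj) χ.2 h
  let t0 : (Cfsg.principalBlock M G) := ⟨trivIrr G, htriv⟩
  have ht0 : ∀ μ : P →* ℂ, μ ≠ 1 → y t0 μ = -1 := by
    intro μ hμ
    refine Int.cast_injective (α := ℂ) (mul_left_cancel₀ hP0 ?_)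
    rw [← hy]
    simp only [t0, trivIrr, one_mul, Finset.sum_sub_distrib, ← map_sum, sum_hom_zero hμ, map_zero,
      Finset.sum_const, Finset.card_univ, nsmul_eq_mul, mul_one, ← Nat.card_eq_fintype_card]
    push_cast
    ring
  -- the Gram matrix
  have hgram : ∀ μ ν : P →* ℂ, μ ≠ 1 → ν ≠ 1 → ∑ χ : (Cfsg.principalBlock M G), y χ μ * y χ ν =
      3 + (Nat.card {γ : R // dact ν γ = μ} : ℤ) := by
    intro μ ν hμ hν
    refine Int.cast_injective (α := ℂ) (mul_left_cancel₀ (mul_ne_zero hP0 hP0) ?_)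
    push_cast
    calc (Nat.card P : ℂ) * (Nat.card P : ℂ) * ∑ χ : (Cfsg.principalBlock M G), (y χ μ : ℂ) * (y χ ν : ℂ)
        = ∑ χ : (Cfsg.principalBlock M G), conj ((Nat.card P : ℂ) * (y χ μ : ℂ)) * ((Nat.card P : ℂ) * (y χ ν : ℂ)) := by
          rw [Finset.mul_sum]
          refine Finset.sum_congr rfl fun χ _ => ?_
          rw [map_mul, Complex.conj_natCast, map_intCast]
          ring
      _ = ∑ v : P, ∑ w : P, (μ v - 1) * (conj (ν w) - 1) *
            ∑ χ : (Cfsg.principalBlock M G), conj (((χ : Cfsg.IrrCharacter G) : G → ℂ) (v : G)) *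
              ((χ : Cfsg.IrrCharacter G) : G → ℂ) (w : G) := by
          simp only [← hy, map_sum, Finset.sum_mul_sum]
          rw [Finset.sum_comm]
          refine Finset.sum_congr rfl fun v _ => ?_
          rw [Finset.sum_comm]
          refine Finset.sum_congr rfl fun w _ => ?_
          rw [Finset.mul_sum]
          refine Finset.sum_congr rfl fun χ _ => ?_
          simp only [map_mul, map_sub, map_one, Complex.conj_conj]
          ring
      _ = ∑ v : P, ∑ β : R, (μ v - 1) * (conj (ν ((β : MulAut P) v)) - 1) * (Nat.card P : ℂ) := by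
          refine Finset.sum_congr rfl fun v _ => ?_
          rcases eq_or_ne v 1 with rfl | hv
          · simp
          have horb : ∀ w : P, w ≠ 1 → ∑ χ : (Cfsg.principalBlock M G), conj (((χ : Cfsg.IrrCharacter G) : G → ℂ) (v : G)) *
              ((χ : Cfsg.IrrCharacter G) : G → ℂ) (w : G) =
              if ∃ β ∈ R, β v = w then (Nat.card P : ℂ) else 0 := by
            intro w hw
            rw [← column_orth hM hmax hab hfree hv hw, Finset.sum_subtype (p := (· ∈ (Cfsg.principalBlock M G)))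
              (Finset.univ.filter (· ∈ (Cfsg.principalBlock M G))) (by simp)]
            exact Finset.sum_congr rfl fun χ _ => by rw [hval χ.2 hv, hval χ.2 hw]
          have hinj : Function.Injective fun β : R => (β : MulAut P) v := by
            intro a b hab'
            have h1 : ((a : MulAut P)⁻¹ * b) v = v := by
              rw [MulAut.mul_apply, ← show (a : MulAut P) v = (b : MulAut P) v from hab']
              exact MulEquiv.symm_apply_apply _ _
            exact Subtype.ext (inv_mul_eq_one.1 (hfree.eq_one (mul_mem (inv_mem a.2) b.2) hv h1))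
          rw [← Finset.sum_image (f := fun w => (μ v - 1) * (conj (ν w) - 1) * (Nat.card P : ℂ))
            fun a _ b _ h => hinj h]
          symm
          refine Finset.sum_subset_zero_on_sdiff (Finset.subset_univ _) (fun w hw => ?_)
            fun w hw => ?_
          · rcases eq_or_ne w 1 with rfl | hw1
            · simp
            rw [horb w hw1, if_neg fun ⟨β, hβ, hβw⟩ => (Finset.mem_sdiff.1 hw).2
              (Finset.mem_image.2 ⟨⟨β, hβ⟩, Finset.mem_univ _, hβw⟩), mul_zero]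
          · obtain ⟨β, -, rfl⟩ := Finset.mem_image.1 hw
            have hw1 : (β : MulAut P) v ≠ 1 := fun h =>
              hv ((β : MulAut P).injective (h.trans (map_one _).symm))
            rw [horb _ hw1, if_pos ⟨β, β.2, rfl⟩]
      _ = (Nat.card P : ℂ) * (Nat.card P : ℂ) *
            (3 + (Nat.card {γ : R // dact ν γ = μ} : ℂ)) := by
          rw [Finset.sum_comm]
          have hterm : ∀ β : R, ∑ v : P, (μ v - 1) * (conj (ν ((β : MulAut P) v)) - 1) *
              (Nat.card P : ℂ) = (Nat.card P : ℂ) * (Nat.card P : ℂ) *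
                (1 + if dact ν β = μ then 1 else 0) := by
            intro β
            have e1 : ∀ v : P, (μ v - 1) * (conj (ν ((β : MulAut P) v)) - 1) * (Nat.card P : ℂ) =
                (μ v * conj (dact ν β v) - μ v - conj (dact ν β v) + 1) * (Nat.card P : ℂ) :=
              fun v => by rw [dact_apply]; ring
            have h0 : ∑ v, conj (dact ν β v) = 0 := by
              rw [← map_sum, sum_hom_zero (dact_ne_one hν _), map_zero]
            simp only [e1, ← Finset.sum_mul, Finset.sum_add_distrib, Finset.sum_sub_distrib,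
              sum_hom_conj, sum_hom_zero hμ, h0, Finset.sum_const, Finset.card_univ, nsmul_eq_mul,
              mul_one, ← Nat.card_eq_fintype_card, sub_zero]
            by_cases h : dact ν β = μ
            · rw [if_pos h, if_pos h.symm]; ring
            · rw [if_neg h, if_neg (Ne.symm h)]; ring
          simp only [hterm, ← Finset.mul_sum, Finset.sum_add_distrib, Finset.sum_const,
            Finset.card_univ, nsmul_eq_mul, mul_one, Finset.sum_boole]
          rw [← Nat.card_eq_fintype_card, hr, Nat.card_eq_fintype_card (α := {γ : R // dact ν γ = μ}),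
            Fintype.card_subtype]
          norm_num
  -- the orbits on the linear characters
  let D := {μ : P →* ℂ // μ ≠ 1}
  have hfix : ∀ (μ : D) (γ : R), dact μ.1 γ = μ.1 → γ = 1 := fun μ γ h =>
    Subtype.ext (hfree.dual_eq_one hab μ.2 γ.2 h)
  let st : Setoid D :=
    { r := fun μ ν => ∃ γ : R, dact μ.1 γ = ν.1
      iseqv :=
        { refl := fun μ => ⟨1, dact_one _⟩
          symm := by
            rintro μ ν ⟨γ, hγ⟩
            exact ⟨γ⁻¹, by rw [← hγ, dact_dact, Subgroup.coe_inv, mul_inv_cancel, dact_one]⟩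
          trans := by
            rintro μ ν ρ ⟨γ, hγ⟩ ⟨δ, hδ⟩
            exact ⟨γ * δ, by rw [Subgroup.coe_mul, ← dact_dact, hγ, hδ]⟩ } }
  let I := Quotient st
  haveI := Fintype.ofFinite I
  have hbij : Function.Bijective fun a : I × R =>
      (⟨dact a.1.out.1 a.2, dact_ne_one a.1.out.2 _⟩ : D) := by
    constructor
    · rintro ⟨i, γ⟩ ⟨k, δ⟩ hik
      have h1 : dact i.out.1 γ = dact k.out.1 δ := congrArg Subtype.val hik
      have h2 : i = k := by
        rw [← Quotient.out_eq i, ← Quotient.out_eq k]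
        refine Quotient.sound ⟨γ * δ⁻¹, ?_⟩
        rw [Subgroup.coe_mul, ← dact_dact, h1, dact_dact, Subgroup.coe_inv, mul_inv_cancel, dact_one]
      subst h2
      have h3 := hfix i.out (γ * δ⁻¹) (by
        rw [Subgroup.coe_mul, ← dact_dact, h1, dact_dact, Subgroup.coe_inv, mul_inv_cancel,
          dact_one])
      rw [mul_inv_eq_one.1 h3]
    · intro μ
      obtain ⟨γ, hγ⟩ := Quotient.mk_out (s := st) μ
      exact ⟨(Quotient.mk st μ, γ), Subtype.ext hγ⟩
  let E := Equiv.ofBijective _ hbij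
  have hsumD : ∀ F : (P →* ℂ) → ℂ, F 1 = 0 →
      ∑ μ : P →* ℂ, F μ = ∑ i : I, ∑ β : R, F (dact i.out.1 β) := by
    intro F hF
    rw [← Fintype.sum_prod_type' (f := fun (i : I) (β : R) => F (dact i.out.1 β)),
      Fintype.sum_equiv E (fun a : I × R => F (dact a.1.out.1 a.2)) (fun μ : D => F μ.1) fun a => rfl,
      ← Finset.sum_subtype (Finset.univ.filter (fun μ : P →* ℂ => μ ≠ 1)) (by simp) F,
      Finset.sum_filter]
    exact Finset.sum_congr rfl fun μ _ => by
      by_cases h : μ = 1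
      · rw [if_neg (not_not.2 h), h, hF]
      · rw [if_pos h]
  have hIcard : Fintype.card I * 3 + 1 = Nat.card P := by
    have h := Fintype.card_congr E
    rw [Fintype.card_prod, ← Nat.card_eq_fintype_card (α := R), hr, Fintype.card_subtype_compl,
      Fintype.card_subtype_eq, ← Nat.card_eq_fintype_card (α := (P →* ℂ)), card_dual hcomm] at h
    omega
  obtain ⟨n, hn, hk, hl1, -, -⟩ := free_counts hM hmax hab hP1 hfree
  have hBcard : 5 < Fintype.card (Cfsg.principalBlock M G) := by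
    rw [← Nat.card_eq_fintype_card, hk]
    rw [← hR, hr] at hn
    omega
  obtain ⟨W, s, f, hW3, hs, hfinj, hfW, hfsurj, hcW, hcf, hc0⟩ :=
    CoreRows.exists_shape (fun (i : I) (χ : (Cfsg.principalBlock M G)) => y χ i.out.1) (fun i k => by
      rw [hgram _ _ i.out.2 k.out.2]
      congr 1
      split_ifs with hik
      · subst hik
        rw [Nat.card_eq_one_iff_exists.2 ⟨⟨1, dact_one _⟩, fun γ => Subtype.ext (hfix _ γ.1 γ.2)⟩,
          Nat.cast_one]
      · haveI : IsEmpty {γ : R // dact k.out.1 γ = i.out.1} := ⟨fun γ => hik (by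
          rw [← Quotient.out_eq i, ← Quotient.out_eq k]
          exact (Quotient.sound (⟨γ.1, γ.2⟩ : st k.out i.out)).symm)⟩
        rw [Nat.card_of_isEmpty, Nat.cast_zero])
      (fun χ => by
        obtain ⟨μ, hμ⟩ := hne χ
        have hμ1 : μ ≠ 1 := fun h => hμ (h ▸ hy1 χ)
        obtain ⟨γ, hγ⟩ := Quotient.mk_out (s := st) (⟨μ, hμ1⟩ : D)
        refine ⟨Quotient.mk st ⟨μ, hμ1⟩, fun h0 => hμ ?_⟩
        have := hyR χ (Quotient.mk st (⟨μ, hμ1⟩ : D)).out.1 _ γ.2
        rw [hγ] at this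
        exact this.trans h0)
      (by omega) hBcard
  -- values in terms of the orbit sums
  let O : I → P → ℂ := fun i v => ∑ β : R, i.out.1 ((β : MulAut P) v)
  have hdecomp : ∀ (χ : (Cfsg.principalBlock M G)) (v : P), v ≠ 1 → ((χ : Cfsg.IrrCharacter G) : G → ℂ) (v : G) =
      ∑ i : I, (y χ i.out.1 : ℂ) * O i v := by
    intro χ v hv
    rw [hfourier χ v hv, hsumD _ (by rw [hy1, Int.cast_zero, zero_mul])]
    refine Finset.sum_congr rfl fun i _ => ?_
    rw [Finset.mul_sum]
    refine Finset.sum_congr rfl fun β _ => ?_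
    rw [hyR χ _ _ β.2, dact_apply]
  have hOsum : ∀ v : P, v ≠ 1 → ∑ i : I, O i v = -1 := by
    intro v hv
    have h := hsumD (fun μ => if μ = 1 then 0 else μ v) (if_pos rfl)
    simp only [dact_ne_one (fun h => (Quotient.out (_ : I)).2 h), if_false, dact_apply] at h
    rw [← h]
    have h2 : ∑ μ : P →* ℂ, (if μ = 1 then (0 : ℂ) else μ v) =
        (∑ μ : P →* ℂ, μ v) - ∑ μ : P →* ℂ, if μ = 1 then μ v else 0 := by
      rw [← Finset.sum_sub_distrib]
      exact Finset.sum_congr rfl fun μ _ => by split <;> simp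
    rw [h2, sum_dual_apply hcomm, if_neg hv, Finset.sum_ite_eq', if_pos (Finset.mem_univ _)]
    simp
  have hvW : ∀ χ ∈ W, ∀ v : P, v ≠ 1 →
      ((χ : Cfsg.IrrCharacter G) : G → ℂ) (v : G) = -(s χ : ℂ) := by
    intro χ hχ v hv
    rw [hdecomp χ v hv, Finset.sum_congr rfl fun i _ => by rw [hcW χ hχ i], ← Finset.mul_sum,
      hOsum v hv, mul_neg, mul_one]
  have hvE : ∀ i : I, ∀ v : P, v ≠ 1 →
      ((f i : Cfsg.IrrCharacter G) : G → ℂ) (v : G) = (s (f i) : ℂ) * O i v := by
    intro i v hv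
    rw [hdecomp (f i) v hv, Finset.sum_eq_single i, hcf i]
    · intro k _ hk
      rw [hc0 k (f i) (hfW i) (fun h => hk (hfinj h).symm), Int.cast_zero, zero_mul]
    · exact fun h => absurd (Finset.mem_univ i) h
  -- the degrees
  let d : (Cfsg.principalBlock M G) → ℤ := fun χ => (Cfsg.charDegree ((χ : Cfsg.IrrCharacter G) : G → ℂ) : ℤ)
  have hd : ∀ χ : (Cfsg.principalBlock M G), (d χ : ℂ) = ((χ : Cfsg.IrrCharacter G) : G → ℂ) 1 := fun χ => by
    simp only [d, Int.cast_natCast, charDegree_cast]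
  have hd0 : ∀ χ : (Cfsg.principalBlock M G), d χ ≠ 0 := fun χ => by
    simp only [d, Ne, Int.natCast_eq_zero]
    exact (charDegree_pos _).ne'
  set T : ℤ := ∑ χ ∈ W, -(s χ * d χ) with hT
  have hdeg : ∀ i : I, s (f i) * d (f i) = T := by
    intro i
    have h0 : ∑ χ : (Cfsg.principalBlock M G), (d χ : ℂ) * (y χ i.out.1 : ℂ) = 0 := by
      refine mul_left_cancel₀ hP0 ?_
      rw [mul_zero, Finset.mul_sum, Finset.sum_congr rfl fun (χ : (Cfsg.principalBlock M G)) _ => show
          (Nat.card P : ℂ) * ((d χ : ℂ) * (y χ i.out.1 : ℂ)) = ∑ v : P,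
            (d χ : ℂ) * ((χ : Cfsg.IrrCharacter G) : G → ℂ) (v : G) * (conj (i.out.1 v) - 1) by
        rw [mul_left_comm, ← hy, Finset.mul_sum]
        exact Finset.sum_congr rfl fun v _ => by ring, Finset.sum_comm]
      refine Finset.sum_eq_zero fun v _ => ?_
      rw [← Finset.sum_mul]
      rcases eq_or_ne v 1 with rfl | hv
      · simp
      · rw [Finset.sum_congr rfl fun (χ : (Cfsg.principalBlock M G)) _ => by rw [hd, hval χ.2 hv],
          ← Finset.sum_subtype (p := (· ∈ (Cfsg.principalBlock M G))) (Finset.univ.filter (· ∈ (Cfsg.principalBlock M G))) (by simp)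
            (fun χ : Cfsg.IrrCharacter G => (χ : G → ℂ) 1 *
              coef p M (prin M P) (χ : G → ℂ) (v : G)),
          sum_val_coef_eq_zero hM hmax hab (hfree.freeAt hv) hv (by simp [hM.1.ne_one]), zero_mul]
    have h1 : ∑ χ : (Cfsg.principalBlock M G), d χ * y χ i.out.1 = 0 := by exact_mod_cast h0
    rw [← Finset.sum_add_sum_compl W,
      Finset.sum_congr rfl fun χ hχ => show d χ * y χ i.out.1 = s χ * d χ by rw [hcW χ hχ i]; ring,
      Finset.sum_eq_single (f i) (fun χ hχ hne => by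
        rw [hc0 i χ (Finset.mem_compl.1 hχ) hne, mul_zero])
        (fun h => absurd (Finset.mem_compl.2 (hfW i)) h), hcf i] at h1
    rw [hT, Finset.sum_neg_distrib]
    linarith
  obtain ⟨i₀⟩ : Nonempty I := Fintype.card_pos_iff.1 (by omega)
  have hT0 : T ≠ 0 := by
    rw [← hdeg i₀]
    refine mul_ne_zero ?_ (hd0 _)
    rcases hs (f i₀) with h | h <;> rw [h] <;> norm_num
  have ht0W : t0 ∈ W := by
    by_contra h
    obtain ⟨i, hi⟩ := hfsurj t0 h
    obtain ⟨k, hk'⟩ : ∃ k, k ≠ i := Fintype.exists_ne_of_one_lt_card (by omega) i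
    have := hc0 k t0 h (by rw [← hi]; exact fun e => hk' (hfinj e).symm)
    rw [ht0 _ k.out.2] at this
    norm_num at this
  have hst0 : s t0 = -1 := by rw [← hcW t0 ht0W i₀, ht0 _ i₀.out.2]
  have hdt0 : d t0 = 1 := by
    have := hd t0
    simp only [t0, trivIrr] at this
    exact_mod_cast this
  obtain ⟨χ₂, χ₃, h23, hW'⟩ := Finset.card_eq_two.1
    (show (W.erase t0).card = 2 by rw [Finset.card_erase_of_mem ht0W, hW3])
  have h2W : χ₂ ∈ W.erase t0 := by rw [hW']; simp
  have h3W : χ₃ ∈ W.erase t0 := by rw [hW']; simp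
  -- the congruence
  have hcong : ∀ χ ∈ W, (Nat.card P : ℤ) ∣ -(s χ * d χ) - 1 := by
    intro χ hχ
    have hgen := isGen_of_isCharacter (isCharacter_restrict P (irr_isCharacter (χ : Cfsg.IrrCharacter G)))
    obtain ⟨b, hb⟩ := classInner_gen_int hgen
      (isGen_of_isCharacter (isCharacter_of_isIrr (isIrrCharacter_monoidHom (1 : P →* ℂ))))
    refine ⟨-(s χ * b) - 1, Int.cast_injective (α := ℂ) ?_⟩
    push_cast
    rw [← hb, classInner_def]
    simp only [MonoidHom.one_apply, map_one, mul_one]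
    rw [← Finset.add_sum_erase _ _ (Finset.mem_univ (1 : P)), OneMemClass.coe_one, ← hd,
      Finset.sum_congr rfl fun v hv => hvW χ hχ v (Finset.mem_erase.1 hv).1,
      Finset.sum_const, Finset.card_erase_of_mem (Finset.mem_univ _), Finset.card_univ,
      ← Nat.card_eq_fintype_card, nsmul_eq_mul, Nat.cast_sub Nat.card_pos, Nat.cast_one]
    rcases hs χ with h | h <;> rw [h] <;> push_cast <;> field_simp <;> ring
  refine ⟨χ₂.1, χ₃.1, -(s χ₂ * d χ₂), -(s χ₃ * d χ₃), χ₂.2,
    fun h => (Finset.mem_erase.1 h2W).1 (Subtype.ext h), hcong _ (Finset.mem_erase.1 h2W).2,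
    hcong _ (Finset.mem_erase.1 h3W).2, fun hX => ?_, fun h => h23 (Subtype.ext h.symm),
    neg_ne_zero.2 (mul_ne_zero (by rcases hs χ₂ with h | h <;> rw [h] <;> norm_num) (hd0 _)),
    neg_ne_zero.2 (mul_ne_zero (by rcases hs χ₃ with h | h <;> rw [h] <;> norm_num) (hd0 _)),
    fun hS2 => ?_⟩
  · have hdpos : 0 < d χ₂ := Int.natCast_pos.2 (charDegree_pos _)
    have hs2 : s χ₂ = -1 := by
      rcases hs χ₂ with h | h
      · rw [h] at hX; linarith
      · exact h
    rw [hs2] at hX
    have hd2 : d χ₂ = 1 := by linarith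
    refine ⟨by rw [← hd, hd2, Int.cast_one], fun v hv => ?_⟩
    rcases eq_or_ne (⟨v, hv⟩ : P) 1 with h | h
    · rw [show v = 1 from congrArg Subtype.val h, ← hd, hd2, Int.cast_one]
    · rw [show v = ((⟨v, hv⟩ : P) : G) from rfl, hvW χ₂ (Finset.mem_erase.1 h2W).2 _ h, hs2]
      simp
  -- the multiplication sum
  rw [Finset.sum_subtype (p := (· ∈ (Cfsg.principalBlock M G))) (Finset.univ.filter (· ∈ (Cfsg.principalBlock M G))) (by simp),
    ← Finset.sum_add_sum_compl W] at hS2
  have hsq : ∀ χ : (Cfsg.principalBlock M G), (s χ : ℂ) * s χ = 1 := fun χ => by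
    rcases hs χ with h | h <;> rw [h] <;> norm_num
  have hcomplW : Wᶜ = Finset.univ.image f := by
    ext χ
    simp only [Finset.mem_compl, Finset.mem_image, Finset.mem_univ, true_and]
    exact ⟨fun h => hfsurj χ h, fun ⟨i, hi⟩ => hi ▸ hfW i⟩
  rw [hcomplW, Finset.sum_image fun a _ b _ h => hfinj h] at hS2
  have hexc : ∀ i : I, ((f i : Cfsg.IrrCharacter G) : G → ℂ) (j : G) ^ 2 *
      ((f i : Cfsg.IrrCharacter G) : G → ℂ) (u : G) / ((f i : Cfsg.IrrCharacter G) : G → ℂ) 1 =
      (T : ℂ)⁻¹ * (O i j ^ 2 * O i u) := by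
    intro i
    rw [hvE i j hj, hvE i u hu, ← hd (f i), ← hdeg i]
    have : (d (f i) : ℂ) ≠ 0 := Int.cast_ne_zero.2 (hd0 _)
    push_cast
    rcases hs (f i) with h | h <;> rw [h] <;> push_cast <;> field_simp
  have hO : ∑ i : I, O i j ^ 2 * O i u = -9 := by
    have hshift : ∀ (i : I) (γ : R) (v : P),
        ∑ β : R, dact i.out.1 γ ((β : MulAut P) v) = O i v := fun i γ v =>
      Fintype.sum_equiv (Equiv.mulLeft γ) _ _ fun β => by
        simp only [dact_apply, Equiv.coe_mulLeft, Subgroup.coe_mul, MulAut.mul_apply]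
    let F : (P →* ℂ) → ℂ := fun μ => if μ = 1 then 0 else
      (∑ β : R, μ ((β : MulAut P) j)) * (∑ β : R, μ ((β : MulAut P) j)) * μ u
    have h := hsumD F (if_pos rfl)
    have e1 : ∀ i : I, O i j ^ 2 * O i u = ∑ β : R, F (dact i.out.1 β) := by
      intro i
      simp only [F, dact_ne_one i.out.2, if_false, hshift]
      rw [← Finset.mul_sum, sq]
      simp only [O, dact_apply]
    rw [Finset.sum_congr rfl fun i _ => e1 i, ← h]
    have e2 : ∀ μ : P →* ℂ, F μ = (∑ β : R, ∑ γ : R,
        μ ((β : MulAut P) j * (γ : MulAut P) j * u)) - if μ = 1 then 9 else 0 := by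
      intro μ
      by_cases hμ : μ = 1
      · subst hμ
        simp only [F, if_true, MonoidHom.one_apply, Finset.sum_const, Finset.card_univ,
          nsmul_eq_mul, mul_one, ← Nat.card_eq_fintype_card, hr]
        norm_num
      · simp only [F, if_neg hμ, sub_zero, Finset.sum_mul, Finset.mul_sum, map_mul]
        exact Finset.sum_comm
    simp only [e2, Finset.sum_sub_distrib, Finset.sum_ite_eq', Finset.mem_univ, if_true]
    rw [Finset.sum_comm, Finset.sum_eq_zero fun β _ => ?_]
    · ring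
    rw [Finset.sum_comm]
    exact Finset.sum_eq_zero fun γ _ => by
      rw [sum_dual_apply hcomm, if_neg (hju β β.2 γ γ.2)]
  have hWterm : ∀ χ ∈ W, ((χ : Cfsg.IrrCharacter G) : G → ℂ) (j : G) ^ 2 *
      ((χ : Cfsg.IrrCharacter G) : G → ℂ) (u : G) / ((χ : Cfsg.IrrCharacter G) : G → ℂ) 1 =
      ((-(s χ * d χ) : ℤ) : ℂ)⁻¹ := by
    intro χ hχ
    rw [hvW χ hχ j hj, hvW χ hχ u hu, ← hd χ]
    have : (d χ : ℂ) ≠ 0 := Int.cast_ne_zero.2 (hd0 _)
    rcases hs χ with h | h <;> rw [h] <;> push_cast <;> field_simp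
  rw [Finset.sum_congr rfl hWterm, Finset.sum_congr rfl fun i _ => hexc i, ← Finset.mul_sum, hO,
    ← Finset.insert_erase ht0W, hW', Finset.sum_insert (by
      rw [← hW']; exact Finset.notMem_erase _ _), Finset.sum_pair h23, hst0, hdt0] at hS2
  have hTeq : T = 1 + -(s χ₂ * d χ₂) + -(s χ₃ * d χ₃) := by
    rw [hT, ← Finset.insert_erase ht0W, hW', Finset.sum_insert (by
      rw [← hW']; exact Finset.notMem_erase _ _), Finset.sum_pair h23, hst0, hdt0]
    ring
  set X := -(s χ₂ * d χ₂) with hX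
  set Y := -(s χ₃ * d χ₃) with hY
  have hX0 : (X : ℂ) ≠ 0 := Int.cast_ne_zero.2 (neg_ne_zero.2 (mul_ne_zero
    (by rcases hs χ₂ with h | h <;> rw [h] <;> norm_num) (hd0 _)))
  have hY0 : (Y : ℂ) ≠ 0 := Int.cast_ne_zero.2 (neg_ne_zero.2 (mul_ne_zero
    (by rcases hs χ₃ with h | h <;> rw [h] <;> norm_num) (hd0 _)))
  have hT0' : (T : ℂ) ≠ 0 := Int.cast_ne_zero.2 hT0
  refine Int.cast_injective (α := ℂ) ?_
  rw [← hTeq]
  push_cast
  field_simp at hS2
  linear_combination hS2

end Cfsg.Agent.Blocks.Star
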