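import Mathlib
import Cfsg.Agent.Lib.Blocks.KleinFourBlock
import Cfsg.Agent.Lib.Blocks.Star.ColumnOrth

/-!
# The coefficient table of a block with Klein four defect group
-/

set_option linter.style.haveILetI false
set_option linter.unusedSectionVars false

namespace Cfsg.Agent.Blocks.Star

open Cfsg.Agent.Blocks Cfsg.Agent.Characters Cfsg.Agent.BlockCharsA
open Cfsg.Agent.BlockCharsA.BrauerPairs Cfsg.Agent.BlockCharsA.PairConj
open Cfsg.Agent.BlockCharsA.PairLocal Cfsg.Agent.BlockCharsA.PairFusion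
open scoped ComplexConjugate

universe u

variable {G : Type u} [Group G] [Finite G] {M : Ideal Cfsg.AlgInt}
  {B : Set (Cfsg.IrrCharacter G)} {P : Subgroup G}
  {e : Set (Cfsg.IrrCharacter (Subgroup.centralizer (P : Set G)))}

theorem klein_mul_self (hV : IsKleinFour P) (v : P) : (v : G) * v = 1 := by
  haveI := hV
  exact_mod_cast congrArg Subtype.val (IsKleinFour.mul_self v)

theorem frees_of_klein (hM : Cfsg.IsPModular 2 M) (hmax : Cfsg.IsMaximalBrauerPair 2 M B P e)
    (hV : IsKleinFour P) : Frees P e := by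
  intro t ht v hv hv1 hfix
  refine KleinFourBlock.mem_centralizer_of_fix hM hmax hV (w := ⟨t, ht⟩) (t := ⟨v, hv⟩)
    (fun h => hv1 (congrArg Subtype.val h)) (Subtype.ext ?_)
  rw [coe_autHom]
  exact hfix

/-- Four nonzero integers with squares summing to four are signs. -/
theorem sign_of_sum {ι : Type*} (s : Finset ι) (a : ι → ℤ) (h0 : ∀ i ∈ s, a i ≠ 0)
    (hs : s.card = 4) (hsum : ∑ i ∈ s, a i ^ 2 = 4) : ∀ i ∈ s, a i = 1 ∨ a i = -1 := by
  intro i hi
  by_contra hcon
  push Not at hcon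
  have h1 : ∀ j ∈ s, 1 ≤ a j ^ 2 := fun j hj => sq_pos_of_ne_zero (h0 j hj)
  have h4 : 4 ≤ a i ^ 2 := by
    rcases le_or_gt 0 (a i) with h | h
    · have : 2 ≤ a i := by have := h0 i hi; omega
      nlinarith
    · have : a i ≤ -2 := by omega
      nlinarith
  have h5 : ∑ j ∈ s, (1 : ℤ) < ∑ j ∈ s, a j ^ 2 :=
    Finset.sum_lt_sum h1 ⟨i, hi, by linarith⟩
  rw [Finset.sum_const, hs, hsum] at h5
  norm_num at h5

variable [Fintype (Cfsg.IrrCharacter G)]

/-- The coefficients of a Klein four block are signs. -/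
theorem klein_signs (hM : Cfsg.IsPModular 2 M) (hmax : Cfsg.IsMaximalBrauerPair 2 M B P e)
    (hV : IsKleinFour P) :
    ∃ q : Cfsg.IrrCharacter G → P → ℤ, ∀ χ ∈ B, ∀ v : P, v ≠ 1 →
      coef 2 M e (χ : G → ℂ) (v : G) = q χ v ∧ (q χ v = 1 ∨ q χ v = -1) := by
  classical
  haveI := Fintype.ofFinite G
  have hab := KleinFourBlock.comm_of_klein hV
  have hfree := frees_of_klein hM hmax hV
  choose q hq using fun (χ : Cfsg.IrrCharacter G) (v : P) =>
    coef_exists_int (p := 2) (e := e) hM (irr_isCharacter χ) (klein_mul_self hV v)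
  refine ⟨q, fun χ hχ v hv => ⟨hq χ v, ?_⟩⟩
  have hcard : (Finset.univ.filter fun χ => χ ∈ B).card = 4 := by
    rw [← Fintype.card_subtype, ← Nat.card_eq_fintype_card]
    exact (KleinFourBlock.invariants hM hmax hV _ rfl).2.1
  refine sign_of_sum _ (fun χ => q χ v) (fun ψ hψ => ?_) hcard ?_ χ
    (Finset.mem_filter.2 ⟨Finset.mem_univ _, hχ⟩)
  · intro h0
    refine coef_ne_zero hM hmax hab (hfree.freeAt hv) (Finset.mem_filter.1 hψ).2 ?_
    rw [hq, h0, Int.cast_zero]
  · refine Int.cast_injective (α := ℂ) ?_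
    push_cast
    have h := column_norm hM hmax hab hfree hv
    rw [hV.card_four] at h
    push_cast at h
    rw [← h]
    refine Finset.sum_congr rfl fun ψ _ => ?_
    rw [hq, map_intCast, sq]

/-- Distinct columns of a block with trivial inertial quotient are orthogonal. -/
theorem klein_orth (hM : Cfsg.IsPModular 2 M) (hmax : Cfsg.IsMaximalBrauerPair 2 M B P e)
    (hV : IsKleinFour P) (hr : Nat.card (inertR P e) = 1) [DecidablePred (· ∈ B)]
    {q : Cfsg.IrrCharacter G → P → ℤ} (hq : ∀ χ ∈ B, ∀ v : P, v ≠ 1 →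
      coef 2 M e (χ : G → ℂ) (v : G) = q χ v) {v w : P} (hv : v ≠ 1) (hw : w ≠ 1) (hne : v ≠ w) :
    ∑ χ ∈ Finset.univ.filter (fun χ => χ ∈ B), q χ v * q χ w = 0 := by
  classical
  haveI := Fintype.ofFinite G
  have hab := KleinFourBlock.comm_of_klein hV
  have h := column_orth hM hmax hab (frees_of_klein hM hmax hV) hv hw
  rw [if_neg (by
    rintro ⟨β, hβ, hβv⟩
    rw [Subgroup.eq_bot_of_card_eq _ hr, Subgroup.mem_bot] at hβ
    subst hβ
    exact hne hβv)] at h
  refine Int.cast_injective (α := ℂ) ?_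
  push_cast
  rw [← h]
  refine Finset.sum_congr rfl fun χ hχ => ?_
  rw [hq χ (Finset.mem_filter.1 hχ).2 v hv, hq χ (Finset.mem_filter.1 hχ).2 w hw, map_intCast]

/-- A single orbit: the columns are equal. -/
theorem klein_const (hM : Cfsg.IsPModular 2 M) (hmax : Cfsg.IsMaximalBrauerPair 2 M B P e)
    (hV : IsKleinFour P) (hr : Nat.card (inertR P e) = 3) (f : Cfsg.IrrCharacter G) {v w : P}
    (hv : v ≠ 1) (hw : w ≠ 1) :
    coef 2 M e (f : G → ℂ) (v : G) = coef 2 M e (f : G → ℂ) (w : G) := by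
  classical
  haveI := Fintype.ofFinite G
  haveI := Fintype.ofFinite P
  haveI := Fintype.ofFinite (inertR P e)
  have hab := KleinFourBlock.comm_of_klein hV
  have hfree := frees_of_klein hM hmax hV
  have hbij : Function.Bijective fun β : inertR P e =>
      (⟨(β : MulAut P) v, fun h => hv ((β : MulAut P).injective (h.trans (map_one _).symm))⟩ :
        {x : P // x ≠ 1}) := by
    rw [Fintype.bijective_iff_injective_and_card]
    refine ⟨fun a b hab' => ?_, ?_⟩
    · have h0 : (a : MulAut P) v = (b : MulAut P) v := congrArg Subtype.val hab'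
      have h1 : ((a : MulAut P)⁻¹ * b) v = v := by
        rw [MulAut.mul_apply, ← h0]
        exact MulEquiv.symm_apply_apply _ _
      exact Subtype.ext (inv_mul_eq_one.1 (hfree.eq_one (mul_mem (inv_mem a.2) b.2) hv h1))
    · rw [Fintype.card_subtype_compl, Fintype.card_subtype_eq, ← Nat.card_eq_fintype_card,
        ← Nat.card_eq_fintype_card, hr, hV.card_four]
  obtain ⟨β, hβ⟩ := hbij.2 ⟨w, hw⟩
  have hw' : (β : MulAut P) v = w := congrArg Subtype.val hβ
  rw [← hw', coef_inertR hM hmax hab hfree β.2 hv (irr_isClassFunction f)]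

/-- Two orthogonal columns of signs, read after normalizing a third, label the four rows. -/
theorem bij_of_orth {ι : Type*} (s : Finset ι) (hs : s.card = 4) (a b c : ι → ℤ)
    (ha : ∀ i ∈ s, a i = 1 ∨ a i = -1) (hb : ∀ i ∈ s, b i = 1 ∨ b i = -1)
    (hc : ∀ i ∈ s, c i = 1 ∨ c i = -1) (hab : ∑ i ∈ s, a i * b i = 0)
    (hac : ∑ i ∈ s, a i * c i = 0) (hbc : ∑ i ∈ s, b i * c i = 0) :
    Set.BijOn (fun i => (a i * b i, a i * c i)) (s : Set ι)
      ((({1, -1} : Finset ℤ) ×ˢ ({1, -1} : Finset ℤ) : Finset (ℤ × ℤ)) : Set (ℤ × ℤ)) := by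
  classical
  set T : Finset (ℤ × ℤ) := ({1, -1} : Finset ℤ) ×ˢ ({1, -1} : Finset ℤ) with hT
  have hmem : ∀ i ∈ s, (a i * b i, a i * c i) ∈ T := fun i hi => by
    rcases ha i hi with h1 | h1 <;> rcases hb i hi with h2 | h2 <;> rcases hc i hi with h3 | h3 <;>
      simp [hT, h1, h2, h3]
  have hsurj : ∀ z ∈ T, ∃ i ∈ s, (a i * b i, a i * c i) = z := by
    rintro ⟨x, y⟩ hxy
    simp only [hT, Finset.mem_product, Finset.mem_insert, Finset.mem_singleton] at hxy
    by_contra hcon
    push Not at hcon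
    have h4 : ∑ i ∈ s, (1 + x * (a i * b i)) * (1 + y * (a i * c i)) = 4 := by
      calc ∑ i ∈ s, (1 + x * (a i * b i)) * (1 + y * (a i * c i))
          = ∑ i ∈ s, (1 + x * (a i * b i) + y * (a i * c i) + x * y * (b i * c i)) := by
            refine Finset.sum_congr rfl fun i hi => ?_
            rcases ha i hi with h1 | h1 <;> rw [h1] <;> ring
        _ = 4 := by
            simp only [Finset.sum_add_distrib, ← Finset.mul_sum, hab, hac, hbc, mul_zero,
              add_zero, Finset.sum_const, hs]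
            norm_num
    rw [Finset.sum_eq_zero fun i hi => ?_] at h4
    · norm_num at h4
    have hne := hcon i hi
    rcases ha i hi with h1 | h1 <;> rcases hb i hi with h2 | h2 <;> rcases hc i hi with h3 | h3 <;>
      rcases hxy.1 with h5 | h5 <;> rcases hxy.2 with h6 | h6 <;> subst h5 <;> subst h6 <;>
      simp [h1, h2, h3] at hne ⊢
  refine ⟨hmem, ?_, fun z hz => ?_⟩
  · intro i hi j hj hij
    have hcard : s.card ≤ T.card := by simp [hs, hT]
    exact Finset.inj_on_of_surj_on_of_card_le (fun i _ => (a i * b i, a i * c i))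
      (fun i hi => hmem i hi) (fun z hz => by
        obtain ⟨k, hk, hkz⟩ := hsurj z hz
        exact ⟨k, hk, hkz⟩) hcard hi hj hij
  · obtain ⟨i, hi, hiz⟩ := hsurj z hz
    exact ⟨i, hi, hiz⟩

end Cfsg.Agent.Blocks.Star
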